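import Cfsg.Agent.Lib.AutPSU.Basic

/-!
# Transvection groups of `PSU_n(q)` are permuted by all automorphisms

The Heisenberg group of an isotropic vector `e` lies in a Sylow subgroup fixing `e`, and an element
commuting with it is a transvection at `e`.
-/

set_option autoImplicit false
set_option linter.unusedSectionVars false

namespace Cfsg.Agent.AutPSU.Centre

open Matrix Cfsg.Agent.Classical Cfsg.Agent.Classical.Unitary Cfsg.Agent.Forms
  Cfsg.Agent.AutPSU.Basic

universe u

variable {F : Type u} [Field F] [Fintype F] {q n : ℕ} (hF : Fintype.card F = q ^ 2)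

local notation "Vec" => (Fin n → F)
local notation "Mat" => Matrix (Fin n) (Fin n) F
local notation "SUn" => Cfsg.SU n F q
local notation "H" => Cfsg.hermForm n F q

/-- The parameters of a Heisenberg element at `e`. -/
def Ok (q : ℕ) (e w : Fin n → F) (a : F) : Prop :=
  Cfsg.hermForm n F q w e = 0 ∧ a + a ^ q = -Cfsg.hermForm n F q w w

/-- `s` is `x ↦ x + H(x,e)(w + a e) - H(x,w) e`. -/
def IsHeis (e : Vec) (s : SUn) (w : Vec) (a : F) : Prop :=
  ∀ x : Vec, mat s *ᵥ x = x + H x e • (w + a • e) - H x w • e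

include hF

theorem exists_ok {e w : Vec} (hw : H w e = 0) : ∃ a : F, Ok q e w a := by
  obtain ⟨a, ha⟩ := exists_trace_eq hF (c := -H w w) (by
    rw [← HermStd.qHom_apply hF, map_neg, HermStd.qHom_apply, H_conj hF])
  exact ⟨a, hw, ha⟩

/-- The Heisenberg element with parameters `w`, `a`. -/
def heisEl {e w : Vec} (he : H e e = 0) {a : F} (hok : Ok q e w a) : SUn :=
  suMk (two q (w + a • e) e (-e) w) (det_heis he hok.1 ((H_eq_zero_comm hF).1 hok.1))
    (heis_preserves hF he hok.1 hok.2)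

theorem isHeis_heisEl {e w : Vec} (he : H e e = 0) {a : F} (hok : Ok q e w a) :
    IsHeis e (heisEl hF he hok) w a := fun x => by
  rw [heisEl, suMk_mulVec, two_mulVec, smul_neg]
  abel

theorem IsHeis.mul {e : Vec} (he : H e e = 0) {s t : SUn} {w w' : Vec} {a a' : F}
    (hw : H w e = 0) (hw' : H w' e = 0) (hs : IsHeis e s w a) (ht : IsHeis e t w' a') :
    IsHeis e (s * t) (w + w') (a + a' - H w' w) := fun x => by
  have hew : H e w = 0 := (H_eq_zero_comm hF).1 hw
  rw [mul_mulVec, hs, ht]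
  simp only [H_add_left, H_sub_left, H_smul_left, he, hw', hew, H_add_right hF, mul_zero, add_zero,
    sub_zero]
  module

theorem Ok.add {e w w' : Vec} {a a' : F} (h : Ok q e w a) (h' : Ok q e w' a') :
    Ok q e (w + w') (a + a' - H w' w) := by
  refine ⟨by rw [H_add_left, h.1, h'.1, add_zero], ?_⟩
  rw [← HermStd.qHom_apply hF, map_sub, map_add, HermStd.qHom_apply, HermStd.qHom_apply,
    HermStd.qHom_apply, H_conj hF]
  simp only [H_add_left, H_add_right hF]
  linear_combination h.2 + h'.2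

theorem Ok.inv {e w : Vec} {a : F} (h : Ok q e w a) : Ok q e (-w) (a ^ q) := by
  refine ⟨by rw [H_neg_left, h.1, neg_zero], ?_⟩
  rw [pow_qq hF, H_neg_left, H_neg_right hF]
  linear_combination h.2

theorem IsHeis.unique {e : Vec} (he : H e e = 0) (he0 : e ≠ 0) {s : SUn} {w w' : Vec} {a a' : F}
    (hs : IsHeis e s w a) (hs' : IsHeis e s w' a') :
    (∃ c : F, w' = w + c • e) ∧ (w = w' → a = a') := by
  obtain ⟨y, -, hy⟩ := exists_partner hF he0 he
  have hye : H y e = 1 := by rw [← H_conj hF, hy, one_pow]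
  have h := (hs y).symm.trans (hs' y)
  rw [hye, one_smul, one_smul] at h
  refine ⟨⟨a - a' - H y w + H y w', ?_⟩, fun hww => ?_⟩
  · linear_combination (norm := module) -h
  · subst hww
    have h1 : (a - a') • e = 0 := by linear_combination (norm := module) h
    exact sub_eq_zero.1 ((smul_eq_zero.1 h1).resolve_right he0)

/-- The Heisenberg group of `e`. -/
def heisGroup {e : Vec} (he : H e e = 0) : Subgroup SUn where
  carrier := {s | ∃ w a, Ok q e w a ∧ IsHeis e s w a}
  one_mem' := ⟨0, 0, ⟨H_zero_left e, by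
      rw [zero_pow (q_ne_zero hF), H_zero_left, add_zero, neg_zero]⟩, fun x => by
    rw [mat_one, Matrix.one_mulVec, zero_smul, add_zero, smul_zero, H_zero_right hF, zero_smul,
      add_zero, sub_zero]⟩
  mul_mem' := by
    rintro s t ⟨w, a, hok, hs⟩ ⟨w', a', hok', ht⟩
    exact ⟨_, _, Ok.add hF hok hok', hs.mul hF he hok.1 hok'.1 ht⟩
  inv_mem' := by
    rintro s ⟨w, a, hok, hs⟩
    have hok' := Ok.inv hF hok
    refine ⟨-w, a ^ q, hok', ?_⟩
    have h1 : heisEl hF he hok' * s = 1 := SU_ext fun x => by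
      rw [(isHeis_heisEl hF he hok').mul hF he hok'.1 hok.1 hs x, mat_one, Matrix.one_mulVec,
        neg_add_cancel, zero_add, H_zero_right hF, zero_smul, sub_zero, add_eq_left, H_neg_right hF]
      rw [show a ^ q + a - -H w w = 0 by linear_combination hok.2, zero_smul, smul_zero]
    rw [inv_eq_of_mul_eq_one_left h1]
    exact isHeis_heisEl hF he hok'

theorem tvu_mem_heisGroup {e : Vec} (he : H e e = 0) {c : F} (hc : c + c ^ q = 0) :
    tvu hF he hc ∈ heisGroup hF he :=
  ⟨0, c, ⟨H_zero_left e, by rw [H_zero_left, neg_zero, hc]⟩, fun x => by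
    rw [tvu_mulVec, H_zero_right hF, zero_smul, sub_zero, zero_add, smul_smul, mul_comm]⟩

variable (p : ℕ) [Fact p.Prime] [CharP F p]

theorem heis_pow {e : Vec} (he : H e e = 0) {s : SUn} (hs : s ∈ heisGroup hF he) :
    s ^ p ^ 2 = 1 := by
  obtain ⟨w, a, hok, hs⟩ := hs
  have key : ∀ (s : SUn) (w : Vec) (a : F), Ok q e w a → IsHeis e s w a →
      ∀ k : ℕ, ∃ b : F, Ok q e ((k : F) • w) b ∧ IsHeis e (s ^ k) ((k : F) • w) b ∧
        (w = 0 → b = (k : F) * a) := by
    intro s w a hok hs k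
    induction k with
    | zero =>
      refine ⟨0, ⟨by simp [H_zero_left], by simp [H_zero_left, q_ne_zero hF]⟩, fun x => ?_, fun _ => by simp⟩
      simp [mat_one, H_zero_right hF]
    | succ k ih =>
      obtain ⟨b, hb1, hb2, hb3⟩ := ih
      refine ⟨b + a - H w ((k : F) • w), ?_, ?_, fun hw => ?_⟩
      · have := Ok.add hF hb1 hok
        rwa [show ((k : F) • w + w) = ((k + 1 : ℕ) : F) • w by push_cast; module] at this
      · have := hb2.mul hF he hb1.1 hok.1 hs
        rwa [← pow_succ, show ((k : F) • w + w) = ((k + 1 : ℕ) : F) • w by push_cast; module] at this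
      · rw [hb3 hw, hw, H_zero_left]; push_cast; ring
  obtain ⟨b, hb1, hb2, -⟩ := key s w a hok hs p
  rw [CharP.cast_eq_zero F p, zero_smul] at hb1 hb2
  obtain ⟨b', -, hb', hb''⟩ := key _ _ _ hb1 hb2 p
  rw [CharP.cast_eq_zero F p, zero_smul] at hb'
  rw [CharP.cast_eq_zero F p, zero_mul] at hb''
  refine SU_ext fun x => ?_
  rw [pow_two, pow_mul, hb' x, hb'' rfl, mat_one, Matrix.one_mulVec, H_zero_right hF]
  simp

theorem isPGroup_heisGroup {e : Vec} (he : H e e = 0) : IsPGroup p (heisGroup hF he) :=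
  fun s => ⟨2, Subtype.ext (heis_pow hF p he s.2)⟩

/-- Classes of elements of `p`-power order determine the elements. -/
theorem mk_inj_pow (hn : 2 ≤ n) {s t : SUn} {i j : ℕ} (hs : s ^ p ^ i = 1) (ht : t ^ p ^ j = 1)
    (h : (QuotientGroup.mk s : PSU n F q) = QuotientGroup.mk t) : s = t := by
  obtain ⟨a, ha⟩ := (mk_eq_mk_iff hF hn s t).1 h
  have hpw : ∀ (k : ℕ) (v : Vec), mat (t ^ k) *ᵥ v = a ^ k • (mat (s ^ k) *ᵥ v) := by
    intro k
    induction k with
    | zero => intro v; simp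
    | succ k ih =>
      intro v
      rw [pow_succ, pow_succ s, mul_mulVec, mul_mulVec, ha, Matrix.mulVec_smul, ih, smul_smul,
        ← pow_succ']
  have hs' : s ^ p ^ (i + j) = 1 := by rw [pow_add, pow_mul, hs, one_pow]
  have ht' : t ^ p ^ (i + j) = 1 := by rw [pow_add, mul_comm, pow_mul, ht, one_pow]
  set v : Vec := Pi.single ⟨0, by omega⟩ 1
  have h1 := congrFun (hpw (p ^ (i + j)) v) ⟨0, by omega⟩
  rw [hs', ht', mat_one, Matrix.one_mulVec, Pi.smul_apply, smul_eq_mul] at h1
  have ha1 : a = 1 := iterateFrobenius_inj F p (i + j) (by simpa [v, iterateFrobenius_def] using h1.symm)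
  exact SU_ext fun x => by rw [ha, ha1, one_smul]

/-- A vector orthogonal to `e^⊥` is a multiple of `e`. -/
theorem eq_smul_of_perp {e : Vec} (he : H e e = 0) (he0 : e ≠ 0) {u : Vec}
    (h : ∀ w, H w e = 0 → H u w = 0) : ∃ c : F, u = c • e := by
  obtain ⟨y, -, hy⟩ := exists_partner hF he0 he
  have hye : H y e = 1 := by rw [← H_conj hF, hy, one_pow]
  refine ⟨H u y, sub_eq_zero.1 (eq_zero_of_H hF fun x => ?_)⟩
  have hx := h (x - H x e • y) (by rw [H_sub_left, H_smul_left, hye, mul_one, sub_self])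
  rw [H_sub_right hF, H_smul_right, H_conj hF] at hx
  rw [H_sub_left, H_smul_left]
  linear_combination hx

theorem fixed_heis (hn : 3 ≤ n) {e : Vec} (he : H e e = 0) (he0 : e ≠ 0) {b : Vec}
    (h : ∀ s ∈ heisGroup hF he, mat s *ᵥ b = b) : ∃ c : F, b = c • e := by
  have hb : ∀ w a, Ok q e w a → H b e • (w + a • e) = H b w • e := fun w a hok => by
    have h1 := h _ ⟨w, a, hok, isHeis_heisEl hF he hok⟩
    rw [isHeis_heisEl hF he hok b, add_sub_assoc, add_eq_left, sub_eq_zero] at h1
    exact h1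
  have hbe : H b e = 0 := by
    by_contra hne
    obtain ⟨y, -, hy⟩ := exists_partner hF he0 he
    obtain ⟨w, hw0, hwe, hwy⟩ := exists_perp_two hF hn e y
    obtain ⟨a, hok⟩ := exists_ok hF hwe
    have h1 := congrArg (fun z => H z y) (hb w a hok)
    simp only [H_smul_left, H_add_left, hwy, hy, mul_one, zero_add] at h1
    refine hw0 ?_
    have h2 := hb w a hok
    rw [← h1, ← smul_smul] at h2
    exact add_eq_right.1 (smul_right_injective _ hne h2)
  refine eq_smul_of_perp hF he he0 fun w hw => ?_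
  obtain ⟨a, hok⟩ := exists_ok hF hw
  have h1 := hb w a hok
  rw [hbe, zero_smul, eq_comm, smul_eq_zero] at h1
  exact h1.resolve_right he0

theorem exists_sylow (hn : 3 ≤ n) {e : Vec} (he : H e e = 0) (he0 : e ≠ 0) :
    ∃ P : Sylow p SUn, heisGroup hF he ≤ (P : Subgroup SUn) ∧
      ∀ s ∈ (P : Subgroup SUn), mat s *ᵥ e = e := by
  obtain ⟨P, hP⟩ := (isPGroup_heisGroup hF p he).exists_le_sylow
  refine ⟨P, hP, ?_⟩
  let act : MulAction (P : Subgroup SUn) Vec :=
    { smul := fun s v => mat (s : SUn) *ᵥ v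
      one_smul := fun v => by
        change mat (1 : SUn) *ᵥ v = v
        rw [mat_one, Matrix.one_mulVec]
      mul_smul := fun s t v => mul_mulVec (s : SUn) (t : SUn) v }
  have hdvd : p ∣ Nat.card Vec := by
    rw [Nat.card_eq_fintype_card, Fintype.card_fun, Fintype.card_fin]
    obtain ⟨a, -, ha⟩ := FiniteField.card F p
    rw [ha, ← pow_mul]
    exact dvd_pow_self _ (mul_ne_zero a.pos.ne' (by omega))
  obtain ⟨b, hb, hne⟩ := P.2.exists_fixed_point_of_prime_dvd_card_of_fixed_point Vec hdvd (a := 0)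
    (fun s => Matrix.mulVec_zero (mat (s : SUn)))
  have hb' : ∀ s ∈ (P : Subgroup SUn), mat s *ᵥ b = b := fun s hs => hb ⟨s, hs⟩
  obtain ⟨c, rfl⟩ := fixed_heis hF hn he he0 fun s hs => hb' s (hP hs)
  have hc : c ≠ 0 := fun h0 => hne (by rw [h0, zero_smul])
  intro s hs
  have h1 := hb' s hs
  rw [Matrix.mulVec_smul] at h1
  exact smul_right_injective _ hc h1

/-- An element fixing `e` that commutes with the Heisenberg group is a transvection at `e`. -/
theorem centre_form {e : Vec} (he : H e e = 0) (he0 : e ≠ 0) {z : SUn}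
    (hze : mat z *ᵥ e = e) (hcomm : ∀ s ∈ heisGroup hF he, z * s = s * z) :
    ∃ (c : F) (hc : c + c ^ q = 0), z = tvu hF he hc := by
  obtain ⟨y, hyy, hy⟩ := exists_partner hF he0 he
  have hye : H y e = 1 := by rw [← H_conj hF, hy, one_pow]
  have hzy : ∀ x, H (mat z *ᵥ x) e = H x e := fun x => by
    conv_lhs => rw [← hze]
    rw [SU_H]
  have hw : ∀ w, H w e = 0 → mat z *ᵥ w - w = H (y - mat z *ᵥ y) w • e := by
    intro w hw
    obtain ⟨a, hok⟩ := exists_ok hF hw
    have h1 := congrArg (fun t : SUn => mat t *ᵥ y) (hcomm _ ⟨w, a, hok, isHeis_heisEl hF he hok⟩)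
    simp only [mul_mulVec, isHeis_heisEl hF he hok _, Matrix.mulVec_sub, Matrix.mulVec_add,
      Matrix.mulVec_smul, hze, hzy, hye, one_smul] at h1
    rw [H_sub_left]
    linear_combination (norm := module) h1
  obtain ⟨t, ht⟩ : ∃ t : F, t ^ q ≠ t := by
    by_contra h
    push Not at h
    exact HermStd.qHom_ne_id hF (RingHom.ext h)
  have hzero : ∀ w, H w e = 0 → H (y - mat z *ᵥ y) w = 0 := by
    intro w hw0
    set l := H (y - mat z *ᵥ y) w
    have h1 := hw w hw0
    have h2 := hw (t • w) (by rw [H_smul_left, hw0, mul_zero])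
    rw [Matrix.mulVec_smul, ← smul_sub, h1, H_smul_right, smul_smul] at h2
    have h3 : (t - t ^ q) * l = 0 := by
      have h4 : (t * l - t ^ q * l) • e = 0 := by rw [sub_smul, h2, sub_self]
      rw [sub_mul]
      exact (smul_eq_zero.1 h4).resolve_right he0
    exact (mul_eq_zero.1 h3).resolve_left (sub_ne_zero.2 (Ne.symm ht))
  obtain ⟨d, hd⟩ := eq_smul_of_perp hF he he0 hzero
  have hzy' : mat z *ᵥ y = y + (-d) • e := by rw [neg_smul, ← hd]; abel
  have hc : -d + (-d) ^ q = 0 := by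
    have h1 := SU_H z y y
    rw [hzy'] at h1
    simp only [H_add_left, H_add_right hF, H_smul_left, H_smul_right, he, hye, hy, hyy] at h1
    linear_combination h1
  refine ⟨-d, hc, SU_ext fun x => ?_⟩
  have h1 := hw (x - H x e • y) (by rw [H_sub_left, H_smul_left, hye, mul_one, sub_self])
  rw [hzero _ (by rw [H_sub_left, H_smul_left, hye, mul_one, sub_self]), zero_smul, sub_eq_zero,
    Matrix.mulVec_sub, Matrix.mulVec_smul, hzy'] at h1
  rw [tvu_mulVec, mul_comm (-d)]
  linear_combination (norm := module) h1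

include p in
theorem map_rootX (hn : 3 ≤ n) (β : MulAut (PSU n F q)) {v : Vec} (hv0 : v ≠ 0) (hv : H v v = 0) :
    ∃ w : Vec, w ≠ 0 ∧ H w w = 0 ∧ (rootX v).map β.toMonoidHom = rootX (q := q) w := by
  classical
  obtain ⟨P, hU, hfix⟩ := exists_sylow hF p hn hv hv0
  set π : SUn →* PSU n F q := QuotientGroup.mk' (Subgroup.center SUn)
  let Q : Sylow p (PSU n F q) := P.mapSurjective (f := π) (QuotientGroup.mk'_surjective _)
  let Q' : Sylow p (PSU n F q) := Q.mapSurjective (f := β.toMonoidHom) β.surjective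
  obtain ⟨y, hy⟩ := MulAction.exists_smul_eq (PSU n F q) Q Q'
  have hQQ : ((P : Subgroup SUn).map π).map (MulAut.conj y).toMonoidHom =
      ((P : Subgroup SUn).map π).map β.toMonoidHom := by
    have := congrArg (fun S : Sylow p (PSU n F q) => (S : Subgroup (PSU n F q))) hy
    simp [Q, Q', Subgroup.pointwise_smul_def, Sylow.coe_subgroup_smul] at this
    exact this
  obtain ⟨s, rfl⟩ := QuotientGroup.mk_surjective y
  refine ⟨mat s *ᵥ v, mat_mulVec_ne_zero s hv0, by rw [SU_H, hv], ?_⟩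
  rw [← map_rootX_conj hF s hv]
  set cs : MulAut (PSU n F q) := MulAut.conj (QuotientGroup.mk s : PSU n F q)
  set γ : MulAut (PSU n F q) := cs⁻¹ * β with hγ
  have hγQ : ((P : Subgroup SUn).map π).map γ.toMonoidHom = (P : Subgroup SUn).map π := by
    rw [show γ.toMonoidHom = cs⁻¹.toMonoidHom.comp β.toMonoidHom from rfl, ← Subgroup.map_map, ← hQQ,
      Subgroup.map_map]
    exact (congrArg (fun φ => ((P : Subgroup SUn).map π).map φ) (MonoidHom.ext fun x =>
      MulAut.inv_apply_self (PSU n F q) cs x)).trans (Subgroup.map_id _)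
  have hle : (rootX v).map γ.toMonoidHom ≤ rootX (q := q) v := by
    rintro _ ⟨x, hx, rfl⟩
    obtain ⟨c, hc, rfl⟩ := (mem_rootX hF hv).1 hx
    have htP : tvu hF hv hc ∈ (P : Subgroup SUn) := hU (tvu_mem_heisGroup hF hv hc)
    have hmem : γ (π (tvu hF hv hc)) ∈ (P : Subgroup SUn).map π := hγQ ▸ ⟨_, ⟨_, htP, rfl⟩, rfl⟩
    obtain ⟨z, hz, hzx⟩ := hmem
    change γ (π (tvu hF hv hc)) ∈ rootX v
    rw [← hzx]
    have hcomm : ∀ h ∈ heisGroup hF hv, z * h = h * z := by
      intro h hh
      obtain ⟨i, hi⟩ := P.2 ⟨z * h, mul_mem hz (hU hh)⟩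
      obtain ⟨j, hj⟩ := P.2 ⟨h * z, mul_mem (hU hh) hz⟩
      refine mk_inj_pow hF p (by omega) (congrArg Subtype.val hi) (congrArg Subtype.val hj) ?_
      have hAQ : π h ∈ ((P : Subgroup SUn).map π).map γ.toMonoidHom :=
        hγQ.symm ▸ ⟨h, hU hh, rfl⟩
      obtain ⟨_, ⟨B, hB, rfl⟩, hwA⟩ := hAQ
      have hc' : tvu hF hv hc * B = B * tvu hF hv hc :=
        (mul_inv_eq_iff_eq_mul.1 (tvu_conj hF B (hfix B hB) hv hv hc)).symm
      change π (z * h) = π (h * z)
      rw [map_mul, map_mul, hzx, ← hwA]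
      change γ (π (tvu hF hv hc)) * γ (π B) = γ (π B) * γ (π (tvu hF hv hc))
      rw [← map_mul, ← map_mul, ← map_mul, hc', map_mul]
    obtain ⟨d, hd, rfl⟩ := centre_form hF hv hv0 (hfix z hz) hcomm
    exact (mem_rootX hF hv).2 ⟨d, hd, rfl⟩
  calc (rootX v).map β.toMonoidHom
      = ((rootX v).map γ.toMonoidHom).map cs.toMonoidHom := by
        rw [Subgroup.map_map]
        congr 1
        exact MonoidHom.ext fun x => (MulAut.apply_inv_self (PSU n F q) cs (β x)).symm
    _ = _ := by rw [Subgroup.eq_of_le_of_card_ge hle (Subgroup.card_map_of_injective γ.injective).ge]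

end Cfsg.Agent.AutPSU.Centre
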