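import Cfsg.Agent.Lib.AutPSU.Centre

/-!
# The Heisenberg group is intrinsic to its transvection group
-/

set_option autoImplicit false
set_option linter.unusedSectionVars false

namespace Cfsg.Agent.AutPSU.Radical

open Matrix Cfsg.Agent.Classical Cfsg.Agent.Classical.Unitary Cfsg.Agent.Forms
  Cfsg.Agent.AutPSU.Basic Cfsg.Agent.AutPSU.Centre

universe u

variable {F : Type u} [Field F] [Fintype F] {q n : ℕ} (hF : Fintype.card F = q ^ 2)

local notation "Vec" => (Fin n → F)
local notation "Mat" => Matrix (Fin n) (Fin n) F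
local notation "SUn" => Cfsg.SU n F q
local notation "H" => Cfsg.hermForm n F q

include hF

/-- A hyperbolic partner of `r` orthogonal to a hyperbolic pair `e`, `f`. -/
theorem exists_partner_in {e f r : Vec} (he : H e e = 0) (hf : H f f = 0) (hef : H e f = 1)
    (hr0 : r ≠ 0) (hr : H r r = 0) (hre : H r e = 0) (hrf : H r f = 0) :
    ∃ r' : Vec, H r' r' = 0 ∧ H r r' = 1 ∧ H r' e = 0 ∧ H r' f = 0 := by
  have hfe : H f e = 1 := by rw [← H_conj hF, hef, one_pow]
  have her : H e r = 0 := (H_eq_zero_comm hF).1 hre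
  have hfr : H f r = 0 := (H_eq_zero_comm hF).1 hrf
  obtain ⟨x, hx⟩ := exists_H_eq_one hF hr0
  set x' := x - H x f • e - H x e • f with hx'
  have h1 : H r x' = 1 := by
    simp [hx', H_sub_right hF, H_smul_right, hx, hre, hrf]
  have h2 : H x' e = 0 := by simp [hx', H_sub_left, H_smul_left, he, hfe]
  have h3 : H x' f = 0 := by simp [hx', H_sub_left, H_smul_left, hf, hef]
  have h4 : H x' r = 1 := by rw [← H_conj hF, h1, one_pow]
  obtain ⟨b, hb⟩ := exists_trace_eq hF (c := -H x' x') (by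
    rw [← HermStd.qHom_apply hF, map_neg, HermStd.qHom_apply, H_conj hF])
  refine ⟨x' + b • r, ?_, ?_, ?_, ?_⟩
  · simp only [H_add_left, H_add_right hF, H_smul_left, H_smul_right, hr, h1, h4]
    linear_combination hb
  · simp [H_add_right hF, H_smul_right, hr, h1]
  · simp [H_add_left, H_smul_left, h2, hre]
  · simp [H_add_left, H_smul_left, h3, hrf]

/-- An isotropic vector orthogonal to all isotropic vectors orthogonal to `e` and `r`. -/
theorem mem_span_of_perp {e r x : Vec} (he : H e e = 0) (he0 : e ≠ 0) (hr : H r r = 0)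
    (hre : H r e = 0) (hx : H x x = 0) (hxe : H x e = 0) (hxr : H x r = 0)
    (h : ∀ s : Vec, H s s = 0 → H s e = 0 → H s r = 0 → H x s = 0) :
    ∃ a b : F, x = a • r + b • e := by
  by_cases hre0 : ∃ c : F, r = c • e
  · obtain ⟨c, rfl⟩ := hre0
    by_contra hcon
    push Not at hcon
    have hli : ∀ b : F, x ≠ b • e := fun b hb => hcon 0 b (by rw [hb, zero_smul, zero_add])
    have hx0 : x ≠ 0 := fun h0 => hli 0 (by rw [h0, zero_smul])
    obtain ⟨s, hs, hxs, hes⟩ := exists_partner_perp hF hx0 hx hxe hli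
    have hse : H s e = 0 := (H_eq_zero_comm hF).1 hes
    rw [h s hs hse (by rw [H_smul_right, hse, mul_zero])] at hxs
    exact zero_ne_one hxs
  push Not at hre0
  have her : H e r = 0 := (H_eq_zero_comm hF).1 hre
  have hr0 : r ≠ 0 := fun h0 => hre0 0 (by rw [h0, zero_smul])
  obtain ⟨f, hf, hef, hrf⟩ := exists_partner_perp hF he0 he her
    (fun c hc => hre0 c⁻¹ (by
      have hc0 : c ≠ 0 := fun h0 => he0 (by rw [hc, h0, zero_smul])
      rw [hc, smul_smul, inv_mul_cancel₀ hc0, one_smul]))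
  obtain ⟨r', hr', hrr', hr'e, hr'f⟩ := exists_partner_in hF he hf hef hr0 hr hre hrf
  have hfe : H f e = 1 := by rw [← H_conj hF, hef, one_pow]
  have hr'r : H r' r = 1 := by rw [← H_conj hF, hrr', one_pow]
  have hfr : H f r = 0 := (H_eq_zero_comm hF).1 hrf
  have her' : H e r' = 0 := (H_eq_zero_comm hF).1 hr'e
  have hfr' : H f r' = 0 := (H_eq_zero_comm hF).1 hr'f
  have hex : H e x = 0 := (H_eq_zero_comm hF).1 hxe
  have hrx : H r x = 0 := (H_eq_zero_comm hF).1 hxr
  refine ⟨H x r', H x f, ?_⟩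
  set x' := x - H x r' • r - H x f • e with hx'
  suffices h0 : x' = 0 by linear_combination (norm := module) h0
  by_contra hx'0
  have k1 : H x' x' = 0 := by
    simp [hx', H_sub_left, H_sub_right hF, H_smul_left, H_smul_right, hr, he, hre, her, hx, hxe, hxr,
      hex, hrx]
  have k2 : H x' e = 0 := by simp [hx', H_sub_left, H_smul_left, hre, he, hxe]
  have k3 : H x' f = 0 := by simp [hx', H_sub_left, H_smul_left, hrf, hef]
  have k4 : H x' r = 0 := by simp [hx', H_sub_left, H_smul_left, hr, her, hxr]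
  obtain ⟨s, hs, hxs, hse, hsf⟩ := exists_partner_in hF he hf hef hx'0 k1 k2 k3
  have hsx : H s x' = 1 := by rw [← H_conj hF, hxs, one_pow]
  set s' := s - H s r' • r - H s r • r' with hs'
  have m2 : H s' e = 0 := by simp [hs', H_sub_left, H_smul_left, hre, hr'e, hse]
  have m3 : H s' r = 0 := by simp [hs', H_sub_left, H_smul_left, hr, hr'r]
  have k5 : H x' r' = 0 := by simp [hx', H_sub_left, H_smul_left, hrr', her']
  have m1 : H x' s' = 1 := by simp [hs', H_sub_right hF, H_smul_right, hxs, k4, k5]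
  have m1' : H s' x' = 1 := by rw [← H_conj hF, m1, one_pow]
  obtain ⟨b, hb⟩ := exists_trace_eq hF (c := -H s' s') (by
    rw [← HermStd.qHom_apply hF, map_neg, HermStd.qHom_apply, H_conj hF])
  have hh := h (s' + b • x') (by
      simp only [H_add_left, H_add_right hF, H_smul_left, H_smul_right, k1, m1, m1']
      linear_combination hb)
    (by simp [H_add_left, H_smul_left, m2, k2]) (by simp [H_add_left, H_smul_left, m3, k4])
  have hxdec : H x (s' + b • x') = H x' (s' + b • x') := by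
    rw [hx', H_sub_left, H_sub_left, H_smul_left, H_smul_left,
      (H_eq_zero_comm hF).1 (show H (s' + b • x') r = 0 by simp [H_add_left, H_smul_left, m3, k4]),
      (H_eq_zero_comm hF).1 (show H (s' + b • x') e = 0 by simp [H_add_left, H_smul_left, m2, k2]),
      mul_zero, mul_zero, sub_zero, sub_zero]
  rw [hxdec, H_add_right hF, H_smul_right, m1, k1, mul_zero, add_zero] at hh
  exact one_ne_zero hh

/-- In dimension three a hyperbolic pair and an orthogonal unit vector detect all vectors. -/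
theorem eq_zero_three (hn : n = 3) {e f w₀ : Vec} (he : H e e = 0) (hf : H f f = 0) (hef : H e f = 1)
    (hwe : H w₀ e = 0) (hwf : H w₀ f = 0) (hww : H w₀ w₀ = 1) {x : Vec} (hxe : H x e = 0)
    (hxf : H x f = 0) (hxw : H x w₀ = 0) : x = 0 := by
  have hfe : H f e = 1 := by rw [← H_conj hF, hef, one_pow]
  have hew : H e w₀ = 0 := (H_eq_zero_comm hF).1 hwe
  have hfw : H f w₀ = 0 := (H_eq_zero_comm hF).1 hwf
  let L : Vec →ₗ[F] F × F × F := (hlin q e).prod ((hlin q f).prod (hlin q w₀))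
  have hsur : Function.Surjective L := fun ⟨a, b, c⟩ => by
    refine ⟨a • f + b • e + c • w₀, ?_⟩
    have e1 : H (a • f + b • e + c • w₀) e = a := by simp [H_add_left, H_smul_left, hfe, he, hwe]
    have e2 : H (a • f + b • e + c • w₀) f = b := by simp [H_add_left, H_smul_left, hf, hef, hwf]
    have e3 : H (a • f + b • e + c • w₀) w₀ = c := by simp [H_add_left, H_smul_left, hfw, hew, hww]
    exact Prod.ext e1 (Prod.ext e2 e3)
  have hinj := (LinearMap.injective_iff_surjective_of_finrank_eq_finrank (f := L) (by simp [hn])).2 hsur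
  refine hinj ?_
  rw [map_zero]
  exact Prod.ext hxe (Prod.ext hxf hxw)

/-- Every vector orthogonal to `e` is a combination of `e` and vectors of a basic type. -/
theorem exists_span (hn : 3 ≤ n) {e : Vec} (he : H e e = 0) (he0 : e ≠ 0) (S : Submodule F Vec)
    (heS : e ∈ S) (hiso : ∀ r : Vec, H r r = 0 → H r e = 0 → r ∈ S)
    (hthree : n = 3 → ∀ w : Vec, H w e = 0 → w ∈ S) : ∀ w : Vec, H w e = 0 → w ∈ S := by
  intro w hw
  by_cases h3 : n = 3
  · exact hthree h3 w hw
  obtain ⟨f, hf, hef⟩ := exists_partner hF he0 he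
  obtain ⟨r, hr0, hr, hre, hrf⟩ := (exists_perp_pair hF hn he hf hef).2 (by omega)
  obtain ⟨r', hr', hrr', hr'e, hr'f⟩ := exists_partner_in hF he hf hef hr0 hr hre hrf
  have hr'r : H r' r = 1 := by rw [← H_conj hF, hrr', one_pow]
  set z := w - H w r' • r - H w r • r' with hz
  have z1 : H z r = 0 := by simp [hz, H_sub_left, H_smul_left, hr, hr'r]
  have z2 : H z r' = 0 := by simp [hz, H_sub_left, H_smul_left, hr', hrr']
  have z3 : H z e = 0 := by simp [hz, H_sub_left, H_smul_left, hre, hr'e, hw]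
  have z1' : H r z = 0 := (H_eq_zero_comm hF).1 z1
  have z2' : H r' z = 0 := (H_eq_zero_comm hF).1 z2
  obtain ⟨a, ha⟩ := exists_trace_eq hF (c := -H z z) (by
    rw [← HermStd.qHom_apply hF, map_neg, HermStd.qHom_apply, H_conj hF])
  have hmem : z + a • r + r' ∈ S := hiso _
    (by simp only [H_add_left, H_add_right hF, H_smul_left, H_smul_right, hr, hr', hrr', hr'r, z1,
          z2, z1', z2']
        linear_combination ha)
    (by simp [H_add_left, H_smul_left, z3, hre, hr'e])
  have hwd : w = (z + a • r + r') + (H w r' - a) • r + (H w r - 1) • r' := by rw [hz]; module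
  rw [hwd]
  exact add_mem (add_mem hmem (S.smul_mem _ (hiso r hr hre))) (S.smul_mem _ (hiso r' hr' hr'e))

variable (p : ℕ) [Fact p.Prime] [CharP F p]

theorem scalar_one {e r : Vec} {y : SUn} {i : ℕ} (hy : y ^ p ^ i = 1) (hye : mat y *ᵥ e = e)
    (hr : ∀ c : F, r ≠ c • e) {a b : F} (hyr : mat y *ᵥ r = a • r + b • e) : a = 1 := by
  have hpw : ∀ k : ℕ, ∃ c : F, mat (y ^ k) *ᵥ r = a ^ k • r + c • e := by
    intro k
    induction k with
    | zero => exact ⟨0, by rw [pow_zero y, mat_one]; simp⟩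
    | succ k ih =>
      obtain ⟨c, hc⟩ := ih
      refine ⟨a ^ k * b + c, ?_⟩
      rw [pow_succ', mul_mulVec, hc, Matrix.mulVec_add, Matrix.mulVec_smul, Matrix.mulVec_smul, hyr, hye,
        pow_succ]
      module
  obtain ⟨c, hc⟩ := hpw (p ^ i)
  rw [hy, mat_one, Matrix.one_mulVec] at hc
  refine iterateFrobenius_inj F p i ?_
  simp only [iterateFrobenius_def, one_pow]
  by_contra hne
  refine hr ((1 - a ^ p ^ i)⁻¹ * c) ?_
  rw [← smul_smul, eq_inv_smul_iff₀ (sub_ne_zero.2 (Ne.symm hne)), sub_smul, one_smul]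
  linear_combination (norm := module) hc

/-- The intrinsic description of the image of the Heisenberg group. -/
def Cond (q : ℕ) (p : ℕ) {n : ℕ} (e : Fin n → F) (x : PSU n F q) : Prop :=
  (∃ k : ℕ, x ^ p ^ k = 1) ∧ (∀ t ∈ rootX (q := q) e, x * t = t * x) ∧
    ∀ r s : Fin n → F, r ≠ 0 → s ≠ 0 → Cfsg.hermForm n F q r r = 0 → Cfsg.hermForm n F q s s = 0 →
      Cfsg.hermForm n F q r e = 0 → Cfsg.hermForm n F q s e = 0 → Cfsg.hermForm n F q s r = 0 →
      ∀ t ∈ rootX (q := q) r, ∀ u ∈ rootX (q := q) s, x * t * x⁻¹ * u = u * (x * t * x⁻¹)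

include p in
theorem coprime_center (hn : 2 ≤ n) : (Nat.card (Subgroup.center SUn)).Coprime p := by
  rw [natCard_center hF hn]
  refine (Nat.Prime.coprime_iff_not_dvd Fact.out).2 (fun h => ?_) |>.symm
  have h1 : p ∣ q := by
    obtain ⟨a, -, ha⟩ := FiniteField.card F p
    rw [hF] at ha
    exact (Fact.out : p.Prime).dvd_of_dvd_pow (ha ▸ dvd_pow_self p a.pos.ne')
  have h2 := Nat.dvd_sub (h.trans (Nat.gcd_dvd_right n (q + 1))) h1
  rw [Nat.add_sub_cancel_left] at h2
  exact (Fact.out : p.Prime).one_lt.not_ge (Nat.le_of_dvd one_pos h2)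

theorem cond_of_mem (hn : 3 ≤ n) {e : Vec} (he : H e e = 0) {h : SUn}
    (hh : h ∈ heisGroup hF he) : Cond q p e (QuotientGroup.mk h : PSU n F q) := by
  have hhe : mat h *ᵥ e = e := by
    obtain ⟨w, a, hok, hs⟩ := hh
    rw [hs, he, zero_smul, add_zero, (H_eq_zero_comm hF).1 hok.1, zero_smul, sub_zero]
  refine ⟨⟨2, by rw [← QuotientGroup.mk_pow, heis_pow hF p he hh]; rfl⟩, fun t ht => ?_,
    fun r s hr0 hs0 hr hs hre hse hsr t ht u hu => ?_⟩
  · obtain ⟨c, hc, rfl⟩ := (mem_rootX hF he).1 ht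
    rw [← QuotientGroup.mk_mul, mul_inv_eq_iff_eq_mul.1 (tvu_conj hF h hhe he he hc),
      QuotientGroup.mk_mul]
  · have hmem : (QuotientGroup.mk h : PSU n F q) * t * (QuotientGroup.mk h)⁻¹ ∈ rootX (mat h *ᵥ r) := by
      rw [← map_rootX_conj hF h hr]
      exact ⟨t, ht, rfl⟩
    refine (commute_rootX_iff hF hn (mat_mulVec_ne_zero h hr0) hs0 (by rw [SU_H, hr]) hs).2 ?_ _
      hmem _ hu
    obtain ⟨w, a, -, hw⟩ := hh
    have hes : H e s = 0 := (H_eq_zero_comm hF).1 hse
    have hrs : H r s = 0 := (H_eq_zero_comm hF).1 hsr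
    rw [hw r, hre, zero_smul, add_zero, H_sub_left, H_smul_left, hes, hrs, mul_zero, sub_zero]

theorem mem_of_cond (hn : 3 ≤ n) {e : Vec} (he : H e e = 0) (he0 : e ≠ 0) {x : PSU n F q}
    (hx : Cond q p e x) : ∃ h ∈ heisGroup hF he, QuotientGroup.mk h = x := by
  obtain ⟨⟨k, hk⟩, hcomm, hperp⟩ := hx
  obtain ⟨s, rfl⟩ := QuotientGroup.mk_surjective x
  -- a lift of `p`-power order
  have hc := coprime_center hF p (n := n) (by omega)
  rw [← QuotientGroup.mk_pow, QuotientGroup.eq_one_iff] at hk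
  set z : Subgroup.center SUn := (powCoprime (hc.pow_right k)).symm ⟨_, hk⟩
  have hz : (z : SUn) ^ p ^ k = s ^ p ^ k :=
    congrArg Subtype.val ((powCoprime (hc.pow_right k)).apply_symm_apply ⟨_, hk⟩)
  set y := s * (z : SUn)⁻¹ with hy
  have hzc : ∀ t : SUn, Commute t (z : SUn) := fun t => Subgroup.mem_center_iff.1 z.2 t
  have hypow : y ^ p ^ k = 1 := by
    rw [hy, (hzc s).inv_right.mul_pow, inv_pow, hz, mul_inv_cancel]
  have hmk : (QuotientGroup.mk y : PSU n F q) = QuotientGroup.mk s := by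
    rw [hy, QuotientGroup.mk_mul, QuotientGroup.mk_inv, (QuotientGroup.eq_one_iff _).2 z.2, inv_one,
      mul_one]
  rw [← hmk] at hcomm hperp ⊢
  -- it fixes `e`
  obtain ⟨l, hl⟩ : ∃ l : F, mat y *ᵥ e = l • e := by
    have h1 : (rootX e).map (MulAut.conj (QuotientGroup.mk y : PSU n F q)).toMonoidHom =
        rootX (q := q) e := by
      refine le_antisymm ?_ fun t ht => ⟨t, ht, ?_⟩
      · rintro _ ⟨t, ht, rfl⟩
        change (QuotientGroup.mk y : PSU n F q) * t * (QuotientGroup.mk y)⁻¹ ∈ rootX e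
        rw [hcomm t ht, mul_inv_cancel_right]
        exact ht
      · change (QuotientGroup.mk y : PSU n F q) * t * (QuotientGroup.mk y)⁻¹ = t
        rw [hcomm t ht, mul_inv_cancel_right]
    rw [map_rootX_conj hF y he,
      rootX_eq_iff hF hn (mat_mulVec_ne_zero y he0) he0 (by rw [SU_H, he]) he] at h1
    obtain ⟨a, ha, h1⟩ := h1
    exact ⟨a⁻¹, (eq_inv_smul_iff₀ ha).2 h1.symm⟩
  have hye : mat y *ᵥ e = e := by
    have hpw : ∀ m : ℕ, mat (y ^ m) *ᵥ e = l ^ m • e := fun m => by
      induction m with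
      | zero => rw [pow_zero y, mat_one]; simp
      | succ m ih => rw [pow_succ', mul_mulVec, ih, Matrix.mulVec_smul, hl, smul_smul, ← pow_succ]
    have h1 := hpw (p ^ k)
    rw [hypow, mat_one, Matrix.one_mulVec] at h1
    have h2 : l ^ p ^ k = 1 := by
      have h3 : (l ^ p ^ k - 1) • e = 0 := by rw [sub_smul, one_smul, ← h1, sub_self]
      exact sub_eq_zero.1 ((smul_eq_zero.1 h3).resolve_right he0)
    rw [hl, iterateFrobenius_inj F p k (by simp [iterateFrobenius_def, h2] :
      iterateFrobenius F p k l = iterateFrobenius F p k 1), one_smul]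
  have hyH : ∀ v, H (mat y *ᵥ v) e = H v e := fun v => by
    conv_lhs => rw [← hye]
    rw [SU_H]
  -- it acts trivially on `e^⊥ / e`
  let S : Submodule F Vec :=
    { carrier := {w | ∃ c : F, mat y *ᵥ w = w + c • e}
      zero_mem' := ⟨0, by simp⟩
      add_mem' := fun {a b} ⟨c, hc⟩ ⟨d, hd⟩ => ⟨c + d, by rw [Matrix.mulVec_add, hc, hd]; module⟩
      smul_mem' := fun t a ⟨c, hc⟩ => ⟨t * c, by rw [Matrix.mulVec_smul, hc]; module⟩ }
  have heS : e ∈ S := ⟨0, by rw [hye, zero_smul, add_zero]⟩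
  have hall : ∀ w : Vec, H w e = 0 → w ∈ S := by
    refine exists_span hF hn he he0 S heS (fun r hr hre => ?_) fun h3 w hw => ?_
    · by_cases hre0 : ∃ c : F, r = c • e
      · obtain ⟨c, rfl⟩ := hre0
        exact S.smul_mem c heS
      push Not at hre0
      have hr0 : r ≠ 0 := fun h0 => hre0 0 (by rw [h0, zero_smul])
      have hperp' : ∀ s : Vec, H s s = 0 → H s e = 0 → H s r = 0 → H (mat y *ᵥ r) s = 0 := by
        intro s hs hse hsr
        by_cases hs0 : s = 0
        · rw [hs0, H_zero_right hF]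
        refine (commute_rootX_iff hF hn (mat_mulVec_ne_zero y hr0) hs0 (by rw [SU_H, hr]) hs).1
          fun t' ht' u hu => ?_
        rw [← map_rootX_conj hF y hr] at ht'
        obtain ⟨t, ht, rfl⟩ := ht'
        exact hperp r s hr0 hs0 hr hs hre hse hsr t ht u hu
      obtain ⟨a, b, hab⟩ := mem_span_of_perp hF he he0 hr hre (by rw [SU_H, hr]) (by rw [hyH, hre])
        (hperp' r hr hre hr) hperp'
      refine ⟨b, ?_⟩
      rw [hab, scalar_one hF p hypow hye hre0 hab, one_smul]
    · obtain ⟨f, hf, hef⟩ := exists_partner hF he0 he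
      have hfe : H f e = 1 := by rw [← H_conj hF, hef, one_pow]
      obtain ⟨w₀, hwe, hwf, hww⟩ := (exists_perp_pair hF hn he hf hef).1
      have hew : H e w₀ = 0 := (H_eq_zero_comm hF).1 hwe
      have hdec : ∀ v : Vec, H v e = 0 → v = H v w₀ • w₀ + H v f • e := fun v hv => by
        refine sub_eq_zero.1 (eq_zero_three hF h3 he hf hef hwe hwf hww ?_ ?_ ?_) <;>
          simp [H_sub_left, H_add_left, H_smul_left, he, hef, hwe, hwf, hww, hew, hv]
      have hw0S : w₀ ∈ S := by
        have hd := hdec (mat y *ᵥ w₀) (by rw [hyH, hwe])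
        refine ⟨H (mat y *ᵥ w₀) f, ?_⟩
        conv_lhs => rw [hd]
        rw [scalar_one hF p hypow hye (fun c hc => by rw [hc, H_smul_left, H_smul_right, he] at hww; simp at hww) hd,
          one_smul]
      rw [hdec w hw]
      exact add_mem (S.smul_mem _ hw0S) (S.smul_mem _ heS)
  -- so it is a Heisenberg element
  obtain ⟨f, hf, hef⟩ := exists_partner hF he0 he
  have hfe : H f e = 1 := by rw [← H_conj hF, hef, one_pow]
  set u := mat y *ᵥ f - f with hu
  have hue : H u e = 0 := by rw [hu, H_sub_left, hyH, sub_self]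
  set w := u - H u f • e with hw
  set a := H u f with ha
  have hwe : H w e = 0 := by simp [hw, H_sub_left, H_smul_left, hue, he]
  have hwf : H w f = 0 := by simp [hw, ← ha, H_sub_left, H_smul_left, hef]
  have hew : H e w = 0 := (H_eq_zero_comm hF).1 hwe
  have hfw : H f w = 0 := (H_eq_zero_comm hF).1 hwf
  have hyf : mat y *ᵥ f = f + (w + a • e) := by rw [hw, hu]; module
  refine ⟨y, ⟨w, a, ⟨hwe, ?_⟩, fun x => ?_⟩, rfl⟩
  · have h1 := SU_H y f f
    rw [hyf] at h1
    simp only [H_add_left, H_add_right hF, H_smul_left, H_smul_right, he, hf, hef, hfe, hwe, hwf,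
      hew, hfw] at h1
    linear_combination h1
  · set x₁ := x - H x e • f with hx₁
    have hx₁e : H x₁ e = 0 := by simp [hx₁, H_sub_left, H_smul_left, hfe]
    obtain ⟨l, hl⟩ := hall x₁ hx₁e
    have hl' : l = -H x w := by
      have h1 := SU_H y x₁ f
      rw [hl, hyf] at h1
      simp only [H_add_left, H_add_right hF, H_smul_left, H_smul_right, he, hef, hew, hx₁e] at h1
      have h2 : H x₁ w = H x w := by simp [hx₁, H_sub_left, H_smul_left, hfw]
      rw [h2] at h1
      linear_combination h1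
    rw [hl', hx₁, Matrix.mulVec_sub, Matrix.mulVec_smul, hyf] at hl
    linear_combination (norm := module) hl

include p in
/-- An automorphism fixing the transvection group of `e` stabilises the image of its Heisenberg group. -/
theorem map_heis (hn : 3 ≤ n) {e : Vec} (he : H e e = 0) (he0 : e ≠ 0) (β : MulAut (PSU n F q))
    (hβ : (rootX e).map β.toMonoidHom = rootX (q := q) e) {h : SUn} (hh : h ∈ heisGroup hF he) :
    ∃ h' ∈ heisGroup hF he, β (QuotientGroup.mk h : PSU n F q) = QuotientGroup.mk h' := by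
  suffices hc : Cond q p e (β (QuotientGroup.mk h : PSU n F q)) by
    obtain ⟨h', hh', he'⟩ := mem_of_cond hF p hn he he0 hc
    exact ⟨h', hh', he'.symm⟩
  obtain ⟨⟨k, hk⟩, hcomm, hperp⟩ := cond_of_mem hF p hn he hh
  refine ⟨⟨k, by rw [← map_pow, hk, map_one]⟩, fun t ht => ?_,
    fun r s hr0 hs0 hr hs hre hse hsr t ht u hu => ?_⟩
  · obtain ⟨t', ht', rfl⟩ := hβ.symm ▸ ht
    change β _ * β t' = β t' * β _
    rw [← map_mul, ← map_mul, hcomm t' ht']
  · have hback : ∀ v : Vec, v ≠ 0 → H v v = 0 → ∃ v' : Vec, v' ≠ 0 ∧ H v' v' = 0 ∧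
        (rootX v').map β.toMonoidHom = rootX (q := q) v := fun v hv0 hv => by
      obtain ⟨v', hv'0, hv', hv''⟩ := Centre.map_rootX hF p hn β⁻¹ hv0 hv
      refine ⟨v', hv'0, hv', ?_⟩
      rw [← hv'', Subgroup.map_map]
      exact (congrArg (fun φ => (rootX v).map φ) (MonoidHom.ext fun y =>
        MulAut.apply_inv_self (PSU n F q) β y)).trans (Subgroup.map_id _)
    have hH : ∀ a b a' b' : Vec, a ≠ 0 → b ≠ 0 → a' ≠ 0 → b' ≠ 0 → H a a = 0 → H b b = 0 →
        H a' a' = 0 → H b' b' = 0 → (rootX a').map β.toMonoidHom = rootX (q := q) a →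
        (rootX b').map β.toMonoidHom = rootX (q := q) b → H a b = 0 → H a' b' = 0 := by
      intro a b a' b' ha0 hb0 ha'0 hb'0 ha hb ha' hb' hea heb hab
      refine (commute_rootX_iff hF hn ha'0 hb'0 ha' hb').1 fun x hx y hy => β.injective ?_
      rw [map_mul, map_mul]
      exact (commute_rootX_iff hF hn ha0 hb0 ha hb).2 hab _ (hea ▸ ⟨x, hx, rfl⟩) _ (heb ▸ ⟨y, hy, rfl⟩)
    obtain ⟨r', hr'0, hr', her⟩ := hback r hr0 hr
    obtain ⟨s', hs'0, hs', hes⟩ := hback s hs0 hs
    obtain ⟨t', ht', rfl⟩ := her.symm ▸ ht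
    obtain ⟨u', hu', rfl⟩ := hes.symm ▸ hu
    change β _ * β t' * (β _)⁻¹ * β u' = β u' * (β _ * β t' * (β _)⁻¹)
    rw [← map_inv, ← map_mul, ← map_mul, ← map_mul, ← map_mul, hperp r' s' hr'0 hs'0 hr' hs'
      (hH r e r' e hr0 he0 hr'0 he0 hr he hr' he her hβ hre)
      (hH s e s' e hs0 he0 hs'0 he0 hs he hs' he hes hβ hse)
      (hH s r s' r' hs0 hr0 hs'0 hr'0 hs hr hs' hr' hes her hsr) t' ht' u' hu']

end Cfsg.Agent.AutPSU.Radical
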