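import Cfsg.Agent.Lib.AutPSU.Main
import Cfsg.Agent.Lib.AutPSL.Out

/-!
# The order of `Aut(PSU_n(q))` and its projection to the field part
-/

set_option autoImplicit false
set_option linter.unusedSectionVars false

namespace Cfsg.Agent.AutPSU.Count

open Matrix Cfsg.Agent.Classical Cfsg.Agent.Classical.Unitary Cfsg.Agent.Forms
  Cfsg.Agent.AutPSU.Basic Cfsg.Agent.AutPSU.Main

universe u

variable {F : Type u} [Field F] [Fintype F] {q n : ℕ} (hF : Fintype.card F = q ^ 2)

local notation "Vec" => (Fin n → F)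
local notation "SUn" => Cfsg.SU n F q
local notation "GUn" => Cfsg.GU n F q
local notation "H" => Cfsg.hermForm n F q

include hF

theorem conj_injective (hn : 3 ≤ n) :
    Function.Injective (MulAut.conj : PSU n F q →* MulAut (PSU n F q)) := by
  refine (injective_iff_map_eq_one _).2 fun y hy => ?_
  obtain ⟨s, rfl⟩ := QuotientGroup.mk_surjective y
  rw [conj_mk_eq_gAut] at hy
  obtain ⟨a, ha⟩ := (gAut_eq_one_iff hF hn _).1 hy
  refine (QuotientGroup.eq_one_iff s).2 ((mem_center_iff hF (by omega) s).2 ⟨a, mat_ext fun v => ?_⟩)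
  rw [← gmat_suToGU, ha, Matrix.smul_mulVec, Matrix.one_mulVec]

theorem inn_le_range : Inn (PSU n F q) ≤ (gAut (n := n) (F := F) (q := q)).range := by
  rintro _ ⟨y, rfl⟩
  obtain ⟨s, rfl⟩ := QuotientGroup.mk_surjective y
  exact ⟨_, (conj_mk_eq_gAut s).symm⟩

/-- A scalar of norm one as a unitary matrix. -/
noncomputable def scalarGU (a : F) (ha : a ^ (q + 1) = 1) : GUn :=
  diagGU hF (fun _ => a) fun _ => ha

theorem scalarGU_mulVec (a : F) (ha : a ^ (q + 1) = 1) (v : Vec) :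
    gmat (scalarGU (n := n) hF a ha) *ᵥ v = a • v := by
  rw [scalarGU, gmat_diagGU]
  funext i
  simp [Matrix.mulVec_diagonal]

theorem det_scalarGU (a : F) (ha : a ^ (q + 1) = 1) :
    (gmat (scalarGU (n := n) hF a ha)).det = a ^ n := by
  rw [scalarGU, gmat_diagGU, Matrix.det_diagonal]
  simp

theorem norm_of_scalar (hn : 1 ≤ n) {g : GUn} {a : F} (ha : ∀ v : Vec, gmat g *ᵥ v = a • v) :
    a ^ (q + 1) = 1 := by
  have h := GU_H g (Pi.single ⟨0, hn⟩ 1) (Pi.single ⟨0, hn⟩ 1)
  rwa [ha, UnitaryCount.hermForm_smul_smul, H_single_single hF, if_pos rfl, mul_one] at h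

theorem gAut_mem_inn_iff (hn : 3 ≤ n) (g : GUn) :
    (gAut g : MulAut (PSU n F q)) ∈ Inn (PSU n F q) ↔
      ∃ a : F, a ^ (q + 1) = 1 ∧ a ^ n = (gmat g).det := by
  constructor
  · rintro ⟨y, hy⟩
    obtain ⟨s, rfl⟩ := QuotientGroup.mk_surjective y
    rw [conj_mk_eq_gAut] at hy
    obtain ⟨a, ha⟩ := (gAut_eq_one_iff hF hn ((suToGU s)⁻¹ * g)).1 (by
      rw [map_mul, map_inv, hy, inv_mul_cancel])
    have ha1 := norm_of_scalar hF (by omega) ha
    refine ⟨a, ha1, ?_⟩
    have hg : g = suToGU s * scalarGU hF a ha1 := GU_ext fun v => by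
      rw [gmul_mulVec, scalarGU_mulVec, Matrix.mulVec_smul, gmat_suToGU]
      have h1 := congrArg (mat s *ᵥ ·) (ha v)
      simp only [Matrix.mulVec_smul] at h1
      rw [← h1, ← gmat_suToGU, ← gmul_mulVec, mul_inv_cancel_left]
    rw [hg, gmat_mul, Matrix.det_mul, det_scalarGU, gmat_suToGU, show (mat s).det = 1 from s.1.2, one_mul]
  · rintro ⟨a, ha, han⟩
    have ha0 : a ≠ 0 := fun h0 => by rw [h0, zero_pow (by omega)] at ha; exact zero_ne_one ha
    have ha' : a⁻¹ ^ (q + 1) = 1 := by rw [inv_pow, ha, inv_one]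
    set g' := scalarGU hF a⁻¹ ha' * g with hg'
    have hdet : (gmat g').det = 1 := by
      rw [hg', gmat_mul, Matrix.det_mul, det_scalarGU, ← han, inv_pow, inv_mul_cancel₀ (pow_ne_zero _ ha0)]
    refine ⟨QuotientGroup.mk (suOfGU g' hdet), ?_⟩
    rw [conj_mk_eq_gAut, show suToGU (suOfGU g' hdet) = g' from GU_ext fun v => rfl, hg', map_mul,
      (gAut_eq_one_iff hF hn _).2 ⟨a⁻¹, scalarGU_mulVec hF a⁻¹ ha'⟩, one_mul]

theorem relIndex_inn (hn : 3 ≤ n) :
    (Inn (PSU n F q)).relIndex (gAut (n := n) (F := F) (q := q)).range = Nat.gcd n (q + 1) := by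
  set d := (detHom n F q).rangeRestrict
  have h1 : (Inn (PSU n F q)).comap (gAut (n := n) (F := F) (q := q)) =
      (powMonoidHom n).range.comap d := by
    ext g
    rw [Subgroup.mem_comap, gAut_mem_inn_iff hF hn, Subgroup.mem_comap]
    constructor
    · rintro ⟨a, ha, han⟩
      refine ⟨⟨Units.mk0 a (fun h0 => by rw [h0, zero_pow (by omega)] at ha; exact zero_ne_one ha), ?_⟩,
        Subtype.ext (Units.ext ?_)⟩
      · rw [range_detHom hF (by omega)]
        exact Units.ext (by simpa using ha)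
      · exact han
    · rintro ⟨⟨a, ha⟩, hag⟩
      rw [range_detHom hF (by omega)] at ha
      exact ⟨a, by simpa using congrArg Units.val ha,
        (Units.val_pow_eq_pow_val a n).symm.trans (congrArg (fun x : (detHom n F q).range => ((x : Fˣ) : F)) hag)⟩
  rw [← Subgroup.index_comap, h1,
    Subgroup.index_comap_of_surjective _ (MonoidHom.rangeRestrict_surjective _),
    IsCyclic.index_powMonoidHom_range, Nat.gcd_comm]
  congr 1
  rw [range_detHom hF (by omega), natCard_normOne hF]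

theorem card_range (hn : 3 ≤ n) :
    Nat.card (gAut (n := n) (F := F) (q := q)).range = Nat.gcd n (q + 1) * Nat.card (PSU n F q) := by
  rw [← relIndex_inn hF hn, Subgroup.relIndex,
    ← Subgroup.index_mul_card ((Inn (PSU n F q)).subgroupOf (gAut (n := n) (F := F) (q := q)).range)]
  congr 1
  rw [Nat.card_congr (Subgroup.subgroupOfEquivOfLe (inn_le_range hF)).toEquiv]
  exact (Nat.card_congr (MonoidHom.ofInjective (conj_injective hF hn)).toEquiv).symm

theorem field_unique (hn : 3 ≤ n) {g g' : GUn} {s s' : F ≃+* F}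
    (e : (gAut g * fAut s : MulAut (PSU n F q)) = gAut g' * fAut s') : s = s' := by
  have h1 : (gAut (fieldGU s'⁻¹ (g'⁻¹ * g)) * fAut (s'⁻¹ * s) : MulAut (PSU n F q)) = 1 := by
    rw [map_mul (fAut (n := n) (F := F) (q := q)), ← mul_assoc, ← fAut_mul_gAut, mul_assoc,
      map_mul (gAut (n := n) (F := F) (q := q)), mul_assoc (gAut g'⁻¹), e, map_inv, map_inv]
    group
  exact (inv_mul_eq_one.1 (mul_field_eq_one hF hn h1).1).symm

variable (p : ℕ) [Fact p.Prime] [CharP F p]

include p in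
/-- The projection to the field part. -/
theorem exists_proj (hn : 3 ≤ n) (h32 : ¬ (n = 3 ∧ q = 2)) :
    ∃ ψ : MulAut (PSU n F q) →* (F ≃+* F), Function.Surjective ψ ∧
      ψ.ker = (gAut (n := n) (F := F) (q := q)).range := by
  choose g σ h using exists_decomp hF p hn h32
  have huniq := fun {g g' : GUn} {s s' : F ≃+* F} => field_unique hF (n := n) hn (g := g) (g' := g') (s := s) (s' := s')
  refine ⟨MonoidHom.mk' σ fun a b => ?_, fun s => ⟨fAut s, ?_⟩, ?_⟩
  · refine huniq (g := g (a * b)) (g' := g a * fieldGU (σ a) (g b)) ?_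
    calc (gAut (g (a * b)) * fAut (σ (a * b)) : MulAut _) = a * b := (h (a * b)).symm
      _ = gAut (g a) * fAut (σ a) * (gAut (g b) * fAut (σ b)) := by rw [← h a, ← h b]
      _ = gAut (g a) * (fAut (σ a) * gAut (g b)) * fAut (σ b) := by group
      _ = _ := by rw [fAut_mul_gAut, map_mul, map_mul]; group
  · exact huniq (g' := 1) ((h (fAut s)).symm.trans (by rw [map_one, one_mul]))
  · ext β
    rw [MonoidHom.mem_ker]
    constructor
    · intro hk
      have h1 : σ β = 1 := hk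
      exact ⟨g β, by conv_rhs => rw [h β, h1, map_one, mul_one]⟩
    · rintro ⟨g', rfl⟩
      exact huniq (g' := g') ((h (gAut g')).symm.trans (by rw [map_one, mul_one]))

omit [CharP F p] in
theorem field_setup {f : ℕ} (hq : q = p ^ f) :
    CharP F p ∧ Nonempty ((F ≃+* F) ≃* Multiplicative (ZMod (2 * f))) := by
  have h : Fintype.card F = p ^ (2 * f) := by rw [hF, hq, ← pow_mul, mul_comm]
  exact ⟨charP_of_card_eq_prime_pow h, AutPSL.Out.exists_ringAut_equiv h⟩

omit [CharP F p] in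
theorem card_mulAut {f : ℕ} (hq : q = p ^ f) (hn : 3 ≤ n) (h32 : ¬ (n = 3 ∧ q = 2)) :
    Nat.card (MulAut (PSU n F q)) = Nat.gcd n (q + 1) * (2 * f) * Nat.card (PSU n F q) := by
  obtain ⟨_, ⟨ea⟩⟩ := field_setup hF p hq
  obtain ⟨ψ, hψ, hker⟩ := exists_proj hF p hn h32
  rw [← ψ.ker.index_mul_card, Subgroup.index_ker, MonoidHom.range_eq_top.2 hψ, Subgroup.card_top, hker,
    card_range hF hn, Nat.card_congr ea.toEquiv, Nat.card_congr Multiplicative.toAdd, Nat.card_zmod]
  ring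

omit [CharP F p] in
theorem exists_out_proj {f : ℕ} (hq : q = p ^ f) (hn : 3 ≤ n) (h32 : ¬ (n = 3 ∧ q = 2)) :
    ∃ φ : Out (PSU n F q) →* Multiplicative (ZMod (2 * f)), Function.Surjective φ ∧
      IsCyclic φ.ker ∧ Nat.card φ.ker = Nat.gcd n (q + 1) := by
  obtain ⟨_, ⟨ea⟩⟩ := field_setup hF p hq
  obtain ⟨ψ, hψ, hker⟩ := exists_proj hF p hn h32
  set R := (gAut (n := n) (F := F) (q := q)).range
  have hle : Inn (PSU n F q) ≤ (ea.toMonoidHom.comp ψ).ker := fun x hx => by
    rw [MonoidHom.mem_ker, MonoidHom.comp_apply, show ψ x = 1 from (MonoidHom.mem_ker).1 (hker ▸ inn_le_range hF hx), map_one]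
  refine ⟨QuotientGroup.lift _ (ea.toMonoidHom.comp ψ) hle, ?_, ?_⟩
  · intro y
    obtain ⟨x, hx⟩ := hψ (ea.symm y)
    exact ⟨QuotientGroup.mk x, by simp [hx]⟩
  set φ := QuotientGroup.lift _ (ea.toMonoidHom.comp ψ) hle
  set π := QuotientGroup.mk' (Inn (PSU n F q))
  have hφk : φ.ker = R.map π := by
    ext y
    obtain ⟨x, rfl⟩ := QuotientGroup.mk_surjective y
    rw [MonoidHom.mem_ker]
    constructor
    · intro h
      refine ⟨x, ?_, rfl⟩
      change x ∈ R
      rw [← hker, MonoidHom.mem_ker]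
      simpa [φ] using h
    · rintro ⟨z, hz, hzx⟩
      rw [show (QuotientGroup.mk x : Out (PSU n F q)) = QuotientGroup.mk z from hzx.symm]
      have hz' : ψ z = 1 := MonoidHom.mem_ker.1 (hker ▸ hz)
      simp [φ, hz']
  rw [hφk]
  let θ : GUn →* R.map π :=
    (π.comp (gAut (n := n) (F := F) (q := q))).codRestrict (R.map π) fun g => ⟨_, ⟨g, rfl⟩, rfl⟩
  have hθ : Function.Surjective θ := by
    rintro ⟨_, _, ⟨g, rfl⟩, rfl⟩
    exact ⟨g, rfl⟩
  have hθ1 : ∀ g : GUn, (gmat g).det = 1 → θ g = 1 := fun g hg => Subtype.ext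
    ((QuotientGroup.eq_one_iff _).2 ((gAut_mem_inn_iff hF hn g).2 ⟨1, one_pow _, by rw [one_pow, hg]⟩))
  constructor
  · obtain ⟨⟨ζ, g₀, rfl⟩, hζ⟩ := IsCyclic.exists_generator (α := (detHom n F q).range)
    refine ⟨⟨θ g₀, fun y => ?_⟩⟩
    obtain ⟨g, rfl⟩ := hθ y
    obtain ⟨i, hi⟩ := hζ ⟨detHom n F q g, g, rfl⟩
    refine ⟨i, ?_⟩
    have h1 : detHom n F q g₀ ^ i = detHom n F q g := congrArg Subtype.val hi
    have h2 := hθ1 ((g₀ ^ i)⁻¹ * g) (by
      rw [← detHom_apply, map_mul, map_inv, map_zpow, h1, inv_mul_cancel, Units.val_one])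
    rw [map_mul, map_inv, inv_mul_eq_one, map_zpow] at h2
    exact h2
  · have h1 := Subgroup.index_ker (π.comp R.subtype)
    rw [MonoidHom.range_comp, Subgroup.range_subtype, ← MonoidHom.comap_ker, QuotientGroup.ker_mk'] at h1
    rw [← h1]
    exact relIndex_inn hF hn

end Cfsg.Agent.AutPSU.Count
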