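import Cfsg.Prelude.Def_LieTypeDatum
import Cfsg.Agent.Lib.Classical.UnitarySimple

/-!
# Automorphisms of `PSU_n(q)` induced by unitary matrices and field automorphisms

`gAut g` is conjugation by an element of the general unitary group, `fAut σ` the entrywise field
automorphism and `rootX v` the transvection subgroup of an isotropic vector.
-/

set_option autoImplicit false
set_option linter.unusedSectionVars false

namespace Cfsg.Agent.AutPSU.Basic

open Matrix Cfsg.Agent.Classical Cfsg.Agent.Classical.Unitary Cfsg.Agent.Forms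

universe u

variable {F : Type u} [Field F] [Fintype F] {q n : ℕ}

local notation "Vec" => (Fin n → F)
local notation "Mat" => Matrix (Fin n) (Fin n) F
local notation "SUn" => Cfsg.SU n F q
local notation "GUn" => Cfsg.GU n F q
local notation "H" => Cfsg.hermForm n F q

/-- The automorphism of `PSU` induced by one of `SU`. -/
def descend : MulAut SUn →* MulAut (PSU n F q) where
  toFun e := QuotientGroup.congr _ _ e
    (Subgroup.characteristic_iff_map_eq.1 inferInstance e)
  map_one' := by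
    ext x
    induction x using QuotientGroup.induction_on
    rfl
  map_mul' e e' := by
    ext x
    induction x using QuotientGroup.induction_on
    rfl

theorem gmat_mul_inv (g : GUn) : gmat g * gmat g⁻¹ = 1 := by
  rw [← gmat_mul, mul_inv_cancel, gmat_one]

theorem gmat_inv_mul' (g : GUn) : gmat g⁻¹ * gmat g = 1 := by
  rw [← gmat_mul, inv_mul_cancel, gmat_one]

/-- `g s g⁻¹` as an element of `SU`. -/
def conjEl (g : GUn) (s : SUn) : SUn :=
  suMk (gmat g * mat s * gmat g⁻¹)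
    (by
      have h1 : (gmat g).det * (gmat g⁻¹).det = 1 := by
        rw [← Matrix.det_mul, gmat_mul_inv, Matrix.det_one]
      rw [Matrix.det_mul, Matrix.det_mul, show (mat s).det = 1 from s.1.2, mul_one, h1])
    (fun u v => by
      simp only [← Matrix.mulVec_mulVec]
      rw [GU_H, SU_H, GU_H])

theorem mat_conjEl (g : GUn) (s : SUn) : mat (conjEl g s) = gmat g * mat s * gmat g⁻¹ := rfl

/-- Conjugation by a unitary matrix, on `SU`. -/
def conjSU : GUn →* MulAut SUn where
  toFun g :=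
    { toFun := conjEl g
      invFun := conjEl g⁻¹
      left_inv := fun s => SU_ext fun x => by
        simp only [mat_conjEl, inv_inv, ← Matrix.mulVec_mulVec]
        simp only [Matrix.mulVec_mulVec, gmat_inv_mul', Matrix.mul_one, Matrix.one_mul, Matrix.mul_assoc]
        rw [← Matrix.mul_assoc, gmat_inv_mul', Matrix.one_mul]
      right_inv := fun s => SU_ext fun x => by
        simp only [mat_conjEl, inv_inv, ← Matrix.mulVec_mulVec]
        simp only [Matrix.mulVec_mulVec, gmat_mul_inv, Matrix.mul_one, Matrix.one_mul, Matrix.mul_assoc]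
        rw [← Matrix.mul_assoc, gmat_mul_inv, Matrix.one_mul]
      map_mul' := fun a b => SU_ext fun x => by
        simp only [mul_mulVec, mat_conjEl, mat_mul, ← Matrix.mulVec_mulVec]
        congr 2
        rw [Matrix.mulVec_mulVec _ (gmat g⁻¹) (gmat g), gmat_inv_mul', Matrix.one_mulVec] }
  map_one' := MulEquiv.ext fun s => SU_ext fun x => by
    change (gmat (1 : GUn) * mat s * gmat (1 : GUn)⁻¹) *ᵥ x = _
    rw [inv_one, gmat_one, one_mul, mul_one]
    rfl
  map_mul' g h := MulEquiv.ext fun s => SU_ext fun x => by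
    change (gmat (g * h) * mat s * gmat (g * h)⁻¹) *ᵥ x =
      (gmat g * (gmat h * mat s * gmat h⁻¹) * gmat g⁻¹) *ᵥ x
    rw [_root_.mul_inv_rev, gmat_mul, gmat_mul]
    simp only [mul_assoc]

theorem hermForm_map (σ : F ≃+* F) (u v : Vec) :
    H (fun i => σ (u i)) (fun i => σ (v i)) = σ (H u v) := by
  simp [Cfsg.hermForm, map_sum, map_mul, map_pow]

theorem map_mulVec_field (σ : F ≃+* F) (A : Mat) (v : Vec) :
    A.map σ *ᵥ (fun i => σ (v i)) = fun i => σ ((A *ᵥ v) i) :=
  funext fun i => (RingHom.map_mulVec σ.toRingHom A v i).symm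

theorem field_preserves (σ : F ≃+* F) {A : Mat} (hA : ∀ u v, H (A *ᵥ u) (A *ᵥ v) = H u v) (u v : Vec) :
    H (A.map σ *ᵥ u) (A.map σ *ᵥ v) = H u v := by
  obtain ⟨u', rfl⟩ : ∃ u' : Vec, (fun i => σ (u' i)) = u := ⟨fun i => σ.symm (u i), by simp⟩
  obtain ⟨v', rfl⟩ : ∃ v' : Vec, (fun i => σ (v' i)) = v := ⟨fun i => σ.symm (v i), by simp⟩
  rw [map_mulVec_field, map_mulVec_field, hermForm_map, hermForm_map, hA]

/-- A field automorphism applied to an element of `SU`. -/
def fieldEl (σ : F ≃+* F) (s : SUn) : SUn :=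
  suMk ((mat s).map σ)
    (by rw [show (mat s).map σ = σ.toRingHom.mapMatrix (mat s) from rfl, ← RingHom.map_det,
      show (mat s).det = 1 from s.1.2, map_one])
    (field_preserves σ (SU_H s))

theorem mat_fieldEl (σ : F ≃+* F) (s : SUn) : mat (fieldEl σ s) = (mat s).map σ := rfl

/-- A field automorphism applied entrywise, on `SU`. -/
def fieldSU : (F ≃+* F) →* MulAut SUn where
  toFun σ :=
    { toFun := fieldEl σ
      invFun := fieldEl σ.symm
      left_inv := fun s => Subtype.ext (Subtype.ext (Matrix.ext fun i j => σ.symm_apply_apply _))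
      right_inv := fun s => Subtype.ext (Subtype.ext (Matrix.ext fun i j => σ.apply_symm_apply _))
      map_mul' := fun a b => Subtype.ext (Subtype.ext Matrix.map_mul) }
  map_one' := MulEquiv.ext fun _ => Subtype.ext (Subtype.ext (Matrix.ext fun _ _ => rfl))
  map_mul' _ _ := MulEquiv.ext fun _ => Subtype.ext (Subtype.ext (Matrix.ext fun _ _ => rfl))

/-- Conjugation by a unitary matrix, on `PSU`. -/
def gAut : GUn →* MulAut (PSU n F q) := descend.comp conjSU

/-- A field automorphism applied entrywise, on `PSU`. -/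
def fAut : (F ≃+* F) →* MulAut (PSU n F q) := descend.comp fieldSU

theorem gAut_mk (g : GUn) (s : SUn) :
    gAut g (QuotientGroup.mk s) = QuotientGroup.mk (conjEl g s) := rfl

theorem fAut_mk (σ : F ≃+* F) (s : SUn) :
    fAut σ (QuotientGroup.mk s : PSU n F q) = QuotientGroup.mk (fieldEl σ s) := rfl

/-- A field automorphism applied to a unitary matrix. -/
def fieldGU (σ : F ≃+* F) : GUn →* GUn :=
  ((Units.map (RingHom.mapMatrix (m := Fin n) σ.toRingHom).toMonoidHom).comp
    (Cfsg.GU n F q).subtype).codRestrict GUn fun g => fun u v => field_preserves σ (GU_H g) u v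

theorem gmat_fieldGU (σ : F ≃+* F) (g : GUn) : gmat (fieldGU σ g) = (gmat g).map σ := rfl

theorem fAut_mul_gAut (σ : F ≃+* F) (g : GUn) :
    (fAut σ : MulAut (PSU n F q)) * gAut g = gAut (fieldGU σ g) * fAut σ := by
  refine MulEquiv.ext fun x => ?_
  refine QuotientGroup.induction_on x fun s => ?_
  refine congrArg QuotientGroup.mk (SU_ext fun y => ?_)
  change (gmat g * mat s * gmat g⁻¹).map σ *ᵥ y =
    (gmat (fieldGU σ g) * (mat s).map σ * gmat (fieldGU σ g)⁻¹) *ᵥ y
  rw [Matrix.map_mul, Matrix.map_mul, ← map_inv, gmat_fieldGU, gmat_fieldGU]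

theorem isInducedBySemilinearPSU_iff (g : GUn) (σ : F ≃+* F) (β : MulAut (PSU n F q)) :
    IsInducedBySemilinearPSU (g : GL (Fin n) F) σ β ↔ β = gAut g * fAut σ := by
  constructor
  · intro h
    refine MulEquiv.ext fun x => ?_
    refine QuotientGroup.induction_on x fun s => ?_
    exact h s (conjEl g (fieldEl σ s)) rfl
  · rintro rfl s s' h
    exact congrArg QuotientGroup.mk (Subtype.ext (Subtype.ext h.symm) : conjEl g (fieldEl σ s) = s')

theorem isFieldAutPSUOf_iff (σ : F ≃+* F) (β : MulAut (PSU n F q)) :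
    IsFieldAutPSUOf σ β ↔ β = fAut σ := by
  constructor
  · intro h
    refine MulEquiv.ext fun x => ?_
    refine QuotientGroup.induction_on x fun s => ?_
    exact h s (fieldEl σ s) rfl
  · rintro rfl s s' h
    exact congrArg QuotientGroup.mk (Subtype.ext (Subtype.ext h.symm) : fieldEl σ s = s')

theorem isInnerDiagonalAutPSU_iff (β : MulAut (PSU n F q)) :
    IsInnerDiagonalAutPSU β ↔ ∃ g : GUn, β = gAut g := by
  constructor
  · rintro ⟨g, hg, h⟩
    refine ⟨⟨g, hg⟩, MulEquiv.ext fun x => ?_⟩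
    refine QuotientGroup.induction_on x fun s => ?_
    exact h s (conjEl ⟨g, hg⟩ s) rfl
  · rintro ⟨g, rfl⟩
    exact ⟨g, g.2, fun s s' h =>
      congrArg QuotientGroup.mk (Subtype.ext (Subtype.ext h.symm) : conjEl g s = s')⟩

theorem inndiagPSU_eq : inndiagPSU n F q = (gAut (n := n) (F := F) (q := q)).range := by
  refine le_antisymm ((Subgroup.closure_le _).2 fun β hβ => ?_) ?_
  · obtain ⟨g, rfl⟩ := (isInnerDiagonalAutPSU_iff β).1 hβ
    exact ⟨g, rfl⟩
  · rintro _ ⟨g, rfl⟩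
    exact Subgroup.subset_closure ((isInnerDiagonalAutPSU_iff _).2 ⟨g, rfl⟩)

theorem conj_mk_eq_gAut (s : SUn) :
    MulAut.conj (QuotientGroup.mk s : PSU n F q) = gAut (suToGU s) := by
  refine MulEquiv.ext fun x => ?_
  refine QuotientGroup.induction_on x fun t => ?_
  refine congrArg QuotientGroup.mk (SU_ext fun y => ?_)
  change mat (s * t * s⁻¹) *ᵥ y = (gmat (suToGU s) * mat t * gmat (suToGU s)⁻¹) *ᵥ y
  rw [← map_inv, gmat_suToGU, gmat_suToGU, mat_mul, mat_mul]

/-- The transvection group of a vector (trivial unless the vector is isotropic). -/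
def rootX (v : Vec) : Subgroup (PSU n F q) :=
  Subgroup.closure {x | ∃ t : SUn, t ∈ tvAt F q v ∧ QuotientGroup.mk t = x}

variable (hF : Fintype.card F = q ^ 2)

include hF

theorem mk_eq_mk_iff (hn : 2 ≤ n) (A B : SUn) :
    (QuotientGroup.mk A : PSU n F q) = QuotientGroup.mk B ↔
      ∃ a : F, ∀ v : Vec, mat B *ᵥ v = a • (mat A *ᵥ v) := by
  rw [QuotientGroup.eq, mem_center_iff hF hn]
  constructor
  · rintro ⟨a, ha⟩
    refine ⟨a, fun v => ?_⟩
    have h : mat A *ᵥ (mat (A⁻¹ * B) *ᵥ v) = mat B *ᵥ v := by rw [← mul_mulVec, mul_inv_cancel_left]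
    rw [← h, ha, Matrix.smul_mulVec, Matrix.one_mulVec, Matrix.mulVec_smul]
  · rintro ⟨a, ha⟩
    refine ⟨a, mat_ext fun v => ?_⟩
    rw [mul_mulVec, ha, Matrix.mulVec_smul, inv_mulVec A rfl, Matrix.smul_mulVec, Matrix.one_mulVec]

/-- A vector orthogonal to two given vectors. -/
theorem exists_perp_two (hn : 3 ≤ n) (u v : Vec) : ∃ x : Vec, x ≠ 0 ∧ H x u = 0 ∧ H x v = 0 := by
  let L : Vec →ₗ[F] F × F := (hlin q u).prod (hlin q v)
  have hker : LinearMap.ker L ≠ ⊥ := LinearMap.ker_ne_bot_of_finrank_lt (by simp; omega)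
  obtain ⟨x, hx, hx0⟩ := Submodule.exists_mem_ne_zero_of_ne_bot hker
  have h := LinearMap.mem_ker.1 hx
  exact ⟨x, hx0, congrArg Prod.fst h, congrArg Prod.snd h⟩

theorem tvu_zero_coef {v : Vec} (hv : H v v = 0) {h0 : (0 : F) + 0 ^ q = 0} :
    tvu hF hv h0 = (1 : SUn) :=
  SU_ext fun x => by rw [tvu_mulVec, mat_one, one_mulVec]; simp

theorem mem_rootX {v : Vec} (hv : H v v = 0) {x : PSU n F q} :
    x ∈ rootX v ↔ ∃ (c : F) (hc : c + c ^ q = 0), QuotientGroup.mk (tvu hF hv hc) = x := by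
  constructor
  · intro h
    induction h using Subgroup.closure_induction with
    | mem x hx =>
      obtain ⟨t, ht, rfl⟩ := hx
      obtain ⟨c, hc, rfl⟩ := tvu_eq_of_mem hF hv ht
      exact ⟨c, hc, rfl⟩
    | one =>
      have h0 : (0 : F) + 0 ^ q = 0 := by rw [zero_pow (q_ne_zero hF), add_zero]
      exact ⟨0, h0, by rw [tvu_zero_coef hF hv]; rfl⟩
    | mul x y _ _ hx hy =>
      obtain ⟨c, hc, rfl⟩ := hx
      obtain ⟨d, hd, rfl⟩ := hy
      exact ⟨c + d, _, by rw [← QuotientGroup.mk_mul, tvu_mul hF hv hc hd]⟩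
    | inv x _ hx =>
      obtain ⟨c, hc, rfl⟩ := hx
      have hc' : -c + (-c) ^ q = 0 := by
        rw [← HermStd.qHom_apply hF, map_neg, HermStd.qHom_apply]; linear_combination -hc
      refine ⟨-c, hc', eq_inv_of_mul_eq_one_left ?_⟩
      rw [← QuotientGroup.mk_mul, tvu_mul hF hv hc' hc]
      refine (congrArg QuotientGroup.mk (SU_ext fun y => ?_)).trans (QuotientGroup.mk_one _)
      rw [tvu_mulVec, mat_one, one_mulVec]; simp
  · rintro ⟨c, hc, rfl⟩
    exact Subgroup.subset_closure ⟨_, ⟨c, hc, rfl⟩, rfl⟩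

theorem iso_smul {v : Vec} (hv : H v v = 0) (a : F) : H (a • v) (a • v) = 0 := by
  rw [UnitaryCount.hermForm_smul_smul, hv, mul_zero]

theorem rootX_smul {v : Vec} {a : F} (ha : a ≠ 0) : rootX (q := q) (a • v) = rootX v := by
  rw [rootX, rootX, tvAt_smul hF ha]

theorem tvu_fieldEl (σ : F ≃+* F) {v : Vec} (hv : H v v = 0) {c : F} (hc : c + c ^ q = 0) :
    ∃ (hv' : H (fun i => σ (v i)) (fun i => σ (v i)) = 0) (hc' : σ c + σ c ^ q = 0),
      fieldEl σ (tvu hF hv hc) = tvu hF hv' hc' := by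
  refine ⟨by rw [hermForm_map, hv, map_zero], by rw [← map_pow, ← map_add, hc, map_zero],
    SU_ext fun x => ?_⟩
  obtain ⟨x, rfl⟩ : ∃ x' : Vec, (fun i => σ (x' i)) = x := ⟨fun i => σ.symm (x i), by simp⟩
  rw [mat_fieldEl, map_mulVec_field, tvu_mulVec, tvu_mulVec, hermForm_map]
  funext i
  simp

theorem tvu_conjEl (g : GUn) {v : Vec} (hv : H v v = 0) {c : F} (hc : c + c ^ q = 0) :
    ∃ hv' : H (gmat g *ᵥ v) (gmat g *ᵥ v) = 0,
      conjEl g (tvu hF hv hc) = tvu hF hv' hc := by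
  refine ⟨by rw [GU_H, hv], SU_ext fun x => ?_⟩
  rw [mat_conjEl, ← Matrix.mulVec_mulVec, ← Matrix.mulVec_mulVec, tvu_mulVec, tvu_mulVec,
    Matrix.mulVec_add, Matrix.mulVec_smul, Matrix.mulVec_mulVec, gmat_mul_inv, Matrix.one_mulVec]
  congr 3
  conv_rhs => rw [show x = gmat g *ᵥ (gmat g⁻¹ *ᵥ x) by
    rw [Matrix.mulVec_mulVec, gmat_mul_inv, Matrix.one_mulVec]]
  rw [GU_H]

theorem map_rootX_gAut (g : GUn) {v : Vec} (hv : H v v = 0) :
    (rootX v).map (gAut g).toMonoidHom = rootX (q := q) (gmat g *ᵥ v) := by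
  ext x
  rw [mem_rootX hF (by rw [GU_H, hv])]
  constructor
  · rintro ⟨y, hy, rfl⟩
    obtain ⟨c, hc, rfl⟩ := (mem_rootX hF hv).1 hy
    obtain ⟨_, h⟩ := tvu_conjEl hF g hv hc
    exact ⟨c, hc, congrArg QuotientGroup.mk h.symm⟩
  · rintro ⟨c, hc, rfl⟩
    obtain ⟨_, h⟩ := tvu_conjEl hF g hv hc
    exact ⟨_, (mem_rootX hF hv).2 ⟨c, hc, rfl⟩, congrArg QuotientGroup.mk h⟩

theorem map_rootX_fAut (σ : F ≃+* F) {v : Vec} (hv : H v v = 0) :
    (rootX v).map (fAut σ).toMonoidHom = rootX (q := q) (fun i => σ (v i)) := by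
  have hv' : H (fun i => σ (v i)) (fun i => σ (v i)) = 0 := by rw [hermForm_map, hv, map_zero]
  ext x
  rw [mem_rootX hF hv']
  constructor
  · rintro ⟨y, hy, rfl⟩
    obtain ⟨c, hc, rfl⟩ := (mem_rootX hF hv).1 hy
    obtain ⟨_, hc', h⟩ := tvu_fieldEl hF σ hv hc
    exact ⟨σ c, hc', congrArg QuotientGroup.mk h.symm⟩
  · rintro ⟨c, hc, rfl⟩
    have hc' : σ.symm c + σ.symm c ^ q = 0 := by rw [← map_pow, ← map_add, hc, map_zero]
    refine ⟨_, (mem_rootX hF hv).2 ⟨σ.symm c, hc', rfl⟩, congrArg QuotientGroup.mk ?_⟩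
    obtain ⟨_, _, h⟩ := tvu_fieldEl hF σ hv hc'
    change fieldEl σ (tvu hF hv hc') = _
    rw [h]
    exact SU_ext fun y => by rw [tvu_mulVec, tvu_mulVec, σ.apply_symm_apply]

theorem map_rootX_conj (s : SUn) {v : Vec} (hv : H v v = 0) :
    (rootX v).map (MulAut.conj (QuotientGroup.mk s : PSU n F q)).toMonoidHom =
      rootX (q := q) (mat s *ᵥ v) := by
  rw [conj_mk_eq_gAut, map_rootX_gAut hF _ hv, gmat_suToGU]

/-- Equal classes of transvections come from equal transvections. -/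
theorem tvu_inj (hn : 3 ≤ n) {u v : Vec} (hu : H u u = 0) (hv : H v v = 0) {c d : F}
    (hc : c + c ^ q = 0) (hd : d + d ^ q = 0)
    (h : (QuotientGroup.mk (tvu hF hu hc) : PSU n F q) = QuotientGroup.mk (tvu hF hv hd)) :
    tvu hF hu hc = tvu hF hv hd := by
  obtain ⟨a, ha⟩ := (mk_eq_mk_iff hF (by omega) _ _).1 h
  obtain ⟨x, hx, hxu, hxv⟩ := exists_perp_two hF hn u v
  have h1 := ha x
  rw [tvu_mulVec, tvu_mulVec, hxu, hxv, mul_zero, mul_zero, zero_smul, zero_smul, add_zero] at h1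
  have ha1 : a = 1 := by
    by_contra hne
    have h2 : (a - 1) • x = 0 := by rw [sub_smul, one_smul, ← h1, sub_self]
    exact hx ((smul_eq_zero.1 h2).resolve_left (sub_ne_zero.2 hne))
  exact SU_ext fun y => by rw [ha y, ha1, one_smul]

/-- Transvection groups commute exactly for orthogonal vectors. -/
theorem commute_rootX_iff (hn : 3 ≤ n) {u v : Vec} (hu0 : u ≠ 0) (hv0 : v ≠ 0) (hu : H u u = 0)
    (hv : H v v = 0) :
    (∀ x ∈ rootX (q := q) u, ∀ y ∈ rootX (q := q) v, x * y = y * x) ↔ H u v = 0 := by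
  constructor
  · intro h
    by_contra hne
    obtain ⟨c, hc0, hc⟩ := exists_traceZero hF
    have h1 := h _ ((mem_rootX hF hu).2 ⟨c, hc, rfl⟩) _ ((mem_rootX hF hv).2 ⟨c, hc, rfl⟩)
    rw [← QuotientGroup.mk_mul, ← QuotientGroup.mk_mul] at h1
    obtain ⟨a, ha⟩ := (mk_eq_mk_iff hF (by omega) _ _).1 h1
    obtain ⟨x, hx, hxu, hxv⟩ := exists_perp_two hF hn u v
    have h2 := ha x
    have hf : ∀ (w : Vec) (hw : H w w = 0), H x w = 0 → mat (tvu hF hw hc) *ᵥ x = x :=
      fun w hw hxw => by rw [tvu_mulVec, hxw, mul_zero, zero_smul, add_zero]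
    rw [mul_mulVec, mul_mulVec, hf u hu hxu, hf v hv hxv, hf u hu hxu] at h2
    have ha1 : a = 1 := by
      by_contra hne'
      have h3 : (a - 1) • x = 0 := by rw [sub_smul, one_smul, ← h2, sub_self]
      exact hx ((smul_eq_zero.1 h3).resolve_left (sub_ne_zero.2 hne'))
    have h4 := congrArg (fun z => H z v) (ha u)
    simp only [ha1, one_smul, mul_mulVec, tvu_mulVec, H_add_left, H_smul_left, hu, hv, mul_zero,
      zero_smul, add_zero, zero_add, left_eq_add] at h4
    have hvu : H v u ≠ 0 := fun e => hne ((H_eq_zero_comm hF).1 e)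
    simp [hc0, hne, hvu] at h4
  · intro h x hx y hy
    obtain ⟨c, hc, rfl⟩ := (mem_rootX hF hu).1 hx
    obtain ⟨d, hd, rfl⟩ := (mem_rootX hF hv).1 hy
    have h' := (H_eq_zero_comm hF).1 h
    rw [← QuotientGroup.mk_mul, ← QuotientGroup.mk_mul]
    refine congrArg QuotientGroup.mk (SU_ext fun z => ?_)
    simp only [mul_mulVec, tvu_mulVec, H_add_left, H_smul_left, h, h', mul_zero, add_zero]
    module

theorem rootX_eq_iff (hn : 3 ≤ n) {u v : Vec} (hu0 : u ≠ 0) (hv0 : v ≠ 0) (hu : H u u = 0)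
    (hv : H v v = 0) : rootX (q := q) u = rootX v ↔ ∃ a : F, a ≠ 0 ∧ v = a • u := by
  constructor
  · intro h
    obtain ⟨c, hc0, hc⟩ := exists_traceZero hF
    have h1 : (QuotientGroup.mk (tvu hF hu hc) : PSU n F q) ∈ rootX v :=
      h ▸ (mem_rootX hF hu).2 ⟨c, hc, rfl⟩
    obtain ⟨d, hd, h2⟩ := (mem_rootX hF hv).1 h1
    have h3 := tvu_inj hF hn hv hu hd hc h2
    obtain ⟨x, hx⟩ := exists_H_eq_one hF hv0
    have hxv : H x v = 1 := by rw [← H_conj hF, hx, one_pow]
    have h4 := congrArg (fun t : SUn => mat t *ᵥ x) h3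
    simp only [tvu_mulVec, hxv, mul_one] at h4
    have h5 : d • v = (c * H x u) • u := add_left_cancel h4
    have hd0 : d ≠ 0 := fun hd' => by
      obtain ⟨y, hy⟩ := exists_H_eq_one hF hu0
      have hyu : H y u = 1 := by rw [← H_conj hF, hy, one_pow]
      have h6 := congrArg (fun t : SUn => mat t *ᵥ y) h3
      simp only [tvu_mulVec, hyu, mul_one, hd', zero_mul, zero_smul, add_zero, left_eq_add] at h6
      exact hu0 ((smul_eq_zero.1 h6).resolve_left hc0)
    have h7 : v = (d⁻¹ * (c * H x u)) • u := by rw [← smul_smul, ← h5, inv_smul_smul₀ hd0]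
    exact ⟨_, fun h0 => hv0 (by rw [h7, h0, zero_smul]), h7⟩
  · rintro ⟨a, ha, rfl⟩
    rw [rootX_smul hF ha]

end Cfsg.Agent.AutPSU.Basic
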