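import Cfsg.Agent.Lib.AutPSU.Count
import Cfsg.Agent.Lib.AutPSL.Speiser

/-!
# Conjugacy of field automorphisms of odd order of `PSU_n(q)`
-/

set_option autoImplicit false
set_option linter.unusedSectionVars false

namespace Cfsg.Agent.AutPSU.Conj

open Matrix Cfsg.Agent.Classical Cfsg.Agent.Classical.Unitary Cfsg.Agent.Forms
  Cfsg.Agent.AutPSU.Basic Cfsg.Agent.AutPSU.Main Cfsg.Agent.AutPSU.Count

universe u

variable {F : Type u} [Field F] [Fintype F] {q n : ℕ} (hF : Fintype.card F = q ^ 2)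

local notation "Vec" => (Fin n → F)
local notation "Mat" => Matrix (Fin n) (Fin n) F
local notation "GUn" => Cfsg.GU n F q
local notation "H" => Cfsg.hermForm n F q
local notation "Nu" => MonoidHom.ker (powMonoidHom (q + 1) : Fˣ →* Fˣ)

theorem fieldGU_mul (σ τ : F ≃+* F) (g : GUn) : fieldGU (σ * τ) g = fieldGU σ (fieldGU τ g) :=
  Subtype.ext (Units.ext (Matrix.ext fun _ _ => rfl))

theorem fieldGU_one (g : GUn) : fieldGU 1 g = g :=
  Subtype.ext (Units.ext (Matrix.ext fun _ _ => rfl))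

/-- `A σ(A) … σ^{i-1}(A)`. -/
def twistU (σ : F ≃+* F) (A : GUn) : ℕ → GUn
  | 0 => 1
  | i + 1 => A * fieldGU σ (twistU σ A i)

theorem twistU_succ' (σ : F ≃+* F) (A : GUn) :
    ∀ i, twistU σ A (i + 1) = twistU σ A i * fieldGU (σ ^ i) A
  | 0 => by simp [twistU, fieldGU_one]
  | i + 1 => by
    show A * fieldGU σ (twistU σ A (i + 1)) = A * fieldGU σ (twistU σ A i) * fieldGU (σ ^ (i + 1)) A
    rw [twistU_succ' σ A i, map_mul, pow_succ', fieldGU_mul, mul_assoc]

theorem pow_gAut_fAut (σ : F ≃+* F) (A : GUn) :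
    ∀ i, (gAut A * fAut σ : MulAut (PSU n F q)) ^ i = gAut (twistU σ A i) * fAut (σ ^ i)
  | 0 => by simp [twistU]
  | i + 1 => by
    rw [pow_succ', pow_gAut_fAut σ A i, twistU, map_mul, pow_succ', map_mul, mul_assoc, mul_assoc,
      ← mul_assoc (fAut σ), fAut_mul_gAut, mul_assoc]

theorem fixed_pow {σ : F ≃+* F} {x : F} (h : σ x = x) : ∀ i : ℕ, (σ ^ i) x = x
  | 0 => rfl
  | i + 1 => by
    rw [pow_succ']
    exact (congrArg σ (fixed_pow h i)).trans h

/-- `σ` fixes the product over its powers. -/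
theorem sigma_nrm (σ : F ≃+* F) (x : F) :
    σ (AutPSL.Speiser.nrm σ x) = AutPSL.Speiser.nrm σ x := by
  have : Finite (F ≃+* F) := Finite.of_injective (fun e : F ≃+* F => (e : F → F)) DFunLike.coe_injective
  obtain ⟨k, hk⟩ : ∃ k, orderOf σ = k + 1 := ⟨orderOf σ - 1, by have := orderOf_pos σ; omega⟩
  rw [AutPSL.Speiser.nrm, map_prod]
  simp only [show ∀ i : ℕ, σ ((σ ^ i) x) = (σ ^ (i + 1)) x from fun i => by rw [pow_succ']; rfl]
  rw [hk, Finset.prod_range_succ, show (σ ^ (k + 1)) x = (σ ^ 0) x by rw [← hk, pow_orderOf_eq_one, pow_zero],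
    ← Finset.prod_range_succ' (fun i => (σ ^ i) x)]

theorem nrm_of_fixed {σ : F ≃+* F} {x : F} (h : σ x = x) :
    AutPSL.Speiser.nrm σ x = x ^ orderOf σ := by
  rw [AutPSL.Speiser.nrm, Finset.prod_congr rfl fun i _ => fixed_pow h i, Finset.prod_const,
    Finset.card_range]

theorem nrm_mul (σ : F ≃+* F) (x y : F) :
    AutPSL.Speiser.nrm σ (x * y) = AutPSL.Speiser.nrm σ x * AutPSL.Speiser.nrm σ y := by
  simp [AutPSL.Speiser.nrm, Finset.prod_mul_distrib]

theorem nrm_pow (σ : F ≃+* F) (x : F) (k : ℕ) :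
    AutPSL.Speiser.nrm σ (x ^ k) = AutPSL.Speiser.nrm σ x ^ k := by
  simp [AutPSL.Speiser.nrm, Finset.prod_pow]

include hF

/-- The scalars of norm one inside the unitary group. -/
noncomputable def scU : Nu →* GUn where
  toFun a := scalarGU hF ((a : Fˣ) : F) (by simpa using congrArg Units.val a.2)
  map_one' := GU_ext fun v => by rw [scalarGU_mulVec, gmat_one, Matrix.one_mulVec]; simp
  map_mul' a b := GU_ext fun v => by
    rw [gmul_mulVec, scalarGU_mulVec, scalarGU_mulVec, scalarGU_mulVec, smul_smul]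
    rfl

theorem scU_mulVec (a : Nu) (v : Vec) : gmat (scU (n := n) hF a) *ᵥ v = ((a : Fˣ) : F) • v :=
  scalarGU_mulVec hF _ (by simpa using congrArg Units.val a.2) v

theorem scU_comm (a : Nu) (g : GUn) : scU hF a * g = g * scU hF a := GU_ext fun v => by
  rw [gmul_mulVec, gmul_mulVec, scU_mulVec, scU_mulVec, Matrix.mulVec_smul]

theorem scU_injective (hn : 1 ≤ n) : Function.Injective (scU (n := n) hF) := fun a b h => by
  refine Subtype.ext (Units.ext ?_)
  have h1 := congrArg (fun g : GUn => (gmat g *ᵥ Pi.single ⟨0, hn⟩ 1) ⟨0, hn⟩) h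
  simp only [scU_mulVec, Pi.smul_apply, Pi.single_eq_same, smul_eq_mul, mul_one] at h1
  exact h1

theorem gAut_eq_one_iff' (hn : 3 ≤ n) (g : GUn) :
    (gAut g : MulAut (PSU n F q)) = 1 ↔ ∃ a : Nu, g = scU hF a := by
  rw [gAut_eq_one_iff hF hn]
  constructor
  · rintro ⟨a, ha⟩
    have h1 := norm_of_scalar hF (by omega) ha
    have h0 : a ≠ 0 := fun h => by rw [h, zero_pow (by omega)] at h1; exact zero_ne_one h1
    exact ⟨⟨Units.mk0 a h0, Units.ext (by simpa using h1)⟩, GU_ext fun v => by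
      rw [ha, scU_mulVec]; rfl⟩
  · rintro ⟨a, rfl⟩
    exact ⟨_, scU_mulVec hF a⟩

theorem gAut_scU (hn : 3 ≤ n) (a : Nu) : (gAut (scU hF a) : MulAut (PSU n F q)) = 1 :=
  (gAut_eq_one_iff' hF hn _).2 ⟨a, rfl⟩

/-- A field automorphism on the scalars of norm one. -/
def fieldNu (σ : F ≃+* F) : Nu →* Nu :=
  ((Units.map σ.toRingHom.toMonoidHom).comp (MonoidHom.ker (powMonoidHom (q + 1) : Fˣ →* Fˣ)).subtype).codRestrict Nu fun a => Units.ext (by
    have h : ((a : Fˣ) : F) ^ (q + 1) = 1 := by simpa using congrArg Units.val a.2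
    simp [← map_pow, h])

theorem fieldGU_scU (σ : F ≃+* F) (a : Nu) :
    fieldGU σ (scU (n := n) hF a) = scU hF (fieldNu σ a) := GU_ext fun v => by
  obtain ⟨v, rfl⟩ : ∃ v' : Vec, (fun i => σ (v' i)) = v := ⟨fun i => σ.symm (v i), by simp⟩
  rw [gmat_fieldGU, map_mulVec_field, scU_mulVec, scU_mulVec]
  funext i
  simp [fieldNu]

theorem twistU_sc_mul (σ : F ≃+* F) (a : Nu) (A : GUn) :
    ∀ i, ∃ b : Nu, twistU σ (scU hF a * A) i = scU hF b * twistU σ A i ∧
      ((b : Fˣ) : F) = ∏ j ∈ Finset.range i, (σ ^ j) ((a : Fˣ) : F)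
  | 0 => ⟨1, by simp [twistU]⟩
  | i + 1 => by
    obtain ⟨b, h1, h2⟩ := twistU_sc_mul σ a A i
    refine ⟨a * fieldNu σ b, ?_, ?_⟩
    · rw [twistU, twistU, h1, map_mul (fieldGU σ), fieldGU_scU hF, map_mul (scU (n := n) hF)]
      simp only [mul_assoc]
      rw [← mul_assoc A, ← scU_comm, mul_assoc]
    · rw [Finset.prod_range_succ', Subgroup.coe_mul, Units.val_mul, mul_comm, pow_zero]
      change σ ((b : Fˣ) : F) * _ = _
      rw [h2, map_prod]
      congr 1
      exact Finset.prod_congr rfl fun j _ => by rw [pow_succ']; rfl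

theorem exists_fixed_not (σ : F ≃+* F) (hσ : Odd (orderOf σ)) : ∃ x : F, σ x = x ∧ x ^ q ≠ x := by
  have : Finite (F ≃+* F) := Finite.of_injective (fun e : F ≃+* F => (e : F → F)) DFunLike.coe_injective
  by_cases h2 : (2 : F) = 0
  · obtain ⟨t, ht⟩ := exists_trace_eq hF (c := (1 : F)) (one_pow q)
    set x := ∑ i ∈ Finset.range (orderOf σ), (σ ^ i) t with hx
    have hfix : σ x = x := by
      obtain ⟨k, hk⟩ : ∃ k, orderOf σ = k + 1 := ⟨orderOf σ - 1, by have := orderOf_pos σ; omega⟩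
      rw [hx, map_sum]
      simp only [show ∀ i : ℕ, σ ((σ ^ i) t) = (σ ^ (i + 1)) t from fun i => by rw [pow_succ']; rfl]
      rw [hk, Finset.sum_range_succ, show (σ ^ (k + 1)) t = (σ ^ 0) t by rw [← hk, pow_orderOf_eq_one, pow_zero],
        ← Finset.sum_range_succ' (fun i => (σ ^ i) t)]
    refine ⟨x, hfix, fun h => ?_⟩
    have h1 : x + x ^ q = 1 := by
      have hq : x ^ q = ∑ i ∈ Finset.range (orderOf σ), (σ ^ i) (t ^ q) := by
        rw [hx, ← HermStd.qHom_apply hF, map_sum]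
        exact Finset.sum_congr rfl fun i _ => by rw [HermStd.qHom_apply, map_pow]
      rw [hq, hx, ← Finset.sum_add_distrib,
        Finset.sum_congr rfl fun i _ => show (σ ^ i) t + (σ ^ i) (t ^ q) = 1 by rw [← map_add, ht, map_one],
        Finset.sum_const, Finset.card_range, nsmul_eq_mul, mul_one]
      obtain ⟨k, hk⟩ := hσ
      rw [hk]; push_cast
      linear_combination (k : F) * h2
    rw [h] at h1
    exact one_ne_zero (α := F) (by linear_combination x * h2 - h1)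
  · obtain ⟨c, hc0, hc⟩ := exists_traceZero hF
    refine ⟨_, sigma_nrm σ c, fun h => ?_⟩
    have h1 : AutPSL.Speiser.nrm σ c ^ q = (-1) ^ orderOf σ * AutPSL.Speiser.nrm σ c := by
      rw [← nrm_pow, show c ^ q = -1 * c by linear_combination hc, nrm_mul,
        nrm_of_fixed (show σ (-1 : F) = -1 by simp)]
    rw [h, hσ.neg_one_pow] at h1
    have hne : AutPSL.Speiser.nrm σ c ≠ 0 := Finset.prod_ne_zero_iff.2 fun i _ => (map_ne_zero _).2 hc0
    exact h2 ((mul_eq_zero.1 (show (2 : F) * AutPSL.Speiser.nrm σ c = 0 by linear_combination h1)).resolve_right hne)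

/-- Speiser's theorem inside the unitary group. -/
theorem speiserU (σ : F ≃+* F) (hσ : Odd (orderOf σ)) (A : GUn) (hA : twistU σ A (orderOf σ) = 1) :
    ∃ B : GUn, A = B * (fieldGU σ B)⁻¹ := by
  classical
  have htw : ∀ i, AutPSL.Speiser.twist σ (A : GL (Fin n) F) i = (twistU σ A i : GL (Fin n) F) := fun i => by
    induction i with
    | zero => rfl
    | succ i ih =>
      rw [AutPSL.Speiser.twist, twistU, ih, Subgroup.coe_mul]
      exact congrArg ((A : GL (Fin n) F) * ·) (Units.ext rfl)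
  obtain ⟨B, hB'⟩ := AutPSL.Speiser.speiser σ (A : GL (Fin n) F) (by rw [htw, hA, Subgroup.coe_one])
  have hB : gmat A * ((B : Mat).map σ) = (B : Mat) := congrArg Units.val (eq_mul_inv_iff_mul_eq.1 hB')
  let K : Subfield F := RingHom.eqLocusField σ.toRingHom (RingHom.id F)
  let G : Mat := (B : Mat)ᵀ * (B : Mat).map (HermStd.qHom hF)
  have hqσ : ∀ x : F, σ (x ^ q) = σ x ^ q := fun x => map_pow σ x q
  have hGσ : G.map σ = G := by
    have h1 := (preserves_iff hF (gmat A)).1 (GU_H A)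
    have e1 : ((B : Mat).map (HermStd.qHom hF)).map σ = ((B : Mat).map σ).map (HermStd.qHom hF) := by
      ext i j; simp [hqσ]
    calc G.map σ = ((B : Mat).map σ)ᵀ * ((B : Mat).map σ).map (HermStd.qHom hF) := by
          rw [Matrix.map_mul, e1, ← Matrix.transpose_map]
      _ = ((B : Mat).map σ)ᵀ * ((gmat A)ᵀ * (gmat A).map (HermStd.qHom hF)) *
            ((B : Mat).map σ).map (HermStd.qHom hF) := by rw [h1, mul_one]
      _ = (gmat A * (B : Mat).map σ)ᵀ * (gmat A * (B : Mat).map σ).map (HermStd.qHom hF) := by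
          rw [Matrix.transpose_mul, Matrix.map_mul]; simp only [mul_assoc]
      _ = G := by rw [hB]
  let G₀ : Matrix (Fin n) (Fin n) K := Matrix.of fun k l => ⟨G k l, congrFun (congrFun hGσ k) l⟩
  have hG₀ : G₀.map K.subtype = G := rfl
  -- the involution on `K`
  have hKq : ∀ x : K, (x : F) ^ q ∈ K := fun x => (hqσ x).trans (congrArg (· ^ q) x.2)
  let τ : K ≃+* K :=
    { toFun := fun x => ⟨(x : F) ^ q, hKq x⟩
      invFun := fun x => ⟨(x : F) ^ q, hKq x⟩
      left_inv := fun x => Subtype.ext (pow_qq hF _)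
      right_inv := fun x => Subtype.ext (pow_qq hF _)
      map_mul' := fun x y => Subtype.ext (mul_pow _ _ _)
      map_add' := fun x y => Subtype.ext (HermStd.add_pow_q hF _ _) }
  have hτ : orderOf τ = 2 := orderOf_eq_prime
    (RingEquiv.ext fun x => Subtype.ext (by rw [pow_two]; exact pow_qq hF (x : F)))
    (fun h => by
      obtain ⟨x, hx, hx'⟩ := exists_fixed_not hF σ hσ
      exact hx' (congrArg Subtype.val (DFunLike.congr_fun h (⟨x, hx⟩ : K))))
  have hdet : G₀.det ≠ 0 := fun h0 => by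
    have h1 := congrArg K.subtype h0
    rw [RingHom.map_det, RingHom.mapMatrix_apply, hG₀, map_zero, Matrix.det_mul, Matrix.det_transpose,
      ← RingHom.mapMatrix_apply, ← RingHom.map_det, mul_eq_zero, map_eq_zero, or_self] at h1
    exact (Matrix.GeneralLinearGroup.det B).ne_zero (by simpa using h1)
  obtain ⟨D, hD⟩ := AutPSL.Speiser.hermitian_eq τ hτ (Matrix.GeneralLinearGroup.mkOfDetNeZero G₀ hdet) (by
    change (G₀.map τ)ᵀ = G₀
    ext k l
    change (∑ i, (B : Mat) i l * ((B : Mat) i k) ^ q) ^ q = ∑ i, (B : Mat) i k * ((B : Mat) i l) ^ q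
    rw [← HermStd.qHom_apply hF, map_sum]
    refine Finset.sum_congr rfl fun i _ => ?_
    rw [HermStd.qHom_apply, mul_pow, pow_qq hF, mul_comm])
  change G₀ = _ at hD
  let C₀ : Matrix (Fin n) (Fin n) K := ((D⁻¹ : GL (Fin n) K) : Matrix _ _ K)ᵀ
  have hC₀ : C₀ᵀ * G₀ * C₀.map τ = 1 := by
    rw [hD, Matrix.transpose_transpose, ← mul_assoc, Units.inv_mul, one_mul, Matrix.transpose_map,
      ← Matrix.transpose_mul, ← Matrix.map_mul, Units.inv_mul, Matrix.map_one _ (map_zero τ) (map_one τ),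
      Matrix.transpose_one]
  set C : Mat := C₀.map K.subtype
  have hCσ : C.map σ = C := Matrix.ext fun k l => (C₀ k l).2
  have hCq : (C₀.map τ).map K.subtype = C.map (HermStd.qHom hF) := rfl
  have hBC : ((B : Mat) * C)ᵀ * ((B : Mat) * C).map (HermStd.qHom hF) = 1 := by
    have h1 := congrArg (fun X : Matrix (Fin n) (Fin n) K => X.map K.subtype) hC₀
    simp only [Matrix.map_mul, Matrix.map_one K.subtype (map_zero _) (map_one _), ← Matrix.transpose_map,
      hG₀, hCq] at h1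
    rw [Matrix.transpose_mul, Matrix.map_mul]
    simp only [G, C, mul_assoc, Matrix.transpose_map] at h1 ⊢
    exact h1
  refine ⟨guMk hF _ ((preserves_iff hF _).2 hBC), eq_mul_inv_of_mul_eq (Subtype.ext (Units.ext ?_))⟩
  change gmat A * ((B : Mat) * C).map σ = (B : Mat) * C
  rw [Matrix.map_mul, hCσ, ← mul_assoc, hB]

/-- A norm-one element fixed by `σ` is the norm of a norm-one element. -/
theorem exists_nrm_normOne (σ : F ≃+* F) (hσ : Odd (orderOf σ)) {a : F} (ha : a ^ (q + 1) = 1)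
    (hfix : σ a = a) : ∃ l : F, l ^ (q + 1) = 1 ∧ AutPSL.Speiser.nrm σ l = a := by
  have hq := HermStd.one_lt_q hF
  have ha0 : a ≠ 0 := fun h => by rw [h, zero_pow (by omega)] at ha; exact zero_ne_one ha
  obtain ⟨l₀, hl₀⟩ := AutPSL.Speiser.nrm_surjective σ (Units.mk0 a ha0) hfix
  obtain ⟨k, hk⟩ := hσ
  refine ⟨a * ((l₀ : F) ^ (q - 1)) ^ k, ?_, ?_⟩
  · rw [mul_pow, ha, one_mul, ← pow_mul, ← pow_mul,
      show (q - 1) * (k * (q + 1)) = (q - 1) * (q + 1) * k by ring, pow_mul, ← natCard_units_F hF,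
      ← Units.val_pow_eq_pow_val, pow_card_eq_one', Units.val_one, one_pow]
  · rw [nrm_mul, nrm_pow, nrm_pow, nrm_of_fixed hfix, hl₀, Units.val_mk0, hk, ← pow_mul, ← pow_add]
    have h2 : (q - 1) * k + 2 * k = (q + 1) * k := by
      obtain ⟨j, rfl⟩ : ∃ j, q = j + 1 := ⟨q - 1, by omega⟩
      rw [Nat.add_sub_cancel]; ring
    rw [show 2 * k + 1 + (q - 1) * k = (q + 1) * k + 1 by omega, pow_add, pow_mul, ha, one_pow, one_mul,
      pow_one]

theorem exists_decomp_field (hn : 3 ≤ n) (σ : F ≃+* F) {r : ℕ} (hσ : orderOf σ = r) (hr : Odd r)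
    (A : GUn) (h : (gAut A * fAut σ : MulAut (PSU n F q)) ^ r = 1) :
    ∃ B : GUn, (gAut A * fAut σ : MulAut (PSU n F q)) = gAut B * fAut σ * (gAut B)⁻¹ := by
  rw [pow_gAut_fAut, show σ ^ r = 1 by rw [← hσ]; exact pow_orderOf_eq_one σ, map_one, mul_one] at h
  obtain ⟨a, hc⟩ := (gAut_eq_one_iff' hF hn _).1 h
  have hfix : σ ((a : Fˣ) : F) = ((a : Fˣ) : F) := by
    have h1 := twistU_succ' σ A r
    rw [twistU, hc, fieldGU_scU hF, ← hσ, pow_orderOf_eq_one, fieldGU_one, scU_comm hF a A] at h1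
    exact congrArg (fun x : Nu => ((x : Fˣ) : F)) (scU_injective hF (by omega) (mul_left_cancel h1))
  obtain ⟨l, hl1, hl⟩ := exists_nrm_normOne hF σ (hσ ▸ hr)
    (show ((a : Fˣ) : F) ^ (q + 1) = 1 by simpa using congrArg Units.val a.2) hfix
  have hl0 : l ≠ 0 := fun h0 => by rw [h0, zero_pow (by omega)] at hl1; exact zero_ne_one hl1
  set L : Nu := ⟨Units.mk0 l hl0, Units.ext (by simpa using hl1)⟩
  obtain ⟨b, hb1, hb2⟩ := twistU_sc_mul hF σ L⁻¹ A r
  have hb : b = a⁻¹ := by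
    refine Subtype.ext (Units.ext ?_)
    simp only [hb2, InvMemClass.coe_inv, Units.val_inv_eq_inv_val]
    rw [← hl, AutPSL.Speiser.nrm, hσ,
      ← Finset.prod_inv_distrib]
    exact Finset.prod_congr rfl fun j _ => by simp [L]
  obtain ⟨B, hB⟩ := speiserU hF σ (hσ ▸ hr) (scU hF L⁻¹ * A)
    (by rw [hσ, hb1, hb, hc, ← map_mul, inv_mul_cancel, map_one])
  refine ⟨B, ?_⟩
  have h2 : (gAut A : MulAut (PSU n F q)) = gAut B * gAut (fieldGU σ B⁻¹) := by
    rw [← map_mul, map_inv, ← hB, map_mul, gAut_scU hF hn, one_mul]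
  rw [h2, ← map_inv, mul_assoc, ← fAut_mul_gAut, mul_assoc]

theorem field_order (hn : 3 ≤ n) {σ : F ≃+* F} {r : ℕ}
    (h : orderOf (fAut σ : MulAut (PSU n F q)) = r) : orderOf σ = r := by
  rw [← h, orderOf_injective _ (fAut_injective hF hn)]

variable (p : ℕ) [Fact p.Prime] [CharP F p]

include p in
theorem orderOf_iff_isConjUnder (hn : 3 ≤ n) (h32 : ¬ (n = 3 ∧ q = 2)) (x δ : MulAut (PSU n F q))
    (hx : IsFieldAutClassPSU x) {r : ℕ} (hxr : orderOf x = r) (hδ : δ ∈ inndiagPSU n F q) :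
    orderOf (δ * x) = r ↔ IsConjUnder (inndiagPSU n F q) x (δ * x) := by
  have horder : ∀ a y : MulAut (PSU n F q), orderOf (a * y * a⁻¹) = orderOf y :=
    fun a y => (MulAut.conj a).orderOf_eq y
  constructor
  swap
  · rintro ⟨h, -, e⟩
    rw [e, horder, hxr]
  intro hor
  have hnor := range_normal hF p hn h32
  rw [inndiagPSU_eq] at hδ ⊢
  obtain ⟨α, φ, σ, -, hodd, hφ, hαx⟩ := hx
  obtain rfl := (isFieldAutPSUOf_iff σ φ).1 hφ
  obtain ⟨A, hA⟩ := hnor.conj_mem δ hδ α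
  have hA' : α * (δ * x) * α⁻¹ = gAut A * fAut σ := by rw [← hαx, hA]; group
  rw [← horder α, hαx] at hxr
  rw [← horder α, hA'] at hor
  have hσ := field_order hF hn hxr
  obtain ⟨B, hB⟩ := exists_decomp_field hF hn σ hσ (hσ ▸ hodd) A (by rw [← hor, pow_orderOf_eq_one])
  refine ⟨α⁻¹ * gAut B * α, by simpa using hnor.conj_mem _ ⟨B, rfl⟩ α⁻¹, ?_⟩
  calc δ * x = α⁻¹ * (α * (δ * x) * α⁻¹) * α := by group
    _ = α⁻¹ * (gAut B * (α * x * α⁻¹) * (gAut B)⁻¹) * α := by rw [hA', hB, hαx]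
    _ = _ := by group

end Cfsg.Agent.AutPSU.Conj
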