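import Cfsg.Agent.Lib.AutPSU.Conj
import Cfsg.Agent.Lib.AutPSL.FieldCent

/-!
# The centraliser of a standard field automorphism in `Inndiag(PSU_n(q))`
-/

set_option autoImplicit false
set_option linter.unusedSectionVars false

namespace Cfsg.Agent.AutPSU.FieldCent

open Matrix Cfsg.Agent.Classical Cfsg.Agent.Classical.Unitary Cfsg.Agent.Forms
  Cfsg.Agent.AutPSU.Basic Cfsg.Agent.AutPSU.Main Cfsg.Agent.AutPSU.Count Cfsg.Agent.AutPSU.Conj
  Cfsg.Agent.AutPSL.SplitClass

universe u v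

variable {F : Type u} [Field F] [Fintype F] {q n : ℕ} (hF : Fintype.card F = q ^ 2)
  {F₀ : Type v} [Field F₀] [Fintype F₀] {q₀ : ℕ} (hF₀ : Fintype.card F₀ = q₀ ^ 2)
  {ι : F₀ →+* F} (hιq : ∀ y : F₀, ι y ^ q = ι (y ^ q₀))

local notation "Vec" => (Fin n → F)
local notation "Mat" => Matrix (Fin n) (Fin n) F
local notation "GUn" => Cfsg.GU n F q
local notation "H" => Cfsg.hermForm n F q
local notation "Nu" => MonoidHom.ker (powMonoidHom (q + 1) : Fˣ →* Fˣ)

include hF hF₀ hιq

theorem mapGU_mem (g : Cfsg.GU n F₀ q₀) :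
    Matrix.GeneralLinearGroup.map ι (g : GL (Fin n) F₀) ∈ Cfsg.GU n F q := by
  refine (preserves_iff hF _).2 ?_
  have h := congrArg (fun X : Matrix (Fin n) (Fin n) F₀ => X.map ι) ((preserves_iff hF₀ _).1 (GU_H g))
  have e : ((gmat g).map (HermStd.qHom hF₀)).map ι = ((gmat g).map ι).map (HermStd.qHom hF) := by
    ext i j
    simp only [Matrix.map_apply, HermStd.qHom_apply, hιq]
  simp only [Matrix.map_mul, Matrix.map_one ι (map_zero _) (map_one _), e] at h
  simp only [Matrix.transpose_map] at h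
  exact h

/-- A unitary matrix over the subfield as one over the field. -/
def mapGU : Cfsg.GU n F₀ q₀ →* GUn :=
  ((Matrix.GeneralLinearGroup.map ι).comp (Cfsg.GU n F₀ q₀).subtype).codRestrict (Cfsg.GU n F q)
    fun g => mapGU_mem hF hF₀ hιq g

theorem gmat_mapGU (g : Cfsg.GU n F₀ q₀) :
    gmat (mapGU hF hF₀ hιq g) = (gmat g).map ι := rfl

/-- The action of the unitary group over the subfield. -/
def subAct : Cfsg.GU n F₀ q₀ →* MulAut (PSU n F q) := gAut.comp (mapGU hF hF₀ hιq)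

theorem subAct_ker (hn : 3 ≤ n) :
    (subAct (n := n) hF hF₀ hιq).ker = (Geo.scalars (Fin n) F₀).subgroupOf (Cfsg.GU n F₀ q₀) := by
  ext g
  rw [MonoidHom.mem_ker, subAct, MonoidHom.comp_apply, gAut_eq_one_iff hF hn, Subgroup.mem_subgroupOf]
  constructor
  · rintro ⟨a, ha⟩
    have hentry : ∀ i j, ι (gmat g i j) = if i = j then a else 0 := by
      intro i j
      have h1 := congrFun (ha (Pi.single j 1)) i
      rw [Matrix.mulVec_single_one, gmat_mapGU] at h1
      simpa [Pi.single_apply] using h1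
    set i0 : Fin n := ⟨0, by omega⟩
    set c := gmat g i0 i0
    have hc : ι c = a := by rw [hentry, if_pos rfl]
    have hc0 : c ≠ 0 := fun h0 => by
      refine (Matrix.GeneralLinearGroup.det (g : GL (Fin n) F₀)).ne_zero ?_
      change (gmat g).det = 0
      refine Matrix.det_eq_zero_of_row_eq_zero i0 fun j => ι.injective ?_
      rw [hentry, ← hc, h0, map_zero, ite_self]
    refine ⟨Units.mk0 c hc0, Units.ext (Matrix.ext fun i j => ι.injective ?_)⟩
    rw [hentry i j]
    change ι (Matrix.scalar (Fin n) c i j) = _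
    rw [Matrix.scalar_apply, Matrix.diagonal_apply, apply_ite ι, map_zero, hc]
  · rintro ⟨c, hc⟩
    refine ⟨ι c, fun v => ?_⟩
    rw [gmat_mapGU]
    change (((g : GL (Fin n) F₀) : Matrix (Fin n) (Fin n) F₀)).map ι *ᵥ v = _
    rw [← hc]
    change (Matrix.scalar (Fin n) (c : F₀)).map ι *ᵥ v = _
    rw [Matrix.scalar_apply, Matrix.diagonal_map (map_zero ι)]
    funext i
    simp [Matrix.mulVec_diagonal]

omit hF₀ hιq in
theorem exists_fixed_norm (σ : F ≃+* F) (hσ : Odd (orderOf σ)) {N : F} (hN0 : N ≠ 0)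
    (hNσ : σ N = N) (hNq : N ^ q = N) : ∃ k : F, σ k = k ∧ k ^ (q + 1) = N := by
  obtain ⟨x, hx⟩ := UnitaryCount.exists_norm_eq hF (μ := N) hN0 hNq
  obtain ⟨j, hj⟩ := hσ
  refine ⟨AutPSL.Speiser.nrm σ x * (N ^ j)⁻¹, ?_, ?_⟩
  · rw [map_mul, sigma_nrm, map_inv₀, map_pow, hNσ]
  · have h2 : N ^ (q + 1) = N ^ 2 := by rw [pow_succ, hNq, pow_two]
    rw [mul_pow, inv_pow, ← pow_mul, mul_comm j, pow_mul, h2, ← pow_mul, ← nrm_pow, hx,
      nrm_of_fixed hNσ, hj, pow_succ, mul_comm (2 : ℕ) j, mul_comm (N ^ (j * 2)), mul_assoc,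
      mul_inv_cancel₀ (pow_ne_zero _ hN0), mul_one]

theorem subAct_range (hn : 3 ≤ n) (σ : F ≃+* F) (hσ : Odd (orderOf σ)) (hfix : ∀ y, σ (ι y) = ι y)
    (hsur : ∀ x, σ x = x → ∃ y, ι y = x) :
    (subAct (n := n) hF hF₀ hιq).range =
      (gAut (n := n) (F := F) (q := q)).range ⊓
        Subgroup.centralizer {(fAut σ : MulAut (PSU n F q))} := by
  refine le_antisymm ?_ ?_
  · rintro _ ⟨g, rfl⟩
    refine ⟨⟨_, rfl⟩, Subgroup.mem_centralizer_singleton_iff.2 ?_⟩
    rw [subAct, MonoidHom.comp_apply, fAut_mul_gAut]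
    congr 2
    exact Subtype.ext (Units.ext (Matrix.ext fun i j => (hfix _).symm))
  · rintro _ ⟨⟨A, rfl⟩, hA⟩
    have h1 := Subgroup.mem_centralizer_singleton_iff.1 hA
    rw [fAut_mul_gAut] at h1
    have h2 : (gAut ((fieldGU σ A)⁻¹ * A) : MulAut (PSU n F q)) = 1 := by
      rw [map_mul, mul_right_cancel h1, ← map_mul, inv_mul_cancel, map_one]
    obtain ⟨c, hc⟩ := (gAut_eq_one_iff' hF hn _).1 h2
    have hA2 : A = scU hF c * fieldGU σ A := by rw [scU_comm, ← hc, mul_inv_cancel_left]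
    obtain ⟨b, hb⟩ : ∃ b : Nu, scU (n := n) hF b⁻¹ * A = fieldGU σ (scU (n := n) hF b⁻¹ * A) := by
      have hiter : ∀ i, A = twistU σ (scU hF c) i * fieldGU (σ ^ i) A := by
        intro i
        induction i with
        | zero => simp [twistU, fieldGU_one]
        | succ i ih =>
          rw [twistU, pow_succ', fieldGU_mul, mul_assoc, ← map_mul, ← ih]
          exact hA2
      have htw : twistU σ (scU hF c : GUn) (orderOf σ) = 1 := by
        have h3 := hiter (orderOf σ)
        rw [pow_orderOf_eq_one, fieldGU_one] at h3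
        exact mul_right_cancel (h3.symm.trans (one_mul A).symm)
      obtain ⟨B, hB⟩ := speiserU hF σ hσ _ htw
      have hB2 := eq_mul_inv_iff_mul_eq.1 hB
      obtain ⟨i, j, hij⟩ : ∃ i j, gmat B i j ≠ 0 := by
        by_contra h
        push Not at h
        have : Nonempty (Fin n) := ⟨⟨0, by omega⟩⟩
        exact (B : GL (Fin n) F).ne_zero (Matrix.ext h)
      set b₀ := gmat B i j
      have h4 : ((c : Fˣ) : F) * σ b₀ = b₀ := by
        have h5 := congrArg (fun g : GUn => gmat g i j) hB2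
        rw [scU] at h5
        change ((Matrix.diagonal (fun _ : Fin n => ((c : Fˣ) : F)) : Mat) * (gmat B).map σ) i j = _ at h5
        rwa [Matrix.diagonal_mul, Matrix.map_apply] at h5
      have hcN : ((c : Fˣ) : F) ^ (q + 1) = 1 := by simpa using congrArg Units.val c.2
      set N := b₀ ^ (q + 1) with hN
      have hNσ : σ N = N := by
        rw [hN, map_pow]
        conv_rhs => rw [← h4, mul_pow, hcN, one_mul]
      have hNq : N ^ q = N := by rw [hN, pow_succ, mul_pow, pow_qq hF, mul_comm]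
      obtain ⟨k, hk, hk'⟩ := exists_fixed_norm hF σ hσ (pow_ne_zero _ hij) hNσ hNq
      have hk0 : k ≠ 0 := fun h0 => pow_ne_zero (q + 1) hij (by
        rw [← hk', h0, zero_pow (by omega)])
      set b' := b₀ / k with hb'
      have hb0 : b' ≠ 0 := div_ne_zero hij hk0
      set b : Nu := ⟨Units.mk0 b' hb0, Units.ext (by
        simp [hb', div_pow, hk', hN, div_self (pow_ne_zero _ hij)])⟩
      refine ⟨b, ?_⟩
      rw [map_mul, fieldGU_scU hF]
      conv_lhs => rw [hA2]
      rw [← mul_assoc, ← map_mul]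
      congr 2
      refine Subtype.ext (Units.ext ?_)
      change (b'⁻¹) * ((c : Fˣ) : F) = σ b'⁻¹
      have hσb := (map_ne_zero σ).2 hij
      rw [hb', inv_div, map_div₀, hk]
      field_simp
      linear_combination h4
    set A' := scU hF b⁻¹ * A with hA'
    have hent : ∀ i j, ∃ y, ι y = gmat A' i j := fun i j =>
      hsur _ (congrArg (fun g : GUn => gmat g i j) hb).symm
    choose B hB using hent
    have hBM : (Matrix.of B).map ι = gmat A' := Matrix.ext hB
    have hmem : (Matrix.of B)ᵀ * (Matrix.of B).map (HermStd.qHom hF₀) = 1 := by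
      refine Matrix.map_injective ι.injective ?_
      have h6 := (preserves_iff hF _).1 (GU_H A')
      rw [← hBM] at h6
      have e : ((Matrix.of B).map (HermStd.qHom hF₀)).map ι =
          ((Matrix.of B).map ι).map (HermStd.qHom hF) := by
        ext i j
        simp only [Matrix.map_apply, HermStd.qHom_apply, hιq]
      simp only [Matrix.map_mul, Matrix.map_one ι (map_zero _) (map_one _), e]
      rw [Matrix.transpose_map]
      exact h6
    refine ⟨guMk hF₀ _ ((preserves_iff hF₀ _).2 hmem), ?_⟩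
    have : mapGU hF hF₀ hιq (guMk hF₀ _ ((preserves_iff hF₀ _).2 hmem)) = A' :=
      Subtype.ext (Units.ext hBM)
    rw [subAct, MonoidHom.comp_apply, this, hA', map_mul, gAut_scU hF hn, one_mul]

theorem splitClassCount_fAut (hn : 3 ≤ n) (σ : F ≃+* F) (hσ : Odd (orderOf σ))
    (hfix : ∀ y, σ (ι y) = ι y) (hsur : ∀ x, σ x = x → ∃ y, ι y = x) :
    splitClassCount (gAut (n := n) (F := F) (q := q)).range (Inn (PSU n F q)) (fAut σ) =
      Nat.gcd n ((q + 1) / (q₀ + 1)) := by
  classical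
  rw [splitClassCount_eq _ _ (inn_le_range hF), ← subAct_range hF hF₀ hιq hn σ hσ hfix hsur,
    ← Subgroup.index_comap]
  let d : GUn →* Nu := (detHom n F q).codRestrict _ fun g => by
    rw [← range_detHom hF (show 1 ≤ n by omega)]
    exact ⟨g, rfl⟩
  have hd : Function.Surjective d := fun a => by
    have h1 : (a : Fˣ) ∈ (detHom n F q).range := by rw [range_detHom hF (by omega)]; exact a.2
    obtain ⟨g, hg⟩ := h1
    exact ⟨g, Subtype.ext hg⟩
  let e : (powMonoidHom (q₀ + 1) : F₀ˣ →* F₀ˣ).ker →* Nu :=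
    ((Units.map (ι : F₀ →* F)).comp (powMonoidHom (q₀ + 1) : F₀ˣ →* F₀ˣ).ker.subtype).codRestrict _ fun a =>
      Units.ext (by
        have h : ((a : F₀ˣ) : F₀) ^ q₀ * ((a : F₀ˣ) : F₀) = 1 := by
          rw [← pow_succ]; simpa using congrArg Units.val a.2
        change ι ((a : F₀ˣ) : F₀) ^ (q + 1) = 1
        rw [pow_succ, hιq, ← map_mul, h, map_one])
  have he : Function.Injective e := fun a b h => Subtype.ext (Units.map_injective ι.injective
    (congrArg Subtype.val h))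
  have hNu : Nat.card Nu = q + 1 := natCard_normOne hF
  have hcard : Nat.card e.range = q₀ + 1 := by
    rw [← Nat.card_congr (MonoidHom.ofInjective he).toEquiv, natCard_normOne hF₀]
  have hdvd : q₀ + 1 ∣ q + 1 := by
    rw [← hcard]
    exact (Subgroup.card_subgroup_dvd_card e.range).trans (dvd_of_eq hNu)
  set D := (q + 1) / (q₀ + 1) with hD
  have hrange : e.range = (powMonoidHom D : Nu →* Nu).range := by
    have key : ∀ S : Subgroup Nu, Nat.card S = q₀ + 1 →
        S = (powMonoidHom (q₀ + 1) : Nu →* Nu).ker := by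
      intro S hS
      refine Subgroup.eq_of_le_of_card_ge (fun x hx => ?_) ?_
      · have h1 : (⟨x, hx⟩ : S) ^ (q₀ + 1) = 1 := by rw [← hS]; exact pow_card_eq_one'
        exact congrArg Subtype.val h1
      · rw [IsCyclic.card_powMonoidHom_ker, hNu, Nat.gcd_eq_right hdvd, hS]
    rw [key _ hcard, key (powMonoidHom D : Nu →* Nu).range]
    rw [IsCyclic.card_powMonoidHom_range, hNu, Nat.gcd_eq_right (Nat.div_dvd_of_dvd hdvd),
      Nat.div_div_self hdvd (by omega)]
  have hmap : ∀ (g : Cfsg.GU n F₀ q₀), ((d (mapGU hF hF₀ hιq g) : Fˣ) : F) = ι (gmat g).det := fun g => by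
    change (gmat (mapGU hF hF₀ hιq g)).det = _
    rw [gmat_mapGU, ← RingHom.mapMatrix_apply, ← RingHom.map_det]
  have hinn : ∀ g : GUn, (gAut g : MulAut (PSU n F q)) ∈ Inn (PSU n F q) ↔
      ∃ a : Nu, a ^ n = d g := by
    intro g
    rw [gAut_mem_inn_iff hF hn]
    constructor
    · rintro ⟨a, ha, han⟩
      have ha0 : a ≠ 0 := fun h => by rw [h, zero_pow (by omega)] at ha; exact zero_ne_one ha
      exact ⟨⟨Units.mk0 a ha0, Units.ext (by simpa using ha)⟩, Subtype.ext (Units.ext han)⟩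
    · rintro ⟨a, ha⟩
      exact ⟨((a : Fˣ) : F), by simpa using congrArg Units.val a.2,
        (Units.val_pow_eq_pow_val _ n).symm.trans (congrArg (fun x : Nu => ((x : Fˣ) : F)) ha)⟩
  have hcomap : Subgroup.comap (gAut (n := n) (F := F) (q := q))
      (Inn (PSU n F q) ⊔ (subAct (n := n) hF hF₀ hιq).range) =
      Subgroup.comap d ((powMonoidHom n : Nu →* Nu).range ⊔ e.range) := by
    ext g
    rw [Subgroup.mem_comap, Subgroup.mem_comap, Subgroup.mem_sup_of_normal_left, Subgroup.mem_sup]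
    constructor
    · rintro ⟨i, hi, _, ⟨A, rfl⟩, eq⟩
      have h1 : (gAut (g * (mapGU hF hF₀ hιq A)⁻¹) : MulAut (PSU n F q)) ∈ Inn (PSU n F q) := by
        rw [map_mul, map_inv, ← eq]
        simpa [subAct] using hi
      obtain ⟨c, hc⟩ := (hinn _).1 h1
      have hA : detHom n F₀ q₀ A ∈ (powMonoidHom (q₀ + 1) : F₀ˣ →* F₀ˣ).ker := by
        rw [← range_detHom hF₀ (show 1 ≤ n by omega)]; exact ⟨A, rfl⟩
      refine ⟨c ^ n, ⟨c, rfl⟩, e ⟨_, hA⟩, ⟨_, rfl⟩, ?_⟩
      rw [hc, map_mul, map_inv, show e ⟨_, hA⟩ = d (mapGU hF hF₀ hιq A) from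
        Subtype.ext (Units.ext (hmap A).symm), inv_mul_cancel_right]
    · rintro ⟨_, ⟨c, rfl⟩, _, ⟨a, rfl⟩, eq⟩
      have ha : (a : F₀ˣ) ∈ (detHom n F₀ q₀).range := by rw [range_detHom hF₀ (by omega)]; exact a.2
      obtain ⟨A, hA⟩ := ha
      refine ⟨gAut (g * (mapGU hF hF₀ hιq A)⁻¹), (hinn _).2 ⟨c, ?_⟩, _, ⟨A, rfl⟩, ?_⟩
      · have he' : d (mapGU hF hF₀ hιq A) = e a := Subtype.ext (Units.ext ((hmap A).trans (by
          rw [← detHom_apply, hA]; rfl)))
        rw [map_mul d, map_inv, he', ← eq, powMonoidHom_apply, mul_inv_cancel_right]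
      · rw [subAct, MonoidHom.comp_apply, ← map_mul, inv_mul_cancel_right]
  rw [hcomap, Subgroup.index_comap_of_surjective _ hd, hrange, AutPSL.FieldCent.sup_range_pow,
    IsCyclic.index_powMonoidHom_range, hNu,
    Nat.gcd_eq_right ((Nat.gcd_dvd_right n D).trans (Nat.div_dvd_of_dvd hdvd))]

omit hF₀ hιq in
theorem main {p f : ℕ} [Fact p.Prime] (hq : q = p ^ f) (hn : 3 ≤ n) (h32 : ¬ (n = 3 ∧ q = 2))
    (x : MulAut (PSU n F q)) (hx : IsFieldAutClassPSU x) {r : ℕ} (hro : Odd r) (hxr : orderOf x = r)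
    (hF₀ : Fintype.card F₀ = p ^ (2 * (f / r))) :
    r ∣ f ∧ Nonempty (↥(inndiagPSU n F q ⊓ Subgroup.centralizer {x}) ≃* PGU n F₀ (p ^ (f / r))) ∧
      splitClassCount (inndiagPSU n F q) (Inn (PSU n F q)) x =
        Nat.gcd n ((q + 1) / (p ^ (f / r) + 1)) := by
  obtain ⟨_, -⟩ := field_setup (F := F) hF p hq
  obtain ⟨α, φ, σ, -, -, hφ, hαx⟩ := hx
  obtain rfl := (isFieldAutPSUOf_iff σ φ).1 hφ
  rw [← (MulAut.conj α).orderOf_eq x, MulAut.conj_apply, hαx] at hxr
  have hσ := field_order hF hn hxr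
  have hF' : Fintype.card F = p ^ (2 * f) := by rw [hF, hq, ← pow_mul, mul_comm]
  have hrf : r ∣ f := (Nat.Coprime.dvd_of_dvd_mul_left
    (Nat.Coprime.symm (Nat.coprime_two_left.2 hro))
    (hσ ▸ AutPSL.FieldCent.dvd_degree hF' σ))
  obtain ⟨ι, hfix, hsur⟩ := AutPSL.FieldCent.exists_emb (F₀ := F₀) hF' σ hσ (by
    rw [hF₀, Nat.mul_div_assoc 2 hrf])
  set q₀ := p ^ (f / r) with hq₀
  have hF₀' : Fintype.card F₀ = q₀ ^ 2 := by rw [hF₀, hq₀, ← pow_mul, mul_comm]
  have hqq : q = q₀ ^ r := by rw [hq, hq₀, ← pow_mul, Nat.div_mul_cancel hrf]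
  have hιq : ∀ y : F₀, ι y ^ q = ι (y ^ q₀) := by
    intro y
    rw [← map_pow]
    congr 1
    obtain ⟨k, hk⟩ := hro
    rw [hqq, hk]
    clear hk hqq hxr hσ hrf
    induction k with
    | zero => simp
    | succ k ih =>
      rw [show q₀ ^ (2 * (k + 1) + 1) = q₀ ^ (2 * k + 1) * q₀ ^ 2 by rw [← pow_add]; ring_nf,
        pow_mul, ih, ← pow_mul, mul_comm, pow_mul, ← hF₀', FiniteField.pow_card]
  have := range_normal (n := n) hF p hn h32
  have : (Inn (PSU n F q)).Normal := inferInstance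
  rw [inndiagPSU_eq]
  refine ⟨hrf, ?_, ?_⟩
  · obtain ⟨e⟩ := nonempty_centralizer_conj (gAut (n := n) (F := F) (q := q)).range α x
    rw [hαx] at e
    refine ⟨e.trans ((MulEquiv.subgroupCongr (subAct_range hF hF₀' hιq hn σ (hσ ▸ hro) hfix hsur).symm).trans ?_)⟩
    exact ((QuotientGroup.quotientKerEquivRange (subAct (n := n) hF hF₀' hιq)).symm.trans
      (QuotientGroup.quotientMulEquivOfEq (subAct_ker hF hF₀' hιq hn)))
  · rw [← splitClassCount_conj _ _ (inn_le_range hF) α x, hαx,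
      splitClassCount_fAut hF hF₀' hιq hn σ (hσ ▸ hro) hfix hsur]

end Cfsg.Agent.AutPSU.FieldCent
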