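import Cfsg.Agent.Lib.AutPSU.Conj
import Cfsg.Agent.Lib.AutPSL.GraphBalance
import Cfsg.Agent.Lib.AutPSL.GraphFieldCent
import Cfsg.Agent.Lib.AutPSp.LocalBalance

/-!
# The odd core of the centraliser of an outer involution of `PSU_n(q)`, `q` odd

An involution `gAut A * fAut σ` with `σ` the `q`-power map descends to a symmetric or alternating
form over the fixed field, whose special isometries lie in the centraliser. The odd core permutes
the isotropic points of that form in odd blocks, so it fixes them all.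
-/

set_option autoImplicit false
set_option linter.unusedSectionVars false

namespace Cfsg.Agent.AutPSU.GraphBalance

open Matrix Cfsg.Agent.Classical Cfsg.Agent.Classical.Unitary Cfsg.Agent.Forms
  Cfsg.Agent.AutPSU.Basic Cfsg.Agent.AutPSU.Main Cfsg.Agent.AutPSU.Count Cfsg.Agent.AutPSU.Conj
open Cfsg.Agent.AutPSL.ReflForm (Data Φ IsIso Block)
open scoped LinearAlgebra.Projectivization

universe u

variable {F : Type u} [Field F] [Fintype F] {q n : ℕ} (hF : Fintype.card F = q ^ 2)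

local notation "Vec" => (Fin n → F)
local notation "Mat" => Matrix (Fin n) (Fin n) F
local notation "SUn" => Cfsg.SU n F q
local notation "GUn" => Cfsg.GU n F q
local notation "H" => Cfsg.hermForm n F q
local notation "Aut" => MulAut (Cfsg.PSU n F q)

/-- The fixed field. -/
abbrev fixF (σ : F ≃+* F) : Subfield F := RingHom.eqLocusField σ.toRingHom (RingHom.id F)

/-- A vector over the fixed field as one over the field. -/
abbrev up {σ : F ≃+* F} (v : Fin n → fixF σ) : Vec := fun i => (v i : F)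

include hF

theorem exists_q_pow (r : ℕ) [Fact r.Prime] [CharP F r] : ∃ f, q = r ^ f ∧ 1 ≤ f := by
  obtain ⟨d, hr, hd⟩ := FiniteField.card F r
  have hdvd : q ∣ r ^ (d : ℕ) := by rw [← hd, hF]; exact dvd_pow_self q two_ne_zero
  obtain ⟨f, -, hf⟩ := (Nat.dvd_prime_pow hr).1 hdvd
  have hq := HermStd.one_lt_q hF
  exact ⟨f, hf, Nat.one_le_iff_ne_zero.2 fun h => by rw [hf, h, pow_zero] at hq; omega⟩

theorem sigma_eq (r : ℕ) [Fact r.Prime] [CharP F r] {σ : F ≃+* F} (hσ : orderOf σ = 2) (x : F) :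
    σ x = x ^ q := by
  obtain ⟨f, hf, hf1⟩ := exists_q_pow hF r
  have hcard : Fintype.card F = r ^ (2 * f) := by rw [hF, hf, ← pow_mul, mul_comm]
  rw [AutPSL.GraphFieldCent.frobenius_eq hcard (by omega) hσ x, Nat.mul_div_cancel_left f two_pos, hf]

theorem map_qHom {σ : F ≃+* F} (hσq : ∀ x, σ x = x ^ q) (M : Mat) :
    M.map (HermStd.qHom hF) = M.map σ := by
  ext i j
  simp only [Matrix.map_apply, HermStd.qHom_apply, hσq]

theorem H_mulVec {σ : F ≃+* F} (hσq : ∀ x, σ x = x ^ q) (M : Mat) (a b : Vec) :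
    H (M *ᵥ a) (M *ᵥ b) = a ⬝ᵥ ((Mᵀ * M.map σ) *ᵥ fun i => σ (b i)) := by
  rw [← Matrix.mulVec_mulVec, Basic.map_mulVec_field, Matrix.dotProduct_mulVec a, Matrix.vecMul_transpose,
    H_eq_dot]
  exact congrArg (_ ⬝ᵥ ·) (funext fun i => (hσq _).symm)

/-- The form over the fixed field attached to an involution. -/
theorem exists_descent (hn : 1 ≤ n) (σ : F ≃+* F) (hσ : orderOf σ = 2) (hσq : ∀ x, σ x = x ^ q)
    (A : GUn) {c : F} (hcN : c ^ (q + 1) = 1) (hA : gmat A * (gmat A).map σ = c • (1 : Mat)) :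
    ∃ (B : GL (Fin n) F) (lam w : F) (P : GL (Fin n) (fixF σ)) (c₀ : fixF σ),
      lam ≠ 0 ∧ w ≠ 0 ∧ (P : Matrix (Fin n) (Fin n) (fixF σ))ᵀ = c₀ • (P : Matrix (Fin n) (Fin n) (fixF σ)) ∧
      lam • gmat A * (B : Mat).map σ = (B : Mat) ∧
      (B : Mat)ᵀ * (B : Mat).map σ = w • (P : Matrix (Fin n) (Fin n) (fixF σ)).map (fixF σ).subtype := by
  classical
  have hσσ : ∀ x, σ (σ x) = x := fun x => by rw [hσq, hσq, pow_qq hF]
  have hmapsmul : ∀ (a : F) (X : Mat), (a • X).map σ = σ a • X.map σ := fun a X => by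
    ext i j; simp [map_mul]
  have hσM : ∀ X : Mat, (X.map σ).map σ = X := fun X => by ext i j; exact hσσ _
  set M := gmat A
  have hc0 : c ≠ 0 := fun h => by rw [h, zero_pow (by omega)] at hcN; exact zero_ne_one hcN
  have hunit : Mᵀ * M.map σ = 1 := by
    have := (preserves_iff hF M).1 (GU_H A)
    rwa [map_qHom hF hσq] at this
  -- the scalar is a sign
  have hσc : σ c = c := by
    have h1 : (M.map σ) * M = σ c • (1 : Mat) := by
      have := congrArg (fun X : Mat => X.map σ) hA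
      simpa [Matrix.map_mul, hσM, hmapsmul] using this
    have h2 : (c⁻¹ • M.map σ) * M = 1 := mul_eq_one_comm.1 (by
      rw [Matrix.mul_smul, hA, smul_smul, inv_mul_cancel₀ hc0, one_smul])
    rw [Matrix.smul_mul, h1, smul_smul] at h2
    have h3 := congrFun (congrFun h2 ⟨0, hn⟩) ⟨0, hn⟩
    simp at h3
    field_simp at h3
    linear_combination h3
  have hcc : c * c = 1 := by
    rw [pow_succ, ← hσq, hσc] at hcN
    exact hcN
  obtain ⟨lam, hlam⟩ := UnitaryCount.exists_norm_eq hF (μ := c) hc0 (by rw [← hσq, hσc])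
  have hlam' : lam * σ lam = c := by rw [hσq, ← pow_succ']; exact hlam
  have hlam0 : lam ≠ 0 := fun h => hc0 (by rw [← hlam', h, zero_mul])
  set M' : Mat := lam • M with hM'
  have h1 : M' * M'.map σ = 1 := by
    rw [hM', hmapsmul, Matrix.smul_mul, Matrix.mul_smul, hA, smul_smul, smul_smul, hlam', hcc, one_smul]
  have h1' : M'.map σ * M' = 1 := mul_eq_one_comm.1 h1
  have hT : M'ᵀ = c • M' := by
    have h2 : M'ᵀ * M'.map σ = c • (1 : Mat) := by
      rw [hM', hmapsmul, Matrix.transpose_smul, Matrix.smul_mul, Matrix.mul_smul, hunit, smul_smul, hlam']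
    calc M'ᵀ = M'ᵀ * (M'.map σ * M') := by rw [h1', mul_one]
      _ = c • M' := by rw [← mul_assoc, h2, Matrix.smul_mul, one_mul]
  obtain ⟨B, hB⟩ := AutPSL.Speiser.speiser σ (⟨M', M'.map σ, h1, h1'⟩ : GL (Fin n) F) (by
    rw [hσ]
    refine Units.ext ?_
    simp [AutPSL.Speiser.twist, AutPSL.Main.fieldGL_coe, h1])
  have hB' : M' * (B : Mat).map σ = (B : Mat) := congrArg Units.val (eq_mul_inv_iff_mul_eq.1 hB)
  set G : Mat := (B : Mat)ᵀ * (B : Mat).map σ with hG
  have hGT : Gᵀ = c • G := by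
    have h3 : G = c • Gᵀ := by
      rw [hG, Matrix.transpose_mul, Matrix.transpose_transpose]
      conv_lhs => rw [← hB', Matrix.transpose_mul, hT, Matrix.map_mul, hσM, mul_assoc]
      rw [Matrix.smul_mul, Matrix.mul_smul]
      congr 1
      rw [← mul_assoc M', h1, one_mul]
    conv_rhs => rw [h3, smul_smul, hcc, one_smul]
  have hGσ : G.map σ = Gᵀ := by
    rw [hG, Matrix.map_mul, hσM, Matrix.transpose_mul, Matrix.transpose_transpose, Matrix.transpose_map]
  obtain ⟨w, hw0, hw⟩ : ∃ w : F, w ≠ 0 ∧ σ w = c * w := by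
    rcases mul_self_eq_one_iff.1 hcc with h | h
    · exact ⟨1, one_ne_zero, by rw [h, map_one, mul_one]⟩
    · obtain ⟨x, hx⟩ : ∃ x, σ x ≠ x := by
        by_contra hall
        push Not at hall
        rw [show σ = 1 from RingEquiv.ext hall, orderOf_one] at hσ
        omega
      exact ⟨x - σ x, sub_ne_zero.2 (Ne.symm hx), by rw [map_sub, hσσ, h]; ring⟩
  let P₀ : Matrix (Fin n) (Fin n) (fixF σ) := Matrix.of fun i j => ⟨G i j / w, by
    have h4 := congrFun (congrFun hGσ i) j
    rw [hGT, Matrix.map_apply, Matrix.smul_apply, smul_eq_mul] at h4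
    change σ (G i j / w) = G i j / w
    rw [map_div₀, h4, hw, mul_div_mul_left _ _ hc0]⟩
  have hP₀ : w • P₀.map (fixF σ).subtype = G := by
    ext i j
    change w * (G i j / w) = G i j
    rw [mul_div_cancel₀ _ hw0]
  have hdet : P₀.det ≠ 0 := fun h => by
    have h5 := congrArg Matrix.det hP₀
    rw [Matrix.det_smul, ← RingHom.mapMatrix_apply, ← RingHom.map_det, h, map_zero, mul_zero, hG,
      Matrix.det_mul, Matrix.det_transpose, ← RingEquiv.coe_toRingHom, ← RingHom.mapMatrix_apply,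
      ← RingHom.map_det] at h5
    have := (Matrix.GeneralLinearGroup.det B).ne_zero
    simp at this h5
    tauto
  refine ⟨B, lam, w, Matrix.GeneralLinearGroup.mkOfDetNeZero P₀ hdet, ⟨c, hσc⟩, hlam0, hw0, ?_, hB', hP₀.symm⟩
  ext i j
  change ((P₀ j i : fixF σ) : F) = c * (G i j / w)
  change G j i / w = _
  rw [show G j i = c * G i j from congrFun (congrFun hGT i) j, mul_div_assoc]

/-- An element of the centraliser is semilinear over the fixed field. -/
theorem exists_rational (hn : 3 ≤ n) (σ : F ≃+* F) (hσq : ∀ x, σ x = x ^ q) (A : GUn) (B : GL (Fin n) F)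
    {lam : F} (hlam : lam ≠ 0) (hB : lam • gmat A * (B : Mat).map σ = (B : Mat)) (g : GUn)
    (τ : F ≃+* F)
    (h : (gAut g * fAut τ : Aut) * (gAut A * fAut σ) = gAut A * fAut σ * (gAut g * fAut τ)) :
    ∃ (e : F) (g₀ : GL (Fin n) (fixF σ)) (τ₀ : fixF σ ≃+* fixF σ), e ≠ 0 ∧
      (∀ y, ((τ₀ y : fixF σ) : F) = τ (y : F)) ∧ ∀ v : Fin n → fixF σ,
        gmat g *ᵥ (fun i => τ (((B : Mat) *ᵥ up v) i)) =
          e • ((B : Mat) *ᵥ up ((g₀ : Matrix (Fin n) (Fin n) (fixF σ)) *ᵥ fun i => τ₀ (v i))) := by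
  classical
  have hσσ : ∀ x, σ (σ x) = x := fun x => by rw [hσq, hσq, pow_qq hF]
  have hmul : ∀ (g g' : GUn) (s s' : F ≃+* F),
      (gAut g * fAut s : Aut) * (gAut g' * fAut s') = gAut (g * fieldGU s g') * fAut (s * s') := by
    intro g g' s s'
    rw [map_mul, map_mul, mul_assoc, ← mul_assoc (fAut s), fAut_mul_gAut]
    simp only [mul_assoc]
  rw [hmul, hmul] at h
  have hcomm : τ * σ = σ * τ := field_unique hF hn h
  rw [hcomm] at h
  obtain ⟨k, hk⟩ := (gAut_eq_one_iff' hF hn ((A * fieldGU σ g)⁻¹ * (g * fieldGU τ A))).1 (by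
    rw [map_mul, map_inv, mul_right_cancel h, inv_mul_cancel])
  rw [inv_mul_eq_iff_eq_mul] at hk
  set kk : F := ((k : Fˣ) : F) with hkk
  have hkk0 : kk ≠ 0 := Units.ne_zero _
  set M := gmat A
  set G := gmat g
  have hmat : G * M.map τ = kk • (M * G.map σ) := by
    refine mat_ext fun v => ?_
    have := congrArg (fun z : GUn => gmat z *ᵥ v) hk
    simp only [gmat_mul, gmat_fieldGU] at this
    rw [this, ← Matrix.mulVec_mulVec, ← Matrix.mulVec_mulVec, scU_mulVec, Matrix.mulVec_smul,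
      Matrix.mulVec_smul, Matrix.smul_mulVec, Matrix.mulVec_mulVec]
  set Bm : Mat := (B : Mat)
  set Bi : Mat := ((B⁻¹ : GL (Fin n) F) : Mat)
  have hBBi : Bm * Bi = 1 := Units.mul_inv B
  have hBiB : Bi * Bm = 1 := Units.inv_mul B
  have hBiσ : Bi.map σ = Bi * (lam • M) := by
    have h1 : Bi.map σ * Bm.map σ = 1 := by
      rw [← Matrix.map_mul, hBiB, Matrix.map_one σ (map_zero σ) (map_one σ)]
    have h2 : (Bi * (lam • M)) * Bm.map σ = 1 := by rw [mul_assoc, hB, hBiB]
    exact (left_inv_eq_right_inv h1 (mul_eq_one_comm.1 h1)).trans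
      (left_inv_eq_right_inv h2 (mul_eq_one_comm.1 h1)).symm
  set g' : Mat := Bi * G * Bm.map τ with hg'
  set μ : F := lam * kk⁻¹ * (τ lam)⁻¹ with hμ
  have hτl : τ lam ≠ 0 := (map_ne_zero τ).2 hlam
  have hsmul : ∀ (ρ : F ≃+* F) (a : F) (X : Mat), (a • X).map ρ = ρ a • X.map ρ := fun ρ a X => by
    ext i j; simp [map_mul]
  have hg'σ : g'.map σ = μ • g' := by
    have hτσ : (Bm.map τ).map σ = (Bm.map σ).map τ := by
      ext i j
      exact (DFunLike.congr_fun hcomm (Bm i j)).symm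
    have h3 : (lam • M) * G.map σ = μ • (G * (lam • M).map τ) := by
      rw [hsmul, Matrix.mul_smul, hmat, Matrix.smul_mul, smul_smul, smul_smul, hμ]
      congr 1
      field_simp
    calc g'.map σ = Bi * ((lam • M) * G.map σ) * (Bm.map σ).map τ := by
          rw [hg', Matrix.map_mul, Matrix.map_mul, hBiσ, hτσ]; simp only [mul_assoc]
      _ = μ • (Bi * G * ((lam • M).map τ * (Bm.map σ).map τ)) := by
          rw [h3, Matrix.mul_smul, Matrix.smul_mul]; simp only [mul_assoc]
      _ = μ • g' := by rw [← Matrix.map_mul, hB]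
  have hdet : g'.det ≠ 0 := by
    rw [hg', Matrix.det_mul, Matrix.det_mul, ← RingEquiv.coe_toRingHom, ← RingHom.mapMatrix_apply,
      ← RingHom.map_det]
    refine mul_ne_zero (mul_ne_zero ?_ ?_) ((map_ne_zero _).2 ?_)
    · exact (Matrix.GeneralLinearGroup.det B⁻¹).ne_zero
    · exact det_ne_zero_of_preserves hF (GU_H g)
    · exact (Matrix.GeneralLinearGroup.det B).ne_zero
  obtain ⟨i₀, j₀, he⟩ : ∃ i j, g' i j ≠ 0 := by
    by_contra hall
    push Not at hall
    exact hdet (Matrix.det_eq_zero_of_row_eq_zero ⟨0, by omega⟩ fun j => hall _ j)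
  set e := g' i₀ j₀
  have hent : ∀ i j, σ (g' i j) = μ * g' i j := fun i j => congrFun (congrFun hg'σ i) j
  let N₀ : Matrix (Fin n) (Fin n) (fixF σ) := Matrix.of fun i j => ⟨g' i j / e, by
    change σ (g' i j / e) = g' i j / e
    rw [map_div₀, hent, hent, mul_div_mul_left]
    intro h0
    exact he (σ.injective (by rw [hent, h0, zero_mul, map_zero]))⟩
  have hN₀ : e • N₀.map (fixF σ).subtype = g' := by
    ext i j
    change e * (g' i j / e) = g' i j
    rw [mul_div_cancel₀ _ he]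
  have hN₀det : N₀.det ≠ 0 := fun h0 => hdet (by
    rw [← hN₀, Matrix.det_smul, ← RingHom.mapMatrix_apply, ← RingHom.map_det, h0, map_zero, mul_zero])
  have hfix : ∀ y : fixF σ, σ (τ (y : F)) = τ (y : F) := fun y => by
    rw [show σ (τ (y : F)) = τ (σ (y : F)) from (DFunLike.congr_fun hcomm (y : F)).symm,
      show σ (y : F) = y from y.2]
  have hfix' : ∀ y : fixF σ, σ (τ.symm (y : F)) = τ.symm (y : F) := fun y => τ.injective (by
    rw [show τ (σ (τ.symm (y : F))) = σ (τ (τ.symm (y : F))) from DFunLike.congr_fun hcomm _,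
      τ.apply_symm_apply]
    exact y.2)
  let τ₀ : fixF σ ≃+* fixF σ :=
    { toFun := fun y => ⟨τ (y : F), hfix y⟩
      invFun := fun y => ⟨τ.symm (y : F), hfix' y⟩
      left_inv := fun y => Subtype.ext (τ.symm_apply_apply _)
      right_inv := fun y => Subtype.ext (τ.apply_symm_apply _)
      map_mul' := fun x y => Subtype.ext (map_mul τ _ _)
      map_add' := fun x y => Subtype.ext (map_add τ _ _) }
  refine ⟨e, Matrix.GeneralLinearGroup.mkOfDetNeZero N₀ hN₀det, τ₀, he, fun _ => rfl, fun v => ?_⟩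
  have hup : up (N₀ *ᵥ fun i => τ₀ (v i)) = N₀.map (fixF σ).subtype *ᵥ fun i => τ (v i : F) :=
    funext fun i => RingHom.map_mulVec (fixF σ).subtype N₀ _ i
  change _ = e • (Bm *ᵥ up (N₀ *ᵥ fun i => τ₀ (v i)))
  rw [hup, ← Matrix.mulVec_smul, ← Matrix.smul_mulVec, hN₀, hg', Matrix.mulVec_mulVec, ← mul_assoc,
    ← mul_assoc, hBBi, one_mul, ← Matrix.mulVec_mulVec, Basic.map_mulVec_field]

set_option maxHeartbeats 1000000 in
/-- The main theorem for outer involutions. -/
theorem core_eq_bot (r : ℕ) [Fact r.Prime] [CharP F r] (hn : 3 ≤ n) (h32 : ¬ (n = 3 ∧ q = 2))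
    (h2 : (2 : F) ≠ 0) (𝒢 : Subgroup Aut) (hinn : ∀ k : PSU n F q, MulAut.conj k ∈ 𝒢) (A : GUn)
    (σ : F ≃+* F) (hσ : orderOf σ = 2) (hβ : (gAut A * fAut σ : Aut) ^ 2 = 1) :
    Cfsg.pPrimeCore 2 ↥(𝒢 ⊓ Subgroup.centralizer {(gAut A * fAut σ : Aut)}) = ⊥ := by
  classical
  set β : Aut := gAut A * fAut σ with hβdef
  have hσq := sigma_eq hF r hσ
  have hσ2 : σ ^ 2 = 1 := hσ ▸ pow_orderOf_eq_one σ
  rw [hβdef, pow_gAut_fAut, hσ2, map_one, mul_one] at hβ
  obtain ⟨a, ha⟩ := (gAut_eq_one_iff' hF hn _).1 hβ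
  have hA : gmat A * (gmat A).map σ = ((a : Fˣ) : F) • (1 : Mat) := mat_ext fun v => by
    have := congrArg (fun z : GUn => gmat z *ᵥ v) ha
    simp only [twistU, map_one, mul_one, gmat_mul, gmat_fieldGU, scU_mulVec] at this
    rw [this, Matrix.smul_mulVec, Matrix.one_mulVec]
  let K : Subfield F := fixF σ
  obtain ⟨B, lam, w, P, c₀, hlam, hw, hPT, hB, hG⟩ :=
    exists_descent hF (by omega) σ hσ hσq A (by simpa using congrArg Units.val a.2) hA
  set Bm : Mat := (B : Mat)
  set Bi : Mat := ((B⁻¹ : GL (Fin n) F) : Mat)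
  have hBBi : Bm * Bi = 1 := Units.mul_inv B
  have hBiB : Bi * Bm = 1 := Units.inv_mul B
  let D : Data K n := ⟨1, P, c₀, fun x => rfl, fun u v => by
    change v ⬝ᵥ (_ *ᵥ u) = c₀ * (u ⬝ᵥ (_ *ᵥ v))
    rw [Matrix.dotProduct_mulVec, ← Matrix.mulVec_transpose, hPT, Matrix.smul_mulVec, smul_dotProduct,
      smul_eq_mul, dotProduct_comm], fun h => h2 (congrArg Subtype.val h)⟩
  let J : (Fin n → K) → Vec := fun v => Bm *ᵥ up v
  have hHJ : ∀ u v, H (J u) (J v) = w * ((Φ D u v : K) : F) := fun u v => by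
    have hfv : (fun i => σ (up v i)) = up v := funext fun i => (v i).2
    rw [H_mulVec hF hσq, hG, hfv, Matrix.smul_mulVec, dotProduct_smul, smul_eq_mul]
    congr 1
    change _ = ((u ⬝ᵥ ((P : Matrix (Fin n) (Fin n) K) *ᵥ v) : K) : F)
    rw [show (((u ⬝ᵥ ((P : Matrix (Fin n) (Fin n) K) *ᵥ v) : K)) : F) =
      K.subtype (u ⬝ᵥ ((P : Matrix (Fin n) (Fin n) K) *ᵥ v)) from rfl, RingHom.map_dotProduct]
    exact congrArg (_ ⬝ᵥ ·) (funext fun i => (RingHom.map_mulVec K.subtype _ v i).symm)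
  have hiso : ∀ v, Φ D v v = 0 ↔ H (J v) (J v) = 0 := fun v => by
    rw [hHJ, mul_eq_zero, or_iff_right hw]
    exact ZeroMemClass.coe_eq_zero.symm
  have hJsmul : ∀ (t : K) v, J (t • v) = (t : F) • J v := fun t v => by
    change Bm *ᵥ _ = _
    rw [show up (t • v) = (t : F) • up v from funext fun i => rfl, Matrix.mulVec_smul]
  have hJ0 : ∀ v, v ≠ 0 → J v ≠ 0 := fun v hv e => hv (funext fun i => Subtype.ext (by
    have h1 := congrArg (Bi *ᵥ ·) e
    simp only [J, Matrix.mulVec_mulVec, hBiB, Matrix.one_mulVec, Matrix.mulVec_zero] at h1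
    exact congrFun h1 i))
  set R := Cfsg.pPrimeCore 2 ↥(𝒢 ⊓ Subgroup.centralizer {β})
  have hRodd : Odd (Nat.card R) :=
    Nat.coprime_two_right.1 PLocal.Cores.coprime_card_pPrimeCore
  have hR : R.Normal := inferInstance
  let el : R → Aut := fun x => ((x : ↥(𝒢 ⊓ Subgroup.centralizer {β})) : Aut)
  -- elements of `R` over the fixed field
  have hrat : ∀ x : R, ∃ (g : GUn) (τ : F ≃+* F) (e : F) (g₀ : GL (Fin n) K) (τ₀ : K ≃+* K),
      el x = gAut g * fAut τ ∧ e ≠ 0 ∧ (∀ y, ((τ₀ y : K) : F) = τ (y : F)) ∧ ∀ v : Fin n → K,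
        gmat g *ᵥ (fun i => τ (J v i)) =
          e • J ((g₀ : Matrix (Fin n) (Fin n) K) *ᵥ fun i => τ₀ (v i)) := by
    intro x
    obtain ⟨g, τ, hx⟩ := exists_decomp hF r hn h32 (el x)
    have hc := Subgroup.mem_centralizer_singleton_iff.1 (x : ↥(𝒢 ⊓ Subgroup.centralizer {β})).2.2
    change el x * β = β * el x at hc
    rw [hx, hβdef] at hc
    obtain ⟨e, g₀, τ₀, he, hτ₀, hv⟩ := exists_rational hF hn σ hσq A B hlam hB g τ hc
    exact ⟨g, τ, e, g₀, τ₀, hx, he, hτ₀, hv⟩
  choose gf τf ef g₀f τ₀f hdec hef hτ₀f hJf using hrat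
  let _ : MulAction R (Subgroup (PSU n F q)) :=
    { smul := fun x S => S.map (el x).toMonoidHom
      one_smul := fun S => Subgroup.map_id S
      mul_smul := fun x y S => (Subgroup.map_map S (el x).toMonoidHom (el y).toMonoidHom).symm }
  have hsmul : ∀ (x : R) (S : Subgroup (PSU n F q)), x • S = S.map (el x).toMonoidHom := fun _ _ => rfl
  let nx : R → (Fin n → K) → (Fin n → K) := fun x v =>
    (g₀f x : Matrix (Fin n) (Fin n) K) *ᵥ fun i => τ₀f x (v i)
  have hnx0 : ∀ x v, v ≠ 0 → nx x v ≠ 0 := fun x v hv =>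
    AutPSL.GraphBalance.semi_ne_zero (g₀f x) (τ₀f x) hv
  have hact : ∀ (x : R) v, Φ D v v = 0 →
      x • rootX (q := q) (J v) = rootX (J (nx x v)) ∧ Φ D (nx x v) (nx x v) = 0 := fun x v hv => by
    have hJv := (hiso v).1 hv
    refine ⟨?_, (hiso _).2 ?_⟩
    · rw [hsmul, hdec x, map_rootX_decomp hF _ _ hJv, hJf, rootX_smul hF (hef x)]
    · have h1 : H (gmat (gf x) *ᵥ fun i => τf x (J v i)) (gmat (gf x) *ᵥ fun i => τf x (J v i)) = 0 := by
        rw [GU_H, hermForm_map, hJv, map_zero]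
      rw [hJf, UnitaryCount.hermForm_smul_smul] at h1
      exact (mul_eq_zero.1 h1).resolve_left (pow_ne_zero _ (hef x))
  let Iso : ℙ K (Fin n → K) → Prop := fun p => Φ D p.rep p.rep = 0
  let Xp : ℙ K (Fin n → K) → Subgroup (PSU n F q) := fun p => rootX (J p.rep)
  have hmk : ∀ (v : Fin n → K) (hv : v ≠ 0),
      Xp (Projectivization.mk K v hv) = rootX (J v) ∧
        (Iso (Projectivization.mk K v hv) ↔ Φ D v v = 0) := fun v hv => by
    obtain ⟨t, ht⟩ := Projectivization.exists_smul_eq_mk_rep K v hv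
    have ht0 : ((t : K) : F) ≠ 0 := fun e => t.ne_zero (Subtype.ext e)
    simp only [Xp, Iso, ← ht, Units.smul_def, hJsmul, rootX_smul hF ht0,
      AutPSL.ReflForm.smul_left, AutPSL.ReflForm.smul_right, true_and]
    rw [mul_eq_zero, mul_eq_zero, map_eq_zero, or_iff_right t.ne_zero, or_iff_right t.ne_zero]
  have hinjX : ∀ p p', Iso p → Iso p' → Xp p = Xp p' → p = p' := fun p p' hp hp' h => by
    obtain ⟨t, -, ht⟩ := (rootX_eq_iff hF hn (hJ0 _ p.rep_nonzero) (hJ0 _ p'.rep_nonzero)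
      ((hiso _).1 hp) ((hiso _).1 hp')).1 h
    have h1 : ∀ i, (p'.rep i : F) = t * (p.rep i : F) := fun i => by
      have h2 := congrArg (Bi *ᵥ ·) ht
      simp only [J, Matrix.mulVec_mulVec, hBiB, Matrix.one_mulVec, Matrix.mulVec_smul] at h2
      exact congrFun h2 i
    obtain ⟨i, hi⟩ := Function.ne_iff.1 p.rep_nonzero
    have ht' : t = ((p'.rep i / p.rep i : K) : F) := by
      rw [Subfield.coe_div, h1 i, mul_div_assoc, div_self (fun e => hi (Subtype.ext e)), mul_one]
    rw [← p.mk_rep, ← p'.mk_rep]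
    exact ((Projectivization.mk_eq_mk_iff' K _ _ _ _).2 ⟨_, funext fun j =>
      Subtype.ext (by rw [h1 j, ht']; rfl)⟩).symm
  let Bl : Block D :=
    { rel := fun p p' => p = p' ∨ (Iso p ∧ Iso p' ∧ Xp p' ∈ MulAction.orbit R (Xp p))
      refl := fun p => Or.inl rfl
      symm := fun h => h.elim (fun e => Or.inl e.symm)
        fun h => Or.inr ⟨h.2.1, h.1, MulAction.mem_orbit_symm.1 h.2.2⟩
      trans := fun h h' => by
        rcases h with rfl | ⟨a1, a2, a3⟩
        · exact h'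
        rcases h' with rfl | ⟨-, b2, b3⟩
        · exact Or.inr ⟨a1, a2, a3⟩
        · exact Or.inr ⟨a1, b2, by rwa [MulAction.orbit_eq_iff.2 a3] at b3⟩
      odd := fun p => by
        by_cases hp : Iso p
        swap
        · have : Unique {p' // p = p' ∨ (Iso p ∧ Iso p' ∧ Xp p' ∈ MulAction.orbit R (Xp p))} :=
            ⟨⟨⟨p, Or.inl rfl⟩⟩, fun ⟨p', h⟩ => Subtype.ext (h.resolve_right fun h' => hp h'.1).symm⟩
          rw [Nat.card_unique]
          exact odd_one
        let f : {p' // p = p' ∨ (Iso p ∧ Iso p' ∧ Xp p' ∈ MulAction.orbit R (Xp p))} →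
            MulAction.orbit R (Xp p) := fun p' => ⟨Xp p'.1, p'.2.elim
              (fun e => e ▸ MulAction.mem_orbit_self (Xp p)) fun h => h.2.2⟩
        have hiso' : ∀ p', (p = p' ∨ (Iso p ∧ Iso p' ∧ Xp p' ∈ MulAction.orbit R (Xp p))) → Iso p' :=
          fun p' h => h.elim (fun e => e ▸ hp) fun h => h.2.1
        have hf : Function.Bijective f := by
          refine ⟨fun x y h => Subtype.ext (hinjX _ _ (hiso' _ x.2) (hiso' _ y.2) (congrArg Subtype.val h)), ?_⟩
          rintro ⟨_, x, rfl⟩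
          obtain ⟨e1, e2⟩ := hact x p.rep hp
          obtain ⟨m1, m2⟩ := hmk _ (hnx0 x _ p.rep_nonzero)
          exact ⟨⟨Projectivization.mk K _ (hnx0 x _ p.rep_nonzero), Or.inr ⟨hp, m2.2 e2, x, (e1.trans m1.symm)⟩⟩,
            Subtype.ext (m1.trans e1.symm)⟩
        rw [Nat.card_eq_of_bijective f hf]
        refine hRodd.of_dvd_nat ?_
        rw [Nat.card_congr (MulAction.orbitEquivQuotientStabilizer R (Xp p))]
        exact Subgroup.card_quotient_dvd_card _
      inv := fun X hX v v' hv hv0' hXv hXv' h => by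
        rcases h with e | ⟨a1, a2, x, hx⟩
        · obtain ⟨t, ht⟩ := (Projectivization.mk_eq_mk_iff' K _ _ _ _).1 e
          exact Or.inl ((Projectivization.mk_eq_mk_iff' K _ _ _ _).2 ⟨t, by rw [← ht, Matrix.mulVec_smul]⟩)
        have hΦv := (hmk v hv).2.1 a1
        have hΦv' := (hmk v' hv0').2.1 a2
        change x • Xp _ = Xp _ at hx
        rw [(hmk v hv).1, (hmk v' hv0').1] at hx
        set Xm : Mat := (X : Matrix (Fin n) (Fin n) K).map K.subtype with hXm
        have hXσ : Xm.map σ = Xm := Matrix.ext fun i j => ((X : Matrix (Fin n) (Fin n) K) i j).2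
        set xm : Mat := Bm * Xm * Bi with hxm
        have hiso1 : (X : Matrix (Fin n) (Fin n) K)ᵀ * (P : Matrix (Fin n) (Fin n) K) *
            (X : Matrix (Fin n) (Fin n) K) = (P : Matrix (Fin n) (Fin n) K) := Matrix.ext fun i j => by
          have h1 := hX (Pi.single i 1) (Pi.single j 1)
          simp only [Φ, D, RingAut.one_apply, Matrix.mulVec_single_one, single_one_dotProduct,
            Matrix.col_apply] at h1
          rw [← h1, mul_assoc]
          rfl
        have hxu : xmᵀ * xm.map σ = 1 := by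
          have h1 : Xmᵀ * (Bmᵀ * Bm.map σ) * Xm = Bmᵀ * Bm.map σ := by
            rw [hG, Matrix.mul_smul, Matrix.smul_mul, hXm, ← Matrix.transpose_map, ← Matrix.map_mul,
              ← Matrix.map_mul, hiso1]
          calc xmᵀ * xm.map σ = Biᵀ * (Xmᵀ * (Bmᵀ * Bm.map σ) * Xm) * Bi.map σ := by
                rw [hxm, Matrix.map_mul, Matrix.map_mul, hXσ]
                simp only [Matrix.transpose_mul, mul_assoc]
            _ = (Bm * Bi)ᵀ * (Bm * Bi).map σ := by
                rw [h1, Matrix.transpose_mul, Matrix.map_mul]; simp only [mul_assoc]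
            _ = 1 := by rw [hBBi, Matrix.map_one σ (map_zero σ) (map_one σ), Matrix.transpose_one, mul_one]
        have hdetX : Xm.det = 1 := by
          rw [hXm, ← RingHom.mapMatrix_apply, ← RingHom.map_det, X.prop, map_one]
        let xs : SUn := suMk xm (by
          rw [hxm, Matrix.det_mul, Matrix.det_mul, hdetX, mul_one, ← Matrix.det_mul, hBBi, Matrix.det_one])
          ((preserves_iff hF xm).2 (by rw [map_qHom hF hσq]; exact hxu))
        have hBiσ : Bi.map σ = Bi * (lam • gmat A) := by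
          have h1 : Bi.map σ * Bm.map σ = 1 := by
            rw [← Matrix.map_mul, hBiB, Matrix.map_one σ (map_zero σ) (map_one σ)]
          have h2 : (Bi * (lam • gmat A)) * Bm.map σ = 1 := by rw [mul_assoc, hB, hBiB]
          exact (left_inv_eq_right_inv h1 (mul_eq_one_comm.1 h1)).trans
            (left_inv_eq_right_inv h2 (mul_eq_one_comm.1 h1)).symm
        have hcm : gmat A * xm.map σ = xm * gmat A := by
          refine smul_right_injective Mat hlam ?_
          change lam • (_ : Mat) = lam • (_ : Mat)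
          rw [← Matrix.smul_mul, ← Matrix.mul_smul, hxm, Matrix.map_mul, Matrix.map_mul, hXσ, hBiσ]
          simp only [← mul_assoc]
          rw [hB]
        have hh : MulAut.conj (QuotientGroup.mk xs : PSU n F q) ∈ 𝒢 ⊓ Subgroup.centralizer {β} := by
          refine ⟨hinn _, Subgroup.mem_centralizer_singleton_iff.2 ?_⟩
          rw [conj_mk_eq_gAut, hβdef, mul_assoc (gAut A : Aut), fAut_mul_gAut, ← mul_assoc, ← mul_assoc,
            ← map_mul, ← map_mul]
          congr 2
          exact (Subtype.ext (Units.ext hcm)).symm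
        refine Or.inr ⟨(hmk _ hXv).2.2 (by rw [hX]; exact hΦv), (hmk _ hXv').2.2 (by rw [hX]; exact hΦv'),
          ⟨_, hR.conj_mem _ x.2 ⟨_, hh⟩⟩, ?_⟩
        change (_ : R) • Xp _ = Xp _
        have hJX : ∀ u : Fin n → K, J ((X : Matrix (Fin n) (Fin n) K) *ᵥ u) = mat xs *ᵥ J u := fun u => by
          change _ = xm *ᵥ (Bm *ᵥ up u)
          rw [Matrix.mulVec_mulVec, hxm, mul_assoc, hBiB, mul_one, ← Matrix.mulVec_mulVec]
          exact congrArg (Bm *ᵥ ·) (funext fun i => RingHom.map_mulVec K.subtype _ u i)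
        rw [(hmk _ hXv).1, (hmk _ hXv').1, hJX, hJX, ← map_rootX_conj hF xs ((hiso v).1 hΦv),
          ← map_rootX_conj hF xs ((hiso v').1 hΦv'), ← hx, hsmul, hsmul, Subgroup.map_map, Subgroup.map_map]
        refine congrArg (fun φ : PSU n F q →* PSU n F q => Subgroup.map φ (rootX (J v))) ?_
        refine MonoidHom.ext fun y => ?_
        change (MulAut.conj (QuotientGroup.mk xs : PSU n F q) * el x *
            (MulAut.conj (QuotientGroup.mk xs : PSU n F q))⁻¹ : Aut)
            (MulAut.conj (QuotientGroup.mk xs : PSU n F q) y) =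
          MulAut.conj (QuotientGroup.mk xs : PSU n F q) (el x y)
        simp only [MulAut.mul_apply, MulAut.inv_apply_self]
      iso := fun v hv v' hv' h hvv => by
        rcases h with e | ⟨-, a2, -⟩
        · obtain ⟨t, rfl⟩ := (Projectivization.mk_eq_mk_iff' K _ _ _ _).1 e.symm
          rw [AutPSL.ReflForm.smul_left, AutPSL.ReflForm.smul_right, hvv, mul_zero, mul_zero]
        · exact (hmk v' hv').2.1 a2 }
  refine (Subgroup.eq_bot_iff_forall R).2 fun x hx => ?_
  set x' : R := ⟨x, hx⟩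
  have hfix : ∀ v : Fin n → K, v ≠ 0 → Φ D v v = 0 →
      ∃ t : K, nx x' v = t • v := fun v hv hvv => by
    obtain ⟨e1, e2⟩ := hact x' v hvv
    refine AutPSL.ReflForm.rel_isotropic Bl hn hvv ⟨hv, hnx0 x' v hv,
      Or.inr ⟨(hmk v hv).2.2 hvv, (hmk _ (hnx0 x' v hv)).2.2 e2, x', ?_⟩⟩
    change x' • Xp _ = Xp _
    rw [(hmk v hv).1, (hmk _ (hnx0 x' v hv)).1, e1]
  obtain ⟨hτ, t, ht⟩ := AutPSL.ReflForm.rigid D hn (g₀f x') (τ₀f x') hfix
  obtain ⟨i, hi⟩ : ∃ i : ℕ, τf x' = σ ^ i := by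
    have : Finite (F ≃+* F) := Finite.of_injective (fun e : F ≃+* F => (e : F → F)) DFunLike.coe_injective
    have h := AutPSp.LocalBalance.mem_zpowers_of_fix σ (τf x') fun y hy => by
      have h1 := hτ₀f x' ⟨y, hy⟩
      rw [hτ] at h1
      exact h1.symm
    rw [← mem_powers_iff_mem_zpowers] at h
    obtain ⟨i, hi⟩ := h
    exact ⟨i, hi.symm⟩
  have hτ1 : τf x' = 1 := by
    have h1 : el x' ^ Nat.card R = 1 := by
      change ((x' : ↥(𝒢 ⊓ Subgroup.centralizer {β})) : Aut) ^ Nat.card R = 1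
      rw [← SubmonoidClass.coe_pow, ← SubmonoidClass.coe_pow, pow_card_eq_one']
      rfl
    rw [hdec, pow_gAut_fAut] at h1
    have h3 := (mul_field_eq_one hF hn h1).1
    obtain ⟨k, hk⟩ := hRodd
    rwa [hk, pow_succ, pow_mul, hi, ← pow_mul σ i, mul_comm i, pow_mul σ, hσ2, one_pow, one_pow,
      one_mul, ← hi] at h3
  refine Subtype.ext ?_
  change el x' = 1
  rw [hdec, hτ1, map_one, mul_one, gAut_eq_one_iff hF hn]
  refine ⟨ef x' * (t : F), fun v => ?_⟩
  have hcol : gmat (gf x') * Bm = (ef x' * (t : F)) • Bm := by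
    refine Matrix.ext_of_mulVec_single fun j => ?_
    have h1 := hJf x' (Pi.single j 1)
    rw [hτ1] at h1
    change gmat (gf x') *ᵥ (J (Pi.single j 1)) = _ at h1
    rw [hτ] at h1
    simp only [RingAut.one_apply] at h1
    rw [ht, hJsmul, smul_smul] at h1
    have hup : up (Pi.single j 1 : Fin n → K) = (Pi.single j 1 : Vec) := funext fun i => by
      by_cases hij : i = j <;> simp [hij]
    simp only [J, hup] at h1
    rw [← Matrix.mulVec_mulVec, h1, Matrix.smul_mulVec]
  calc gmat (gf x') *ᵥ v = (gmat (gf x') * Bm) *ᵥ (Bi *ᵥ v) := by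
        rw [Matrix.mulVec_mulVec, mul_assoc, hBBi, mul_one]
    _ = _ := by rw [hcol, Matrix.smul_mulVec, Matrix.mulVec_mulVec, hBBi, Matrix.one_mulVec]

end Cfsg.Agent.AutPSU.GraphBalance
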