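import Cfsg.Agent.Lib.AutPSU.GraphBalance
import Cfsg.Agent.Lib.AutPSU.FieldCent
import Cfsg.Agent.Lib.AutPSL.GraphFieldCent
import Cfsg.Agent.Lib.Forms.SimTypes

/-!
# Centralisers of involutory graph automorphisms of `PSU_n(q)`

An involution `gAut A * fAut σ`, `σ` the `q`-power map, comes with a frame `B` in which it is the
`q`-power map, and a form `P` over the field with `q` elements; the similitudes of `P` give its
centraliser in the inner-diagonal group.
-/

set_option autoImplicit false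
set_option linter.unusedSectionVars false

namespace Cfsg.Agent.AutPSU.GraphCent

open Matrix Cfsg.Agent.Classical Cfsg.Agent.Classical.Unitary Cfsg.Agent.Forms
  Cfsg.Agent.AutPSU.Basic Cfsg.Agent.AutPSU.Main Cfsg.Agent.AutPSU.Count Cfsg.Agent.AutPSU.Conj
  Cfsg.Agent.Forms.SimForms

universe u v

variable {F : Type u} [Field F] [Fintype F] {F₀ : Type v} [Field F₀] [Fintype F₀] {q n : ℕ}

local notation "Mat" => Matrix (Fin n) (Fin n) F
local notation "Mat₀" => Matrix (Fin n) (Fin n) F₀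
local notation "GUn" => Cfsg.GU n F q
local notation "Aut" => MulAut (Cfsg.PSU n F q)
local notation "Nu" => MonoidHom.ker (powMonoidHom (q + 1) : Fˣ →* Fˣ)

/-- The field data: the `q`-power map and the field with `q` elements. -/
structure Setup (F : Type u) [Field F] [Fintype F] (F₀ : Type v) [Field F₀] [Fintype F₀] (q : ℕ) where
  hF : Fintype.card F = q ^ 2
  σ : F ≃+* F
  hσ : orderOf σ = 2
  hq : ∀ x, σ x = x ^ q
  ι : F₀ →+* F
  fix : ∀ y, σ (ι y) = ι y
  sur : ∀ x, σ x = x → ∃ y, ι y = x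
  hF₀ : Fintype.card F₀ = q

variable (S : Setup F F₀ q)

/-- A graph involution in normal shape. -/
structure Frame (n : ℕ) where
  A : Cfsg.GU n F q
  B : GL (Fin n) F
  lam : F
  w : F
  P : GL (Fin n) F₀
  lam_ne : lam ≠ 0
  w_ne : w ≠ 0
  hB : lam • gmat A * (B : Matrix (Fin n) (Fin n) F).map S.σ = (B : Matrix (Fin n) (Fin n) F)
  hG : (B : Matrix (Fin n) (Fin n) F)ᵀ * (B : Matrix (Fin n) (Fin n) F).map S.σ =
    w • (P : Matrix (Fin n) (Fin n) F₀).map S.ι

variable {S}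

/-- The involution of a frame. -/
def Frame.γ (D : Frame S n) : Aut := gAut D.A * fAut S.σ

theorem sigma_sq (x : F) : S.σ (S.σ x) = x := by
  rw [S.hq, S.hq, ← pow_mul, ← pow_two, ← S.hF, FiniteField.pow_card]

theorem map_sigma_sq (X : Mat) : (X.map S.σ).map S.σ = X := Matrix.ext fun _ _ => sigma_sq _

theorem map_iota (X : Mat₀) : (X.map S.ι).map S.σ = X.map S.ι := Matrix.ext fun _ _ => S.fix _

theorem map_smul_sigma (a : F) (X : Mat) : (a • X).map S.σ = S.σ a • X.map S.σ := by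
  ext i j; simp [map_mul]

theorem norm_eq (x : F) : x ^ (q + 1) = x * S.σ x := by rw [pow_succ', S.hq]

theorem fixed_pow_q (y : F₀) : S.ι y ^ q = S.ι y := by rw [← S.hq, S.fix]

theorem unitary_iff (X : Mat) :
    (∀ u v, Cfsg.hermForm n F q (X *ᵥ u) (X *ᵥ v) = Cfsg.hermForm n F q u v) ↔ Xᵀ * X.map S.σ = 1 := by
  rw [preserves_iff S.hF, GraphBalance.map_qHom S.hF S.hq]

theorem gmat_unitary (g : GUn) : (gmat g)ᵀ * (gmat g).map S.σ = 1 := (unitary_iff _).1 (GU_H g)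

theorem map_det' (X : Mat₀) : (X.map S.ι).det = S.ι X.det := (S.ι.map_det X).symm

/-- `B' ιE B⁻¹` is unitary up to a factor. -/
theorem unitary_aux (D D' : Frame S n) (E : GL (Fin n) F₀) {l : F₀}
    (hE : (E : Mat₀)ᵀ * (D'.P : Mat₀) * (E : Mat₀) = l • (D.P : Mat₀)) :
    ((D'.B : Mat) * (E : Mat₀).map S.ι * ((D.B⁻¹ : GL (Fin n) F) : Mat))ᵀ *
      ((D'.B : Mat) * (E : Mat₀).map S.ι * ((D.B⁻¹ : GL (Fin n) F) : Mat)).map S.σ =
      (D'.w * S.ι l / D.w) • (1 : Mat) := by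
  set Bi : Mat := ((D.B⁻¹ : GL (Fin n) F) : Mat)
  have hEl : ((E : Mat₀).map S.ι)ᵀ * (D'.P : Mat₀).map S.ι * (E : Mat₀).map S.ι =
      S.ι l • (D.P : Mat₀).map S.ι := by
    rw [← transpose_map, ← Matrix.map_mul, ← Matrix.map_mul, hE]
    ext i j; simp [map_mul]
  have h1 : Biᵀ * ((D.B : Mat)ᵀ * (D.B : Mat).map S.σ) * Bi.map S.σ = 1 := by
    calc Biᵀ * ((D.B : Mat)ᵀ * (D.B : Mat).map S.σ) * Bi.map S.σ
        = ((D.B : Mat) * Bi)ᵀ * ((D.B : Mat) * Bi).map S.σ := by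
          rw [transpose_mul, Matrix.map_mul]; simp only [mul_assoc]
      _ = 1 := by rw [Units.mul_inv, transpose_one, Matrix.map_one _ (map_zero _) (map_one _), one_mul]
  rw [D.hG, Matrix.mul_smul, Matrix.smul_mul] at h1
  calc ((D'.B : Mat) * (E : Mat₀).map S.ι * Bi)ᵀ * ((D'.B : Mat) * (E : Mat₀).map S.ι * Bi).map S.σ
      = Biᵀ * (((E : Mat₀).map S.ι)ᵀ * ((D'.B : Mat)ᵀ * (D'.B : Mat).map S.σ) * (E : Mat₀).map S.ι) *
          Bi.map S.σ := by
        rw [transpose_mul, transpose_mul, Matrix.map_mul, Matrix.map_mul, map_iota]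
        simp only [mul_assoc]
    _ = (D'.w * S.ι l) • (Biᵀ * (D.P : Mat₀).map S.ι * Bi.map S.σ) := by
        rw [D'.hG, Matrix.mul_smul, Matrix.smul_mul, hEl, smul_smul, Matrix.mul_smul, Matrix.smul_mul]
    _ = _ := by rw [← h1, smul_smul, div_mul_cancel₀ _ D.w_ne]

/-- The factor can be taken out. -/
theorem exists_scale (hn : 1 ≤ n) (D D' : Frame S n) (E : GL (Fin n) F₀) {l : F₀} (hl : l ≠ 0)
    (hE : (E : Mat₀)ᵀ * (D'.P : Mat₀) * (E : Mat₀) = l • (D.P : Mat₀)) :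
    ∃ e : F, e ^ (q + 1) * (D'.w * S.ι l / D.w) = 1 := by
  have hν0 : D'.w * S.ι l / D.w ≠ 0 := div_ne_zero (mul_ne_zero D'.w_ne ((map_ne_zero S.ι).2 hl)) D.w_ne
  have hherm : ∀ Y : Mat, (Yᵀ * Y.map S.σ).map S.σ = (Yᵀ * Y.map S.σ)ᵀ := fun Y => by
    rw [Matrix.map_mul, map_sigma_sq, transpose_mul, transpose_transpose, transpose_map]
  have h2 := hherm ((D'.B : Mat) * (E : Mat₀).map S.ι * ((D.B⁻¹ : GL (Fin n) F) : Mat))
  have h := unitary_aux D D' E hE
  generalize D'.w * S.ι l / D.w = ν at hν0 h ⊢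
  rw [h, map_smul_sigma, Matrix.map_one _ (map_zero _) (map_one _), transpose_smul, transpose_one] at h2
  have h3 : S.σ ν = ν := by
    have := congrFun (congrFun h2 ⟨0, hn⟩) ⟨0, hn⟩
    simpa using this
  obtain ⟨e, he⟩ := UnitaryCount.exists_norm_eq S.hF (μ := ν⁻¹) (inv_ne_zero hν0)
    (by rw [← S.hq, map_inv₀, h3])
  exact ⟨e, by rw [he, inv_mul_cancel₀ hν0]⟩

theorem gAut_eq_of_smul (S : Setup F F₀ q) (hn : 3 ≤ n) {x y : GUn} {k : F} (h : gmat x = k • gmat y) :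
    (gAut x : Aut) = gAut y := by
  have h1 : (gAut (y⁻¹ * x) : Aut) = 1 := by
    refine (gAut_eq_one_iff S.hF hn _).2 ⟨k, fun v => ?_⟩
    rw [gmul_mulVec, h, smul_mulVec, mulVec_smul, ← gmul_mulVec, inv_mul_cancel, gmat_one, one_mulVec]
  rwa [map_mul, map_inv, inv_mul_eq_one, eq_comm] at h1

theorem conj_eq (D D' : Frame S n) (g : GUn) :
    (gAut g * D.γ * (gAut g)⁻¹ : Aut) = D'.γ ↔
      (gAut (g * D.A) : Aut) = gAut (D'.A * fieldGU S.σ g) := by
  rw [Frame.γ, Frame.γ, mul_inv_eq_iff_eq_mul, mul_assoc (gAut D'.A), fAut_mul_gAut, ← mul_assoc,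
    ← mul_assoc, ← map_mul, ← map_mul, mul_left_inj]

/-- A congruence gives a conjugation. -/
theorem of_congr (hn : 3 ≤ n) (D D' : Frame S n) (E : GL (Fin n) F₀) {l : F₀}
    (hE : (E : Mat₀)ᵀ * (D'.P : Mat₀) * (E : Mat₀) = l • (D.P : Mat₀)) {e : F}
    (he : e ^ (q + 1) * (D'.w * S.ι l / D.w) = 1) :
    ∃ g : GUn, gmat g * (D.B : Mat) = e • ((D'.B : Mat) * (E : Mat₀).map S.ι) ∧
      (gAut g * D.γ * (gAut g)⁻¹ : Aut) = D'.γ := by
  set Y := (D'.B : Mat) * (E : Mat₀).map S.ι * ((D.B⁻¹ : GL (Fin n) F) : Mat)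
  have he0 : e ≠ 0 := fun h => by rw [h, zero_pow (by omega), zero_mul] at he; exact zero_ne_one he
  have hU : (e • Y)ᵀ * (e • Y).map S.σ = 1 := by
    rw [map_smul_sigma, transpose_smul, Matrix.smul_mul, Matrix.mul_smul, unitary_aux D D' E hE, smul_smul,
      smul_smul, ← norm_eq (S := S), he, one_smul]
  refine ⟨guMk S.hF _ ((unitary_iff _).2 hU), ?_, ?_⟩
  · change (e • Y) * (D.B : Mat) = _
    rw [Matrix.smul_mul]
    simp only [Y, mul_assoc, Units.inv_mul, mul_one]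
  rw [conj_eq]
  set g := guMk S.hF _ ((unitary_iff _).2 hU) with hgdef
  have hg : gmat g = e • Y := rfl
  refine gAut_eq_of_smul S hn (k := e * D'.lam / (S.σ e * D.lam)) ?_
  rw [gmat_mul, gmat_mul, gmat_fieldGU]
  have hse : S.σ e ≠ 0 := (map_ne_zero S.σ).2 he0
  have hgB : gmat g * (D.B : Mat) = e • ((D'.B : Mat) * (E : Mat₀).map S.ι) := by
    rw [hg, Matrix.smul_mul]
    simp only [Y, mul_assoc, Units.inv_mul, mul_one]
  have hA : gmat D.A * (D.B : Mat).map S.σ = D.lam⁻¹ • (D.B : Mat) := by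
    conv_rhs => rw [← D.hB, Matrix.smul_mul, smul_smul, inv_mul_cancel₀ D.lam_ne, one_smul]
  have hA' : gmat D'.A * (D'.B : Mat).map S.σ = D'.lam⁻¹ • (D'.B : Mat) := by
    conv_rhs => rw [← D'.hB, Matrix.smul_mul, smul_smul, inv_mul_cancel₀ D'.lam_ne, one_smul]
  have key : gmat g * gmat D.A * (D.B : Mat).map S.σ =
      ((e * D'.lam / (S.σ e * D.lam)) • (gmat D'.A * (gmat g).map S.σ)) * (D.B : Mat).map S.σ := by
    rw [mul_assoc, hA, Matrix.smul_mul, mul_assoc (gmat D'.A), ← Matrix.map_mul, Matrix.mul_smul, hgB,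
      map_smul_sigma, Matrix.map_mul, map_iota, Matrix.mul_smul, ← mul_assoc (gmat D'.A), hA',
      Matrix.smul_mul, smul_smul, smul_smul, smul_smul]
    congr 1
    have := D.lam_ne
    have := D'.lam_ne
    field_simp
  have hu : IsUnit ((D.B : Mat).map S.σ) :=
    (Units.map (RingHom.mapMatrix (m := Fin n) S.σ.toRingHom).toMonoidHom D.B).isUnit
  exact hu.mul_left_injective key

/-- A conjugation gives a congruence. -/
theorem to_congr (hn : 3 ≤ n) (D D' : Frame S n) (g : GUn)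
    (h : (gAut g * D.γ * (gAut g)⁻¹ : Aut) = D'.γ) :
    ∃ (E : GL (Fin n) F₀) (e : F) (l : F₀), l ≠ 0 ∧ e ≠ 0 ∧
      gmat g * (D.B : Mat) = e • ((D'.B : Mat) * (E : Mat₀).map S.ι) ∧
      (E : Mat₀)ᵀ * (D'.P : Mat₀) * (E : Mat₀) = l • (D.P : Mat₀) ∧
      e ^ (q + 1) * (D'.w * S.ι l / D.w) = 1 := by
  classical
  rw [conj_eq] at h
  obtain ⟨k, hk⟩ := (gAut_eq_one_iff S.hF hn ((D'.A * fieldGU S.σ g)⁻¹ * (g * D.A))).1 (by
    rw [map_mul, map_inv, h, inv_mul_cancel])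
  have hmat : gmat g * gmat D.A = k • (gmat D'.A * (gmat g).map S.σ) := mat_ext fun v => by
    have h1 := congrArg (gmat (D'.A * fieldGU S.σ g) *ᵥ ·) (hk v)
    simp only [← gmul_mulVec, mul_inv_cancel_left, mulVec_smul] at h1
    rw [gmat_mul, gmat_mul, gmat_fieldGU] at h1
    rw [h1, smul_mulVec]
  have hk0 : k ≠ 0 := fun h0 => by
    rw [h0, zero_smul] at hmat
    have : Nonempty (Fin n) := ⟨⟨0, by omega⟩⟩
    have := congrArg Matrix.det hmat
    rw [det_zero, det_mul, mul_eq_zero] at this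
    exact this.elim (det_ne_zero_of_preserves S.hF (GU_H g)) (det_ne_zero_of_preserves S.hF (GU_H D.A))
  set E' : Mat := ((D'.B⁻¹ : GL (Fin n) F) : Mat) * gmat g * (D.B : Mat) with hE'
  have hgB : gmat g * (D.B : Mat) = (D'.B : Mat) * E' := by
    rw [hE', ← mul_assoc, ← mul_assoc, Units.mul_inv, one_mul]
  set μ := D'.lam / (k * D.lam)
  have hE'σ : E'.map S.σ = μ • E' := by
    have hunit : IsUnit ((D'.B : Mat).map S.σ) :=
      (Units.map (RingHom.mapMatrix (m := Fin n) S.σ.toRingHom).toMonoidHom D'.B).isUnit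
    refine hunit.mul_right_injective ?_
    change (D'.B : Mat).map S.σ * E'.map S.σ = (D'.B : Mat).map S.σ * (μ • E')
    have hA : gmat D.A * (D.B : Mat).map S.σ = D.lam⁻¹ • (D.B : Mat) := by
      conv_rhs => rw [← D.hB, Matrix.smul_mul, smul_smul, inv_mul_cancel₀ D.lam_ne, one_smul]
    have hA' : gmat D'.A * (D'.B : Mat).map S.σ = D'.lam⁻¹ • (D'.B : Mat) := by
      conv_rhs => rw [← D'.hB, Matrix.smul_mul, smul_smul, inv_mul_cancel₀ D'.lam_ne, one_smul]
    have hu' : IsUnit (gmat D'.A) := ((D'.A : GL (Fin n) F)).isUnit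
    refine hu'.mul_right_injective ?_
    change gmat D'.A * _ = gmat D'.A * _
    rw [← Matrix.map_mul, ← hgB, Matrix.map_mul, ← mul_assoc]
    have h2 : gmat D'.A * (gmat g).map S.σ = k⁻¹ • (gmat g * gmat D.A) := by
      rw [hmat, smul_smul, inv_mul_cancel₀ hk0, one_smul]
    rw [h2, Matrix.smul_mul, mul_assoc, hA, Matrix.mul_smul, Matrix.mul_smul, Matrix.mul_smul,
      ← mul_assoc (gmat D'.A), hA', hgB, Matrix.smul_mul, smul_smul, smul_smul]
    congr 1
    have := D.lam_ne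
    have := D'.lam_ne
    simp only [μ]
    field_simp
  have hne : Nonempty (Fin n) := ⟨⟨0, by omega⟩⟩
  have hdet : E'.det ≠ 0 := by
    rw [hE', det_mul, det_mul]
    exact mul_ne_zero (mul_ne_zero (Matrix.GeneralLinearGroup.det D'.B⁻¹).ne_zero
      (det_ne_zero_of_preserves S.hF (GU_H g))) (Matrix.GeneralLinearGroup.det D.B).ne_zero
  obtain ⟨i₀, j₀, he⟩ : ∃ i j, E' i j ≠ 0 := by
    by_contra hall
    push Not at hall
    exact hdet (Matrix.det_eq_zero_of_row_eq_zero ⟨0, by omega⟩ fun j => hall _ j)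
  set e := E' i₀ j₀
  have hent : ∀ i j, S.σ (E' i j) = μ * E' i j := fun i j => congrFun (congrFun hE'σ i) j
  have hsur : ∀ i j, ∃ y, S.ι y = E' i j / e := fun i j => S.sur _ (by
    rw [map_div₀, hent, hent, mul_div_mul_left]
    intro h0
    exact he (S.σ.injective (by rw [hent, h0, zero_mul, map_zero])))
  choose N hN using hsur
  have hNe : e • (Matrix.of N).map S.ι = E' := by
    ext i j
    change e * S.ι (N i j) = _
    rw [hN, mul_div_cancel₀ _ he]
  have hNdet : (Matrix.of N).det ≠ 0 := fun h0 => hdet (by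
    rw [← hNe, det_smul, map_det', h0, map_zero, mul_zero])
  refine ⟨Matrix.GeneralLinearGroup.mkOfDetNeZero _ hNdet, e, ?_⟩
  have hgB' : gmat g * (D.B : Mat) = e • ((D'.B : Mat) * (Matrix.of N).map S.ι) := by
    rw [hgB, ← hNe, Matrix.mul_smul]
  set R := (Matrix.of N)ᵀ * (D'.P : Mat₀) * Matrix.of N
  have h3 : D.w • (D.P : Mat₀).map S.ι = (e * S.σ e * D'.w) • R.map S.ι := by
    rw [← D.hG]
    calc (D.B : Mat)ᵀ * (D.B : Mat).map S.σ
        = (gmat g * (D.B : Mat))ᵀ * (gmat g * (D.B : Mat)).map S.σ := by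
          rw [transpose_mul, Matrix.map_mul, mul_assoc, ← mul_assoc (gmat g)ᵀ, gmat_unitary, one_mul]
      _ = (e * S.σ e) • (((Matrix.of N).map S.ι)ᵀ * ((D'.B : Mat)ᵀ * (D'.B : Mat).map S.σ) *
            (Matrix.of N).map S.ι) := by
          rw [hgB', transpose_smul, map_smul_sigma, Matrix.smul_mul, Matrix.mul_smul, smul_smul,
            transpose_mul, Matrix.map_mul, map_iota]
          simp only [mul_assoc]
      _ = _ := by
          rw [D'.hG, Matrix.mul_smul, Matrix.smul_mul, smul_smul, ← transpose_map, ← Matrix.map_mul,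
            ← Matrix.map_mul]
  have hρ0 : e * S.σ e * D'.w ≠ 0 := mul_ne_zero (mul_ne_zero he ((map_ne_zero S.σ).2 he)) D'.w_ne
  obtain ⟨i₁, j₁, hP⟩ : ∃ i j, (D.P : Mat₀) i j ≠ 0 := by
    by_contra hall
    push Not at hall
    exact (Matrix.GeneralLinearGroup.det D.P).ne_zero
      (Matrix.det_eq_zero_of_row_eq_zero ⟨0, by omega⟩ fun j => hall _ j)
  set l : F₀ := R i₁ j₁ / (D.P : Mat₀) i₁ j₁
  have h4 : ∀ i j, D.w * S.ι ((D.P : Mat₀) i j) = e * S.σ e * D'.w * S.ι (R i j) := fun i j =>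
    congrFun (congrFun h3 i) j
  have hl : S.ι l = D.w / (e * S.σ e * D'.w) := by
    rw [map_div₀, div_eq_div_iff ((map_ne_zero S.ι).2 hP) hρ0, mul_comm, h4]
  have hl0 : l ≠ 0 := fun h0 => by
    rw [h0, map_zero] at hl
    exact div_ne_zero D.w_ne hρ0 hl.symm
  refine ⟨l, hl0, he, hgB', ?_, ?_⟩
  · ext i j
    refine S.ι.injective ?_
    change S.ι (R i j) = S.ι (l * (D.P : Mat₀) i j)
    rw [map_mul, hl, div_mul_eq_mul_div, h4, eq_div_iff hρ0]
    ring
  · rw [norm_eq (S := S), hl]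
    have := D.w_ne
    have := D'.w_ne
    have := (map_ne_zero S.σ).2 he
    field_simp

theorem isConjUnder_iff (hn : 3 ≤ n) (D D' : Frame S n) :
    IsConjUnder (inndiagPSU n F q) (D.γ : Aut) D'.γ ↔
      ∃ (E : GL (Fin n) F₀) (l : F₀), l ≠ 0 ∧
        (E : Mat₀)ᵀ * (D'.P : Mat₀) * (E : Mat₀) = l • (D.P : Mat₀) := by
  rw [inndiagPSU_eq]
  constructor
  · rintro ⟨_, ⟨g, rfl⟩, h⟩
    obtain ⟨E, e, l, hl, -, -, hE, -⟩ := to_congr hn D D' g h.symm
    exact ⟨E, l, hl, hE⟩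
  · rintro ⟨E, l, hl, hE⟩
    obtain ⟨e, he⟩ := exists_scale (by omega) D D' E hl hE
    obtain ⟨g, -, hg⟩ := of_congr hn D D' E hE he
    exact ⟨_, ⟨g, rfl⟩, hg.symm⟩

theorem mem_centralizer_iff (D : Frame S n) (g : GUn) :
    (gAut g : Aut) ∈ Subgroup.centralizer {(D.γ : Aut)} ↔ (gAut g * D.γ * (gAut g)⁻¹ : Aut) = D.γ := by
  rw [Subgroup.mem_centralizer_singleton_iff, mul_inv_eq_iff_eq_mul, eq_comm]

theorem exists_lift (hn : 3 ≤ n) (D : Frame S n) (E : Sim (D.P : Mat₀)) :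
    ∃ (g : GUn) (e : F), e ≠ 0 ∧
      gmat g * (D.B : Mat) = e • ((D.B : Mat) * ((E : GL (Fin n) F₀) : Mat₀).map S.ι) ∧
      (gAut g : Aut) ∈ Subgroup.centralizer {(D.γ : Aut)} := by
  obtain ⟨k, hk⟩ := mem_Sim.1 E.2
  obtain ⟨e, he⟩ := exists_scale (by omega) D D (E : GL (Fin n) F₀) k.ne_zero hk
  obtain ⟨g, h1, h2⟩ := of_congr hn D D (E : GL (Fin n) F₀) hk he
  exact ⟨g, e, fun h0 => by rw [h0, zero_pow (by omega), zero_mul] at he; exact zero_ne_one he, h1,
    (mem_centralizer_iff D g).2 h2⟩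

theorem lift_eq (hn : 3 ≤ n) (D : Frame S n) {x y : GUn} {a b : F} {N : Mat} (hb : b ≠ 0)
    (hx : gmat x * (D.B : Mat) = a • N) (hy : gmat y * (D.B : Mat) = b • N) :
    (gAut x : Aut) = gAut y := by
  refine gAut_eq_of_smul S hn (k := a / b) ?_
  refine D.B.isUnit.mul_left_injective ?_
  change gmat x * _ = _ * _
  rw [Matrix.smul_mul, hy, hx, smul_smul, div_mul_cancel₀ _ hb]

theorem exists_equiv (hn : 3 ≤ n) (D : Frame S n) :
    Nonempty (↥(inndiagPSU n F q ⊓ Subgroup.centralizer {(D.γ : Aut)}) ≃* projQuot (Sim (D.P : Mat₀))) := by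
  classical
  rw [inndiagPSU_eq]
  choose g e he hg hgc using exists_lift hn D
  let Θ : Sim (D.P : Mat₀) →* Aut := MonoidHom.mk' (fun E => gAut (g E)) fun E E' => by
    rw [← map_mul]
    refine lift_eq hn D (mul_ne_zero (he E) (he E')) (hg (E * E')) ?_
    rw [gmat_mul, mul_assoc, hg E', Matrix.mul_smul, ← mul_assoc, hg E, Matrix.smul_mul, smul_smul,
      Subgroup.coe_mul, Units.val_mul, Matrix.map_mul, mul_assoc, mul_comm (e E')]
  have hr : Θ.range = (gAut (n := n) (F := F) (q := q)).range ⊓ Subgroup.centralizer {(D.γ : Aut)} := by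
    refine le_antisymm ?_ ?_
    · rintro _ ⟨E, rfl⟩
      exact ⟨⟨_, rfl⟩, hgc E⟩
    · rintro _ ⟨⟨x, rfl⟩, hx⟩
      obtain ⟨E, a, l, hl, ha, hxB, hE, -⟩ := to_congr hn D D x ((mem_centralizer_iff D x).1 hx)
      exact ⟨⟨E, mem_Sim.2 ⟨Units.mk0 l hl, hE⟩⟩, lift_eq hn D ha (hg _) hxB⟩
  have hk : Θ.ker = (Geo.scalars (Fin n) F₀).subgroupOf (Sim (D.P : Mat₀)) := by
    ext E
    rw [MonoidHom.mem_ker, Subgroup.mem_subgroupOf]
    change gAut (g E) = 1 ↔ _
    have hn1 : Nonempty (Fin n) := ⟨⟨0, by omega⟩⟩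
    constructor
    · intro h
      obtain ⟨a, ha⟩ := (gAut_eq_one_iff S.hF hn _).1 h
      have h1 : gmat (g E) = a • 1 := mat_ext fun v => by rw [ha, smul_mulVec, one_mulVec]
      have h2 := hg E
      rw [h1, Matrix.smul_mul, one_mul, ← Matrix.mul_smul] at h2
      have h3 : e E • ((E : GL (Fin n) F₀) : Mat₀).map S.ι = a • (1 : Mat) := D.B.isUnit.mul_right_injective (by
        change (D.B : Mat) * _ = (D.B : Mat) * _
        rw [← h2, Matrix.mul_smul, mul_one])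
      have h4 : ∀ i j, S.ι (((E : GL (Fin n) F₀) : Mat₀) i j) = if i = j then a / e E else 0 := fun i j => by
        have h5 := congrFun (congrFun h3 i) j
        simp only [Matrix.smul_apply, Matrix.map_apply, smul_eq_mul, Matrix.one_apply] at h5
        split_ifs with hij
        · rw [if_pos hij, mul_one] at h5; rw [eq_div_iff (he E), ← h5, mul_comm]
        · rw [if_neg hij, mul_zero] at h5; exact (mul_eq_zero.1 h5).resolve_left (he E)
      set i0 : Fin n := ⟨0, by omega⟩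
      set c := ((E : GL (Fin n) F₀) : Mat₀) i0 i0
      have hc0 : c ≠ 0 := fun h0 => by
        refine (Matrix.GeneralLinearGroup.det (E : GL (Fin n) F₀)).ne_zero ?_
        change (((E : GL (Fin n) F₀) : Mat₀)).det = 0
        refine Matrix.det_eq_zero_of_row_eq_zero i0 fun j => S.ι.injective ?_
        have h6 := h4 i0 i0
        rw [if_pos rfl] at h6
        rw [h4, ← h6, show ((E : GL (Fin n) F₀) : Mat₀) i0 i0 = c from rfl, h0, map_zero, ite_self]
      refine ⟨Units.mk0 c hc0, Units.ext (Matrix.ext fun i j => S.ι.injective ?_)⟩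
      rw [h4 i j]
      change S.ι (Matrix.scalar (Fin n) c i j) = _
      rw [Matrix.scalar_apply, Matrix.diagonal_apply, apply_ite S.ι, map_zero, h4, if_pos rfl]
    · rintro ⟨c, hc⟩
      refine (gAut_eq_one_iff S.hF hn _).2 ⟨e E * S.ι c, fun v => ?_⟩
      have h1 : gmat (g E) = (e E * S.ι c) • (1 : Mat) := D.B.isUnit.mul_left_injective (by
        change gmat (g E) * _ = _ * _
        rw [hg E, ← hc, Matrix.smul_mul, one_mul]
        change e E • ((D.B : Mat) * (Matrix.scalar (Fin n) (c : F₀)).map S.ι) = _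
        rw [Matrix.scalar_apply, Matrix.diagonal_map (map_zero S.ι), ← Matrix.smul_one_eq_diagonal,
          Matrix.mul_smul, mul_one, smul_smul])
      rw [h1, smul_mulVec, one_mulVec]
  exact ⟨((MulEquiv.subgroupCongr hr.symm).trans (QuotientGroup.quotientKerEquivRange Θ).symm).trans
    (QuotientGroup.quotientMulEquivOfEq hk)⟩

end Cfsg.Agent.AutPSU.GraphCent
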