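import Cfsg.Agent.Lib.AutPSU.GraphCent

/-!
# Frames of involutory graph automorphisms, and how their classes split
-/

set_option autoImplicit false
set_option linter.unusedSectionVars false

namespace Cfsg.Agent.AutPSU.GraphCent

open Matrix Cfsg.Agent.Classical Cfsg.Agent.Classical.Unitary Cfsg.Agent.Forms
  Cfsg.Agent.AutPSU.Basic Cfsg.Agent.AutPSU.Main Cfsg.Agent.AutPSU.Count Cfsg.Agent.AutPSU.Conj
  Cfsg.Agent.Forms.SimForms

universe u v

variable {F : Type u} [Field F] [Fintype F] {F₀ : Type v} [Field F₀] [Fintype F₀] {q n : ℕ}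

local notation "Mat" => Matrix (Fin n) (Fin n) F
local notation "Mat₀" => Matrix (Fin n) (Fin n) F₀
local notation "GUn" => Cfsg.GU n F q
local notation "Aut" => MulAut (Cfsg.PSU n F q)
local notation "Nu" => MonoidHom.ker (powMonoidHom (q + 1) : Fˣ →* Fˣ)

theorem nonempty_setup (hF : Fintype.card F = q ^ 2) (hF₀ : Fintype.card F₀ = q) :
    Nonempty (Setup F F₀ q) := by
  obtain ⟨r, hchar⟩ := CharP.exists F
  have : Fact r.Prime := ⟨CharP.char_is_prime F r⟩
  obtain ⟨f, hf, hf1⟩ := GraphBalance.exists_q_pow hF r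
  let σ : F ≃+* F := RingEquiv.ofBijective (HermStd.qHom hF)
    (Finite.injective_iff_bijective.1 (RingHom.injective _))
  have hσq : ∀ x, σ x = x ^ q := fun x => rfl
  have hσ : orderOf σ = 2 := orderOf_eq_prime
    (RingEquiv.ext fun x => by rw [pow_two]; exact HermStd.pow_q_q hF x)
    (fun h => HermStd.qHom_ne_id hF (RingHom.ext fun x => RingEquiv.congr_fun h x))
  have hcard : Fintype.card F = r ^ (2 * f) := by rw [hF, hf, ← pow_mul, mul_comm]
  obtain ⟨ι, h1, h2⟩ := AutPSL.FieldCent.exists_emb (F₀ := F₀) hcard σ hσ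
    (by rw [hF₀, hf, Nat.mul_div_cancel_left f two_pos])
  exact ⟨⟨hF, σ, hσ, hσq, ι, h1, h2, hF₀⟩⟩

variable (S : Setup F F₀ q)

theorem sigma_unique {σ : F ≃+* F} (h : ∀ x, σ x = x ^ q) : σ = S.σ :=
  RingEquiv.ext fun x => by rw [h, S.hq]

variable {S}

theorem sign_of_transpose (hn : 1 ≤ n) {P : GL (Fin n) F₀} {c : F₀} (hP : (P : Mat₀)ᵀ = c • (P : Mat₀)) :
    c = 1 ∨ c = -1 := by
  have h3 := congrArg Matrix.transpose hP
  rw [transpose_transpose, transpose_smul, hP, smul_smul] at h3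
  have h4 := congrArg (· * ((P⁻¹ : GL (Fin n) F₀) : Mat₀)) h3
  simp only [smul_mul, Units.mul_inv] at h4
  have h5 := congrFun (congrFun h4 ⟨0, hn⟩) ⟨0, hn⟩
  simp at h5
  exact mul_self_eq_one_iff.1 h5.symm

theorem exists_frame (hn : 3 ≤ n) {γ : Aut} (hγ : IsGraphAutClassPSU γ) (h2 : orderOf γ = 2)
    (S : Setup F F₀ q) :
    ∃ (D : Frame S n) (c : F₀), (c = 1 ∨ c = -1) ∧ (D.P : Mat₀)ᵀ = c • (D.P : Mat₀) ∧ γ = D.γ := by
  classical
  obtain ⟨-, δ, φ, σ, hev, hδ, hφ, rfl⟩ := hγ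
  obtain ⟨A, rfl⟩ := (isInnerDiagonalAutPSU_iff δ).1 hδ
  obtain rfl := (isFieldAutPSUOf_iff σ φ).1 hφ
  have h : (gAut A * fAut σ : Aut) ^ 2 = 1 := h2 ▸ pow_orderOf_eq_one _
  rw [pow_gAut_fAut] at h
  obtain ⟨hσ2, ha⟩ := mul_field_eq_one S.hF hn h
  have hσ : orderOf σ = 2 := by
    rcases (Nat.dvd_prime Nat.prime_two).1 (orderOf_dvd_of_pow_eq_one hσ2) with h1 | h1
    · rw [h1] at hev; exact absurd hev (by decide)
    · exact h1
  obtain ⟨r, hchar⟩ := CharP.exists F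
  have : Fact r.Prime := ⟨CharP.char_is_prime F r⟩
  obtain rfl := sigma_unique S (GraphBalance.sigma_eq S.hF r hσ)
  rw [hσ2, map_one, mul_one] at h
  obtain ⟨a, ha⟩ := (gAut_eq_one_iff' S.hF hn _).1 h
  have hA : gmat A * (gmat A).map S.σ = ((a : Fˣ) : F) • (1 : Mat) := mat_ext fun v => by
    have := congrArg (fun z : GUn => gmat z *ᵥ v) ha
    simp only [twistU, map_one, mul_one, gmat_mul, gmat_fieldGU, scU_mulVec] at this
    rw [this, Matrix.smul_mulVec, Matrix.one_mulVec]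
  obtain ⟨B, lam, w, P', c₀, hlam, hw, hPT, hB, hG⟩ :=
    GraphBalance.exists_descent S.hF (by omega) S.σ S.hσ S.hq A (by simpa using congrArg Units.val a.2) hA
  have hfix : ∀ y : GraphBalance.fixF S.σ, S.σ (y : F) = y := fun y => y.2
  choose N hN using fun i j => S.sur _ (hfix ((P' : Matrix (Fin n) (Fin n) (GraphBalance.fixF S.σ)) i j))
  obtain ⟨c, hc⟩ := S.sur _ (hfix c₀)
  have hNmap : (Matrix.of N).map S.ι =
      (P' : Matrix (Fin n) (Fin n) (GraphBalance.fixF S.σ)).map (GraphBalance.fixF S.σ).subtype :=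
    Matrix.ext hN
  have hdet : (Matrix.of N).det ≠ 0 := fun h0 => by
    have h1 := congrArg Matrix.det hNmap
    rw [map_det', h0, map_zero, ← RingHom.mapMatrix_apply, ← RingHom.map_det, eq_comm, map_eq_zero] at h1
    exact (Matrix.GeneralLinearGroup.det P').ne_zero h1
  let P : GL (Fin n) F₀ := Matrix.GeneralLinearGroup.mkOfDetNeZero _ hdet
  have hP : (P : Mat₀)ᵀ = c • (P : Mat₀) := by
    ext i j
    refine S.ι.injective ?_
    change S.ι (N j i) = S.ι (c * N i j)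
    rw [map_mul, hN, hN, hc]
    exact congrArg Subtype.val (congrFun (congrFun hPT i) j)
  exact ⟨⟨A, B, lam, w, P, hlam, hw, hB, by rw [hG, ← hNmap]; rfl⟩, c, sign_of_transpose (by omega) hP, hP, rfl⟩

theorem frame_of_form (hn : 3 ≤ n) (S : Setup F F₀ q) (P : GL (Fin n) F₀) {c : F₀} (hc : c = 1 ∨ c = -1)
    (hP : (P : Mat₀)ᵀ = c • (P : Mat₀)) :
    ∃ D : Frame S n, D.P = P ∧ IsGraphAutClassPSU (D.γ : Aut) ∧ orderOf (D.γ : Aut) = 2 := by
  classical
  have hcc : S.ι c * S.ι c = 1 := by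
    rcases hc with rfl | rfl <;> simp
  have hc0 : S.ι c ≠ 0 := fun h => by rw [h, zero_mul] at hcc; exact zero_ne_one hcc
  obtain ⟨w, hw0, hw⟩ : ∃ w : F, w ≠ 0 ∧ S.σ w = S.ι c * w := by
    rcases hc with rfl | rfl
    · exact ⟨1, one_ne_zero, by simp⟩
    · obtain ⟨x, hx⟩ : ∃ x, S.σ x ≠ x := by
        by_contra hall
        push Not at hall
        have := S.hσ
        rw [show S.σ = 1 from RingEquiv.ext hall, orderOf_one] at this
        omega
      exact ⟨x - S.σ x, sub_ne_zero.2 (Ne.symm hx), by rw [map_sub, sigma_sq]; simp⟩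
  set Hm : Mat := w • (P : Mat₀).map S.ι with hHm
  have hPι : ((P : Mat₀).map S.ι)ᵀ = S.ι c • (P : Mat₀).map S.ι := by
    rw [← transpose_map, hP]
    ext i j; simp [map_mul]
  have hdet : Hm.det ≠ 0 := by
    rw [hHm, det_smul, map_det']
    exact mul_ne_zero (pow_ne_zero _ hw0) ((map_ne_zero S.ι).2 (Matrix.GeneralLinearGroup.det P).ne_zero)
  obtain ⟨Dm, hDm⟩ := AutPSL.Speiser.hermitian_eq S.σ S.hσ (Matrix.GeneralLinearGroup.mkOfDetNeZero Hm hdet) (by
    change (Hm.map S.σ)ᵀ = Hm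
    rw [hHm, map_smul_sigma, map_iota, hw, transpose_smul, hPι, smul_smul, mul_comm _ (S.ι c), ← mul_assoc,
      hcc, one_mul])
  change Hm = _ at hDm
  let B : GL (Fin n) F := Matrix.GeneralLinearGroup.mkOfDetNeZero (Dm : Mat)ᵀ
    (by rw [det_transpose]; exact (Matrix.GeneralLinearGroup.det Dm).ne_zero)
  have hG : (B : Mat)ᵀ * (B : Mat).map S.σ = w • (P : Mat₀).map S.ι := by
    change ((Dm : Mat)ᵀ)ᵀ * ((Dm : Mat)ᵀ).map S.σ = Hm
    rw [transpose_transpose, transpose_map, hDm]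
  set Bi : Mat := ((B⁻¹ : GL (Fin n) F) : Mat)
  have hBiσ : Bi.map S.σ * (B : Mat).map S.σ = 1 := by
    rw [← Matrix.map_mul, Units.inv_mul, Matrix.map_one _ (map_zero _) (map_one _)]
  have hBσi : (B : Mat).map S.σ * Bi.map S.σ = 1 := by
    rw [← Matrix.map_mul, Units.mul_inv, Matrix.map_one _ (map_zero _) (map_one _)]
  set X : Mat := (B : Mat) * Bi.map S.σ with hX
  have hXσ : X.map S.σ = (B : Mat).map S.σ * Bi := by rw [hX, Matrix.map_mul, map_sigma_sq]
  have hXX : X * X.map S.σ = 1 := by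
    rw [hXσ, hX, mul_assoc, ← mul_assoc (Bi.map S.σ), hBiσ, one_mul, Units.mul_inv]
  have hGσ : ((B : Mat).map S.σ)ᵀ * (B : Mat) = S.σ w • (P : Mat₀).map S.ι := by
    have h1 := congrArg (fun Y : Mat => Y.map S.σ) hG
    simp only [Matrix.map_mul, map_sigma_sq, map_smul_sigma, map_iota, transpose_map] at h1
    exact h1
  have hXu : Xᵀ * X.map S.σ = S.ι c • (1 : Mat) := by
    have h1 : (Bi.map S.σ)ᵀ * (S.σ w • (P : Mat₀).map S.ι) * Bi = 1 := by
      rw [← hGσ, ← mul_assoc, ← transpose_mul, hBσi, transpose_one, one_mul, Units.mul_inv]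
    rw [Matrix.mul_smul, Matrix.smul_mul] at h1
    calc Xᵀ * X.map S.σ = (Bi.map S.σ)ᵀ * ((B : Mat)ᵀ * (B : Mat).map S.σ) * Bi := by
          rw [hXσ, hX, transpose_mul]; simp only [mul_assoc]
      _ = w • ((Bi.map S.σ)ᵀ * (P : Mat₀).map S.ι * Bi) := by rw [hG, Matrix.mul_smul, Matrix.smul_mul]
      _ = _ := by rw [← h1, smul_smul, hw, ← mul_assoc, hcc, one_mul]
  obtain ⟨t, ht⟩ := UnitaryCount.exists_norm_eq S.hF (μ := S.ι c) hc0 (fixed_pow_q (S := S) c)
  have ht0 : t ≠ 0 := fun h => hc0 (by rw [← ht, h, zero_pow (by omega)])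
  have hu : (t • X)ᵀ * (t • X).map S.σ = 1 := by
    rw [map_smul_sigma, transpose_smul, Matrix.smul_mul, Matrix.mul_smul, hXu, smul_smul, smul_smul,
      ← norm_eq (S := S), ht, hcc, one_smul]
  let A : GUn := guMk S.hF _ ((unitary_iff _).2 hu)
  have hA : gmat A = t • X := rfl
  let D : Frame S n := ⟨A, B, t⁻¹, w, P, inv_ne_zero ht0, hw0, by
    rw [hA, smul_smul, inv_mul_cancel₀ ht0, one_smul, hX, mul_assoc, hBiσ, mul_one], hG⟩
  refine ⟨D, rfl, ⟨hn, gAut A, fAut S.σ, S.σ, by rw [S.hσ]; exact even_two,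
    (isInnerDiagonalAutPSU_iff _).2 ⟨A, rfl⟩, (isFieldAutPSUOf_iff _ _).2 rfl, rfl⟩, orderOf_eq_prime ?_ fun h => ?_⟩
  · change (gAut A * fAut S.σ : Aut) ^ 2 = 1
    have hσ2 : S.σ ^ 2 = 1 := S.hσ ▸ pow_orderOf_eq_one S.σ
    rw [pow_gAut_fAut, hσ2, map_one, mul_one]
    refine (gAut_eq_one_iff S.hF hn _).2 ⟨t * S.σ t, fun v => ?_⟩
    simp only [twistU, map_one, mul_one, gmat_mul, gmat_fieldGU, hA, map_smul_sigma, Matrix.smul_mul,
      Matrix.mul_smul, hXX, smul_smul, smul_mulVec, one_mulVec]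
    rw [mul_comm]
  · have h1 := field_unique S.hF hn (g := A) (g' := 1) (s := S.σ) (s' := 1)
      (h.trans (by rw [map_one, map_one, mul_one]))
    have := S.hσ
    rw [h1, orderOf_one] at this
    omega

/-- The determinant as an element of norm one. -/
noncomputable def dNu (S : Setup F F₀ q) (hn : 1 ≤ n) : GUn →* Nu :=
  (detHom n F q).codRestrict _ fun g => by
    rw [← range_detHom S.hF hn]
    exact ⟨g, rfl⟩

theorem dNu_surjective (S : Setup F F₀ q) (hn : 1 ≤ n) : Function.Surjective (dNu (n := n) S hn) := fun a => by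
  have h1 : (a : Fˣ) ∈ (detHom n F q).range := by rw [range_detHom S.hF hn]; exact a.2
  obtain ⟨g, hg⟩ := h1
  exact ⟨g, Subtype.ext hg⟩

theorem inn_iff (S : Setup F F₀ q) (hn : 3 ≤ n) (g : GUn) :
    (gAut g : Aut) ∈ Inn (PSU n F q) ↔ ∃ a : Nu, a ^ n = dNu S (by omega) g := by
  rw [gAut_mem_inn_iff S.hF hn]
  constructor
  · rintro ⟨a, ha, han⟩
    have ha0 : a ≠ 0 := fun h => by rw [h, zero_pow (by omega)] at ha; exact zero_ne_one ha
    exact ⟨⟨Units.mk0 a ha0, Units.ext (by simpa using ha)⟩, Subtype.ext (Units.ext han)⟩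
  · rintro ⟨a, ha⟩
    exact ⟨((a : Fˣ) : F), by simpa using congrArg Units.val a.2,
      (Units.val_pow_eq_pow_val _ n).symm.trans (congrArg (fun x : Nu => ((x : Fˣ) : F)) ha)⟩

theorem split_eq (hn : 3 ≤ n) (D : Frame S n) :
    splitClassCount (inndiagPSU n F q) (Inn (PSU n F q)) (D.γ : Aut) =
      ((powMonoidHom n : Nu →* Nu).range ⊔
        ((Subgroup.centralizer {(D.γ : Aut)}).comap gAut).map (dNu S (by omega))).index := by
  classical
  have : (Inn (PSU n F q)).Normal := inferInstance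
  rw [inndiagPSU_eq, AutPSL.SplitClass.splitClassCount_eq _ _ (inn_le_range S.hF), ← Subgroup.index_comap,
    ← Subgroup.index_comap_of_surjective _ (dNu_surjective S (show 1 ≤ n by omega))]
  congr 1
  ext g
  rw [Subgroup.mem_comap, Subgroup.mem_comap, Subgroup.mem_sup_of_normal_left, Subgroup.mem_sup]
  constructor
  · rintro ⟨i, hi, _, ⟨⟨A, rfl⟩, hA⟩, e⟩
    have h1 : (gAut (g * A⁻¹) : Aut) ∈ Inn (PSU n F q) := by
      rw [map_mul, map_inv, ← e, mul_inv_cancel_right]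
      exact hi
    obtain ⟨c, hc⟩ := (inn_iff S hn _).1 h1
    exact ⟨c ^ n, ⟨c, rfl⟩, _, ⟨A, hA, rfl⟩, by rw [hc, ← map_mul, inv_mul_cancel_right]⟩
  · rintro ⟨_, ⟨c, rfl⟩, _, ⟨A, hA, rfl⟩, e⟩
    refine ⟨gAut (g * A⁻¹), (inn_iff S hn _).2 ⟨c, ?_⟩, _, ⟨⟨A, rfl⟩, hA⟩, ?_⟩
    · rw [map_mul, map_inv, ← e, powMonoidHom_apply, mul_inv_cancel_right]
    · rw [← map_mul, inv_mul_cancel_right]

/-- The determinants over the centraliser. -/
theorem mem_dets_iff (hn : 3 ≤ n) (D : Frame S n) (t : Nu) :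
    t ∈ ((Subgroup.centralizer {(D.γ : Aut)}).comap gAut).map (dNu S (by omega)) ↔
      ∃ (E : GL (Fin n) F₀) (k : F₀) (e : F), k ≠ 0 ∧
        (E : Mat₀)ᵀ * (D.P : Mat₀) * (E : Mat₀) = k • (D.P : Mat₀) ∧ e ^ (q + 1) * S.ι k = 1 ∧
        ((t : Fˣ) : F) = e ^ n * S.ι (E : Mat₀).det := by
  have hdet : ∀ (g : GUn) (e : F) (E : GL (Fin n) F₀),
      gmat g * (D.B : Mat) = e • ((D.B : Mat) * (E : Mat₀).map S.ι) →
      (gmat g).det = e ^ n * S.ι (E : Mat₀).det := fun g e E h => by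
    have h1 := congrArg Matrix.det h
    rw [det_mul, det_smul, det_mul, map_det', Fintype.card_fin] at h1
    refine mul_right_cancel₀ (Matrix.GeneralLinearGroup.det D.B).ne_zero ?_
    change (gmat g).det * (D.B : Mat).det = _ * (D.B : Mat).det
    rw [h1]
    ring
  constructor
  · rintro ⟨g, hg, rfl⟩
    obtain ⟨E, e, l, hl, -, hgB, hE, he⟩ := to_congr hn D D g ((mem_centralizer_iff D g).1 hg)
    rw [mul_comm D.w, mul_div_assoc, div_self D.w_ne, mul_one] at he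
    exact ⟨E, l, e, hl, hE, he, hdet g e E hgB⟩
  · rintro ⟨E, k, e, -, hE, he, ht⟩
    obtain ⟨g, hgB, hg⟩ := of_congr hn D D E hE (e := e)
      (by rw [mul_comm D.w, mul_div_assoc, div_self D.w_ne, mul_one, he])
    exact ⟨g, (mem_centralizer_iff D g).2 hg, Subtype.ext (Units.ext ((hdet g e E hgB).trans ht.symm))⟩

theorem card_Nu (S : Setup F F₀ q) : Nat.card Nu = q + 1 := natCard_normOne S.hF

theorem index_root (hn : 3 ≤ n) (D : Frame S n) (h : Odd n ∨ (2 : F₀) = 0) :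
    splitClassCount (inndiagPSU n F q) (Inn (PSU n F q)) (D.γ : Aut) = Nat.gcd n (q + 1) := by
  classical
  rw [split_eq hn D, sup_eq_left.2, IsCyclic.index_powMonoidHom_range, card_Nu S, Nat.gcd_comm]
  intro t ht
  obtain ⟨E, k, e, hk, hE, he, hd⟩ := (mem_dets_iff hn D t).1 ht
  obtain ⟨a, ha, had⟩ := exists_root_of_det h hE
  have h1 : (e * S.ι a) ^ (q + 1) = 1 := by
    rw [mul_pow, pow_succ (S.ι a), fixed_pow_q (S := S), ← map_mul, ha, he]
  have h0 : e * S.ι a ≠ 0 := fun h' => by rw [h', zero_pow (by omega)] at h1; exact zero_ne_one h1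
  refine ⟨⟨Units.mk0 _ h0, Units.ext (by simpa using h1)⟩, Subtype.ext (Units.ext ?_)⟩
  simp [hd, had, mul_pow]

theorem exists_ratio (S : Setup F F₀ q) (u : Nu) :
    ∃ (e : F) (k : F₀), k ≠ 0 ∧ e ^ (q + 1) * S.ι k = 1 ∧ e ^ 2 * S.ι k = ((u : Fˣ) : F) := by
  set x : F := ((u : Fˣ) : F)
  have hu : x * S.σ x = 1 := by
    rw [← norm_eq (S := S)]
    simpa using congrArg Units.val u.2
  obtain ⟨e, he0, he⟩ : ∃ e : F, e ≠ 0 ∧ x * S.σ e = e := by
    by_cases h : x = -1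
    · obtain ⟨y, hy⟩ : ∃ y, S.σ y ≠ y := by
        by_contra hall
        push Not at hall
        have := S.hσ
        rw [show S.σ = 1 from RingEquiv.ext hall, orderOf_one] at this
        omega
      exact ⟨y - S.σ y, sub_ne_zero.2 (Ne.symm hy), by rw [h, map_sub, sigma_sq]; ring⟩
    · exact ⟨1 + x, fun h0 => h (eq_neg_of_add_eq_zero_right h0), by rw [map_add, map_one, mul_add, hu, mul_one, add_comm]⟩
  have hN : e * S.σ e ≠ 0 := mul_ne_zero he0 ((map_ne_zero S.σ).2 he0)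
  obtain ⟨k, hk⟩ := S.sur (e * S.σ e)⁻¹ (by rw [map_inv₀, map_mul, sigma_sq, mul_comm])
  refine ⟨e, k, fun h0 => inv_ne_zero hN (by rw [← hk, h0, map_zero]), ?_, ?_⟩
  · rw [norm_eq (S := S), hk, mul_inv_cancel₀ hN]
  · rw [hk, ← div_eq_mul_inv, div_eq_iff hN, pow_two]
    conv_lhs => enter [2]; rw [← he]
    ring

theorem index_alt {m : ℕ} (hn : 3 ≤ n) (hm : n = 2 * m) (D : Frame S n)
    (hP : ∀ v, Bf (D.P : Mat₀) v v = 0) :
    splitClassCount (inndiagPSU n F q) (Inn (PSU n F q)) (D.γ : Aut) = Nat.gcd m (q + 1) := by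
  classical
  have hm1 : 1 ≤ m := by omega
  rw [split_eq hn D, show ((powMonoidHom n : Nu →* Nu).range ⊔
    ((Subgroup.centralizer {(D.γ : Aut)}).comap gAut).map (dNu S (by omega))) =
    (powMonoidHom m : Nu →* Nu).range from ?_, IsCyclic.index_powMonoidHom_range, card_Nu S, Nat.gcd_comm]
  refine le_antisymm (sup_le ?_ ?_) ?_
  · rintro _ ⟨a, rfl⟩
    exact ⟨a ^ 2, by simp only [powMonoidHom_apply, ← pow_mul, hm]⟩
  · intro t ht
    obtain ⟨E, k, e, hk, hE, he, hd⟩ := (mem_dets_iff hn D t).1 ht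
    have hd' : (E : Mat₀).det = k ^ m := det_alt hm1 D.P hP hm hE
    have h1 : (e ^ 2 * S.ι k) ^ (q + 1) = 1 := by
      rw [mul_pow, pow_succ (S.ι k), fixed_pow_q (S := S), ← pow_mul, mul_comm 2, pow_mul]
      linear_combination (e ^ (q + 1) * S.ι k + 1) * he
    have h0 : e ^ 2 * S.ι k ≠ 0 := fun h' => by rw [h', zero_pow (by omega)] at h1; exact zero_ne_one h1
    refine ⟨⟨Units.mk0 _ h0, Units.ext (by simpa using h1)⟩, Subtype.ext (Units.ext ?_)⟩
    simp [hd, hd', mul_pow, ← pow_mul, hm]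
  · rintro _ ⟨u, rfl⟩
    obtain ⟨e, k, hk, he, hu⟩ := exists_ratio S u
    obtain ⟨E, hE⟩ := exists_factor_alt hm1 D.P hP hm (Units.mk0 k hk)
    refine Subgroup.mem_sup_right ((mem_dets_iff hn D _).2 ⟨E, k, e, hk, hE, he, ?_⟩)
    rw [det_alt hm1 D.P hP hm hE]
    simp [← hu, mul_pow, ← pow_mul, hm]

theorem index_sym {m : ℕ} (hn : 3 ≤ n) (hm : n = 2 * m) (h2 : (2 : F₀) ≠ 0) (D : Frame S n)
    (hP : (D.P : Mat₀)ᵀ = (D.P : Mat₀)) :
    splitClassCount (inndiagPSU n F q) (Inn (PSU n F q)) (D.γ : Aut) = Nat.gcd n (q + 1) / 2 := by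
  classical
  have hm1 : 1 ≤ m := by omega
  have hq1 : (-1 : F) ^ (q + 1) = 1 := by
    rw [pow_succ, ← S.hq, map_neg, map_one]
    simp
  let z : Nu := ⟨-1, Units.ext (by simpa using hq1)⟩
  have hz : z ≠ 1 := fun h => by
    have h3 : (-1 : F) = 1 := congrArg (fun x : Nu => ((x : Fˣ) : F)) h
    have h4 : S.ι 2 = 0 := by rw [map_ofNat]; linear_combination -h3
    exact h2 ((map_eq_zero S.ι).1 h4)
  obtain ⟨he, hd⟩ := SimProj.range_pow_sup_zpowers (G := Nu) m z (Subtype.ext (by simp [z])) hz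
  rw [split_eq hn D, show ((powMonoidHom n : Nu →* Nu).range ⊔
    ((Subgroup.centralizer {(D.γ : Aut)}).comap gAut).map (dNu S (by omega))) =
    (powMonoidHom m : Nu →* Nu).range ⊔ Subgroup.zpowers z from ?_, he, IsCyclic.index_powMonoidHom_range,
    Nat.gcd_eq_right hd, card_Nu S, hm]
  have key : ∀ (E : GL (Fin n) F₀) (k : F₀), (E : Mat₀)ᵀ * (D.P : Mat₀) * (E : Mat₀) = k • (D.P : Mat₀) →
      (E : Mat₀).det = k ^ m ∨ (E : Mat₀).det = -k ^ m := by
    intro E k hE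
    have h := det_sq hE
    exact eq_or_eq_neg_of_sq_eq_sq _ _ (h.trans (by rw [← pow_mul, hm, mul_comm]))
  refine le_antisymm (sup_le ?_ ?_) (sup_le ?_ ?_)
  · rintro _ ⟨a, rfl⟩
    exact Subgroup.mem_sup_left ⟨a ^ 2, by simp only [powMonoidHom_apply, ← pow_mul, hm]⟩
  · intro t ht
    obtain ⟨E, k, e, hk, hE, he, hd'⟩ := (mem_dets_iff hn D t).1 ht
    have h1 : (e ^ 2 * S.ι k) ^ (q + 1) = 1 := by
      rw [mul_pow, pow_succ (S.ι k), fixed_pow_q (S := S), ← pow_mul, mul_comm 2, pow_mul]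
      linear_combination (e ^ (q + 1) * S.ι k + 1) * he
    have h0 : e ^ 2 * S.ι k ≠ 0 := fun h' => by rw [h', zero_pow (by omega)] at h1; exact zero_ne_one h1
    let u : Nu := ⟨Units.mk0 _ h0, Units.ext (by simpa using h1)⟩
    rcases key E k hE with h | h
    · refine Subgroup.mem_sup_left ⟨u, Subtype.ext (Units.ext ?_)⟩
      simp [u, hd', h, mul_pow, ← pow_mul, hm]
    · rw [show t = z * u ^ m from Subtype.ext (Units.ext (by simp [u, z, hd', h, mul_pow, ← pow_mul, hm]))]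
      exact mul_mem (Subgroup.mem_sup_right (Subgroup.mem_zpowers _)) (Subgroup.mem_sup_left ⟨u, rfl⟩)
  · rintro _ ⟨u, rfl⟩
    obtain ⟨R, hR, hRd⟩ := exists_reflection h2 (by omega) D.P hP
    obtain ⟨e, k, hk, hek, hu⟩ := exists_ratio S u
    obtain ⟨E, hE⟩ := exists_factor_sym h2 D.P hP hm (Units.mk0 k hk)
    have hzm : z ∈ ((Subgroup.centralizer {(D.γ : Aut)}).comap gAut).map (dNu S (by omega)) :=
      (mem_dets_iff hn D z).2 ⟨R, 1, 1, one_ne_zero, hR, by simp, by simp [z, hRd]⟩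
    rcases key E k hE with h | h
    · refine Subgroup.mem_sup_right ((mem_dets_iff hn D _).2 ⟨E, k, e, hk, hE, hek, ?_⟩)
      simp [h, ← hu, mul_pow, ← pow_mul, hm]
    · rw [show (powMonoidHom m : Nu →* Nu) u = z * (z * u ^ m) by
        rw [← mul_assoc, show z * z = 1 from Subtype.ext (by simp [z]), one_mul, powMonoidHom_apply]]
      refine mul_mem (Subgroup.mem_sup_right hzm) (Subgroup.mem_sup_right ((mem_dets_iff hn D _).2 ⟨E, k, e, hk, hE, hek, ?_⟩))
      simp [z, h, ← hu, mul_pow, ← pow_mul, hm]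
  · refine Subgroup.zpowers_le.2 (Subgroup.mem_sup_right ?_)
    obtain ⟨R, hR, hRd⟩ := exists_reflection h2 (by omega) D.P hP
    exact (mem_dets_iff hn D z).2 ⟨R, 1, 1, one_ne_zero, hR, by simp, by simp [z, hRd]⟩

end Cfsg.Agent.AutPSU.GraphCent
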