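import Cfsg.Agent.Lib.AutPSU.GraphBalance
import Cfsg.Agent.Lib.AutPSU.FieldCent
import Cfsg.Agent.Lib.AutPSp.LocalBalance
import Cfsg.Agent.Lib.Classical.UnitarySimple
import Cfsg.Agent.Lib.Classical.UnitaryFrames
import Cfsg.Agent.S0282

/-!
# Local balance for outer automorphisms of `PSU_n(q)`

The `p'`-core of the centraliser of an automorphism of prime order `p` that is not inner-diagonal
is non-trivial exactly when `p` is prime to the order of its fixed point group.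
-/

set_option autoImplicit false
set_option linter.unusedSectionVars false

namespace Cfsg.Agent.AutPSU.LocalBalance

open Matrix Cfsg.Agent.Classical Cfsg.Agent.Classical.Unitary Cfsg.Agent.Forms
  Cfsg.Agent.AutPSU.Basic Cfsg.Agent.AutPSU.Main Cfsg.Agent.AutPSU.Count Cfsg.Agent.AutPSU.Conj
  Cfsg.Agent.AutPSU.FieldCent

universe u v

variable {F : Type u} [Field F] [Fintype F] {q n : ℕ} (hF : Fintype.card F = q ^ 2)

local notation "Vec" => (Fin n → F)
local notation "Mat" => Matrix (Fin n) (Fin n) F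
local notation "SUn" => Cfsg.SU n F q
local notation "GUn" => Cfsg.GU n F q
local notation "H" => Cfsg.hermForm n F q
local notation "Aut" => MulAut (Cfsg.PSU n F q)

include hF in
/-- Equal transvections have parallel vectors. -/
theorem tvu_par {u w : Vec} (hu : H u u = 0) (hw : H w w = 0) (hu0 : u ≠ 0) {c d : F}
    (hc : c + c ^ q = 0) (hd : d + d ^ q = 0) (hc0 : c ≠ 0) (h : tvu hF hu hc = tvu hF hw hd) :
    ∃ a : F, u = a • w := by
  obtain ⟨y, hy⟩ := exists_H_eq_one hF hu0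
  have hyu : H y u = 1 := by rw [← H_conj hF, hy, one_pow]
  have h1 := congrArg (fun t : SUn => mat t *ᵥ y) h
  simp only [tvu_mulVec, hyu, mul_one] at h1
  exact ⟨c⁻¹ * (d * H y w), by rw [← smul_smul, ← add_left_cancel h1, inv_smul_smul₀ hc0]⟩

variable {F₀ : Type v} [Field F₀] [Fintype F₀] {q₀ : ℕ} (hF₀ : Fintype.card F₀ = q₀ ^ 2)
  {ι : F₀ →+* F} (hιq : ∀ y : F₀, ι y ^ q = ι (y ^ q₀))

local notation "SU₀" => Cfsg.SU n F₀ q₀
local notation "GU₀" => Cfsg.GU n F₀ q₀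
local notation "H₀" => Cfsg.hermForm n F₀ q₀

include hF hF₀ hιq

/-- The action of the special unitary group over the subfield. -/
noncomputable def ψ : SU₀ →* Aut := (subAct hF hF₀ hιq).comp suToGU

/-- A special unitary matrix over the subfield as one over the field. -/
def mapSU (s : SU₀) : SUn :=
  suOfGU (mapGU hF hF₀ hιq (suToGU s)) (by
    rw [gmat_mapGU, ← RingHom.mapMatrix_apply, ← RingHom.map_det, gmat_suToGU,
      show (mat s).det = 1 from s.1.2, map_one])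

theorem mat_mapSU (s : SU₀) : mat (mapSU hF hF₀ hιq s) = (mat s).map ι := rfl

theorem ψ_eq_conj (s : SU₀) :
    ψ hF hF₀ hιq s = MulAut.conj (QuotientGroup.mk (mapSU hF hF₀ hιq s) : PSU n F q) := by
  rw [conj_mk_eq_gAut]
  exact congrArg gAut (Subtype.ext (Units.ext rfl))

theorem subAct_scalar (hn : 3 ≤ n) {a : F₀} (ha : a ^ (q₀ + 1) = 1) :
    (subAct hF hF₀ hιq (scalarGU (n := n) hF₀ a ha) : Aut) = 1 := by
  rw [subAct, MonoidHom.comp_apply, gAut_eq_one_iff hF hn]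
  refine ⟨ι a, fun v => ?_⟩
  rw [gmat_mapGU, scalarGU, gmat_diagGU, Matrix.diagonal_map (map_zero ι)]
  funext i
  simp [Matrix.mulVec_diagonal]

theorem ψ_eq_one_iff (hn : 3 ≤ n) (s : SU₀) :
    ψ hF hF₀ hιq s = 1 ↔ s ∈ Subgroup.center SU₀ := by
  rw [mem_center_iff hF₀ (by omega), ψ, MonoidHom.comp_apply, ← MonoidHom.mem_ker, subAct_ker hF hF₀ hιq hn,
    Subgroup.mem_subgroupOf]
  constructor
  · rintro ⟨c, hc⟩
    refine ⟨(c : F₀), ?_⟩
    have h := congrArg (fun g : GL (Fin n) F₀ => (g : Matrix (Fin n) (Fin n) F₀)) hc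
    change Matrix.scalar (Fin n) (c : F₀) = mat s at h
    rw [← h, Matrix.scalar_apply, Matrix.smul_one_eq_diagonal]
  · rintro ⟨a, ha⟩
    have ha0 : a ≠ 0 := fun h0 => by
      have h1 : (mat s).det = 1 := s.1.2
      have : Nonempty (Fin n) := ⟨⟨0, by omega⟩⟩
      rw [ha, h0, zero_smul, Matrix.det_zero] at h1
      exact zero_ne_one h1
    refine ⟨Units.mk0 a ha0, Units.ext ?_⟩
    change Matrix.scalar (Fin n) a = mat s
    rw [ha, Matrix.scalar_apply, Matrix.smul_one_eq_diagonal]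

theorem subAct_conj (g : GU₀) (s : SU₀) :
    (subAct hF hF₀ hιq g : Aut) * ψ hF hF₀ hιq s * (subAct hF hF₀ hιq g)⁻¹ =
      ψ hF hF₀ hιq (conjEl g s) := by
  rw [ψ, MonoidHom.comp_apply, ← map_inv, ← map_mul, ← map_mul]
  exact congrArg _ (Subtype.ext (Units.ext rfl))

theorem exists_diag (hn : 3 ≤ n) {ζ : F₀} (hζ : ζ ^ (q₀ + 1) = 1) (hζ1 : ζ ≠ 1) :
    ∃ s, ψ (n := n) hF hF₀ hιq s ≠ 1 ∧ ∀ m : ℕ, ζ ^ m = 1 → ψ hF hF₀ hιq s ^ m = 1 := by
  classical
  let i₀ : Fin n := ⟨0, by omega⟩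
  let i₁ : Fin n := ⟨1, by omega⟩
  let i₂ : Fin n := ⟨2, by omega⟩
  let d : Fin n → F₀ := fun i => (if i = i₀ then ζ else 1) * (if i = i₁ then ζ⁻¹ else 1)
  have hζ0 : ζ ≠ 0 := fun h => by rw [h, zero_pow (by omega)] at hζ; exact zero_ne_one hζ
  have hpow : ∀ (m : ℕ), ζ ^ m = 1 → ∀ i, d i ^ m = 1 := fun m hm i => by
    simp only [d, mul_pow, ite_pow, one_pow, inv_pow, hm, inv_one, ite_self, mul_one]
  have hdet : (gmat (diagGU hF₀ d (hpow _ hζ))).det = 1 := by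
    rw [gmat_diagGU, Matrix.det_diagonal, Finset.prod_mul_distrib]
    simp [hζ0]
  refine ⟨suOfGU _ hdet, fun h => hζ1 ?_, fun m hm => ?_⟩
  · obtain ⟨a, ha⟩ := (mem_center_iff hF₀ (by omega) _).1 ((ψ_eq_one_iff hF hF₀ hιq hn _).1 h)
    have ha' : Matrix.diagonal d = a • (1 : Matrix (Fin n) (Fin n) F₀) := by
      rw [← gmat_diagGU hF₀ d (hpow _ hζ)]; exact ha
    have e0 := congrFun (congrFun ha' i₀) i₀
    have e2 := congrFun (congrFun ha' i₂) i₂
    simp [d, i₀, i₁, i₂, Fin.ext_iff] at e0 e2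
    rw [e0, e2]
  · rw [← map_pow]
    refine (ψ_eq_one_iff hF hF₀ hιq hn _).2 ((mem_center_iff hF₀ (by omega) _).2 ⟨1, ?_⟩)
    rw [one_smul]
    change ((suOfGU (diagGU hF₀ d (hpow _ hζ)) hdet ^ m : SU₀) : Matrix.SpecialLinearGroup (Fin n) F₀).1 = 1
    rw [SubmonoidClass.coe_pow, Matrix.SpecialLinearGroup.coe_pow]
    change gmat (diagGU hF₀ d (hpow _ hζ)) ^ m = 1
    rw [gmat_diagGU, Matrix.diagonal_pow, ← Matrix.diagonal_one]
    congr 1
    exact funext (hpow m hm)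

theorem exists_rational_element (hn : 3 ≤ n) {p : ℕ} [Fact p.Prime] (σ : F ≃+* F)
    (hσ : Odd (orderOf σ)) (hfix : ∀ y, σ (ι y) = ι y) (hsur : ∀ x, σ x = x → ∃ y, ι y = x)
    (hdvd : p ∣ Nat.card (MonoidHom.eqLocus (fAut σ : Aut).toMonoidHom (MonoidHom.id (PSU n F q)))) :
    ∃ s, ψ (n := n) hF hF₀ hιq s ≠ 1 ∧ ψ hF hF₀ hιq s ^ p = 1 := by
  classical
  have hp : p.Prime := Fact.out
  obtain ⟨⟨k, hk⟩, hko⟩ := exists_prime_orderOf_dvd_card' p hdvd
  have hko' : orderOf (MulAut.conj k) = p := by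
    rw [orderOf_injective _ (Count.conj_injective hF hn), ← hko, Subgroup.orderOf_mk]
  obtain ⟨g, hg⟩ : MulAut.conj k ∈ (subAct (n := n) hF hF₀ hιq).range := by
    rw [subAct_range hF hF₀ hιq hn σ hσ hfix hsur]
    exact ⟨inn_le_range hF ⟨k, rfl⟩,
      (AutPSp.LocalBalance.conj_mem_centralizer_iff (Count.conj_injective hF hn) _ k).2 hk⟩
  have hkp : ∀ m : ℕ, ((subAct hF hF₀ hιq g : Aut) ^ m) ^ p = 1 := fun m => by
    rw [← pow_mul, mul_comm, pow_mul, hg]
    conv_lhs => rw [← hko', pow_orderOf_eq_one, one_pow]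
  have hkm : ∀ m : ℕ, ¬ p ∣ m → (subAct hF hF₀ hιq g : Aut) ^ m ≠ 1 := fun m hm h =>
    hm (hko' ▸ orderOf_dvd_of_pow_eq_one (hg ▸ h))
  have hd : (gmat g).det ^ (q₀ + 1) = 1 := by
    have h1 : detHom n F₀ q₀ g ∈ (powMonoidHom (q₀ + 1) : F₀ˣ →* F₀ˣ).ker := by
      rw [← range_detHom hF₀ (show 1 ≤ n by omega)]
      exact ⟨g, rfl⟩
    rw [← detHom_apply]
    simpa using congrArg Units.val h1
  by_cases hpn : p ∣ n
  swap
  · have hd0 : (gmat g).det ≠ 0 := det_ne_zero_of_preserves hF₀ (GU_H g)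
    have hdi : ((gmat g).det)⁻¹ ^ (q₀ + 1) = 1 := by rw [inv_pow, hd, inv_one]
    set g' : GU₀ := scalarGU hF₀ _ hdi * g ^ n
    have hg' : (gmat g').det = 1 := by
      rw [← detHom_apply, map_mul, map_pow, Units.val_mul, Units.val_pow_eq_pow_val, detHom_apply,
        detHom_apply, det_scalarGU, ← mul_pow, inv_mul_cancel₀ hd0, one_pow]
    have h1 : ψ hF hF₀ hιq (suOfGU g' hg') = (subAct hF hF₀ hιq g : Aut) ^ n := by
      rw [ψ, MonoidHom.comp_apply, show suToGU (suOfGU g' hg') = g' from Subtype.ext (Units.ext rfl),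
        map_mul, subAct_scalar hF hF₀ hιq hn, one_mul, map_pow]
    exact ⟨_, h1 ▸ hkm n hpn, h1 ▸ hkp n⟩
  by_cases hpq : p ∣ q₀ + 1
  · have : p ∣ Nat.card (powMonoidHom (q₀ + 1) : F₀ˣ →* F₀ˣ).ker := by rwa [natCard_normOne hF₀]
    obtain ⟨⟨z, hz⟩, hzo⟩ := exists_prime_orderOf_dvd_card' p this
    rw [Subgroup.orderOf_mk] at hzo
    obtain ⟨s, hs1, hs2⟩ := exists_diag (n := n) hF hF₀ hιq hn
      (ζ := (z : F₀)) (by simpa using congrArg Units.val hz) fun e => by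
        rw [Units.val_eq_one.1 e, orderOf_one] at hzo
        exact hp.ne_one hzo.symm
    exact ⟨s, hs1, hs2 p (by rw [← Units.val_pow_eq_pow_val, ← hzo, pow_orderOf_eq_one, Units.val_one])⟩
  · have hg' : (gmat (g ^ (q₀ + 1))).det = 1 := by
      rw [← detHom_apply, map_pow, Units.val_pow_eq_pow_val, detHom_apply, hd]
    have h1 : ψ hF hF₀ hιq (suOfGU _ hg') = (subAct hF hF₀ hιq g : Aut) ^ (q₀ + 1) := by
      rw [ψ, MonoidHom.comp_apply,
        show suToGU (suOfGU _ hg') = g ^ (q₀ + 1) from Subtype.ext (Units.ext rfl), map_pow]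
    exact ⟨_, h1 ▸ hkm _ hpq, h1 ▸ hkp _⟩

omit hF hιq in
/-- A normal `2`-subgroup of `SU_n` in characteristic `2` is trivial. -/
theorem normal_two_group (hn : 3 ≤ n) (h2 : (2 : F₀) = 0) (P : Subgroup SU₀) [hPn : P.Normal]
    (hP : IsPGroup 2 P) : P = ⊥ := by
  classical
  let _ : MulAction P (Fin n → F₀) :=
    { smul := fun x v => mat (x : SU₀) *ᵥ v
      one_smul := fun v => Matrix.one_mulVec v
      mul_smul := fun x y v => mul_mulVec (x : SU₀) (y : SU₀) v }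
  let W : Submodule F₀ (Fin n → F₀) :=
    { carrier := {v | ∀ x ∈ P, mat x *ᵥ v = v}
      add_mem' := fun {a b} ha hb x hx => by rw [Matrix.mulVec_add, ha x hx, hb x hx]
      zero_mem' := fun x _ => Matrix.mulVec_zero _
      smul_mem' := fun c a ha x hx => by rw [Matrix.mulVec_smul, ha x hx] }
  have hinv : ∀ (s : SU₀) v, v ∈ W → mat s *ᵥ v ∈ W := fun s v hv x hx => by
    have h1 := hv _ (hPn.conj_mem x hx s⁻¹)
    rw [inv_inv, mul_mulVec, mul_mulVec] at h1
    have h2 := congrArg (mat s *ᵥ ·) h1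
    simp only [← mul_mulVec s s⁻¹, mul_inv_cancel, mat_one, Matrix.one_mulVec] at h2
    exact h2
  obtain ⟨v, hv, hv0⟩ : ∃ v, v ∈ W ∧ v ≠ 0 := by
    have hdvd : 2 ∣ Nat.card (Fin n → F₀) := by
      rw [Nat.card_fun, Nat.card_eq_fintype_card (α := F₀), hF₀, ← pow_mul]
      have : CharP F₀ 2 := CharTwo.of_one_ne_zero_of_two_eq_zero one_ne_zero h2
      have hq₀ : 2 ∣ q₀ := Nat.prime_two.dvd_of_dvd_pow (n := 2) (by
        rw [← hF₀, ← CharP.cast_eq_zero_iff F₀ 2]; exact FiniteField.cast_card_eq_zero F₀)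
      exact dvd_pow hq₀ (by simp only [Nat.card_eq_fintype_card, Fintype.card_fin]; omega)
    obtain ⟨b, hb, hb0⟩ := hP.exists_fixed_point_of_prime_dvd_card_of_fixed_point _ hdvd
      (a := (0 : Fin n → F₀)) (fun x => Matrix.mulVec_zero _)
    exact ⟨b, fun x hx => hb ⟨x, hx⟩, fun e => hb0 e.symm⟩
  obtain ⟨i, hi⟩ := Function.ne_iff.1 hv0
  obtain ⟨ζ, hζ, hζ1, -⟩ := exists_normOne_ne hF₀
  have hζ0 : ζ ≠ 0 := fun h => by rw [h, zero_pow (by omega)] at hζ; exact zero_ne_one hζ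
  -- the torus elements
  have hD : ∀ (a b : Fin n), a ≠ b → ∀ w ∈ W,
      (fun k => if k = a then (ζ - 1) * w k else if k = b then (ζ⁻¹ - 1) * w k else 0) ∈ W := by
    intro a b hab w hw
    let d : Fin n → F₀ := fun k => (if k = a then ζ else 1) * (if k = b then ζ⁻¹ else 1)
    have hd1 : ∀ k, d k ^ (q₀ + 1) = 1 := fun k => by
      simp only [d, mul_pow, ite_pow, one_pow, inv_pow, hζ, inv_one, ite_self, mul_one]
    have hdet : (gmat (diagGU hF₀ d hd1)).det = 1 := by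
      rw [gmat_diagGU, Matrix.det_diagonal, Finset.prod_mul_distrib]
      simp [hζ0]
    have h1 := W.sub_mem (hinv (suOfGU _ hdet) w hw) hw
    convert h1 using 1
    funext k
    change _ = (gmat (diagGU hF₀ d hd1) *ᵥ w - w) k
    rw [gmat_diagGU, Pi.sub_apply, Matrix.mulVec_diagonal]
    by_cases ha : k = a <;> by_cases hb : k = b
    · exact absurd (ha.symm.trans hb) hab
    all_goals simp [d, ha, hb, Ne.symm hab, hab, sub_mul]
  have hbasis : ∀ j : Fin n, (Pi.single j 1 : Fin n → F₀) ∈ W := by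
    obtain ⟨j₁, hj₁, -⟩ := Classical.Linear.exists_third (n := Fin n) (by rw [Fintype.card_fin]; exact hn) i i
    obtain ⟨j₂, hj₂, hj₂'⟩ := Classical.Linear.exists_third (n := Fin n) (by rw [Fintype.card_fin]; exact hn) i j₁
    have h2v := hD i j₂ hj₂.symm _ (hD i j₁ hj₁.symm v hv)
    have hei : (Pi.single i 1 : Fin n → F₀) ∈ W := by
      have hne : (ζ - 1) * ((ζ - 1) * v i) ≠ 0 :=
        mul_ne_zero (sub_ne_zero.2 hζ1) (mul_ne_zero (sub_ne_zero.2 hζ1) hi)
      have h3 := W.smul_mem ((ζ - 1) * ((ζ - 1) * v i))⁻¹ h2v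
      convert h3 using 1
      funext k
      by_cases hk : k = i
      · subst hk; simpa using (inv_mul_cancel₀ hne).symm
      · by_cases hk' : k = j₂
        · subst hk'; simp [hk, hj₂']
        · simp [hk, hk']
    intro j
    by_cases hj : j = i
    · exact hj ▸ hei
    let e : Equiv.Perm (Fin n) := Equiv.swap i j
    have hpres : ∀ a b, H₀ (e.permMatrix F₀ *ᵥ a) (e.permMatrix F₀ *ᵥ b) = H₀ a b := fun a b => by
      rw [Matrix.permMatrix_mulVec, Matrix.permMatrix_mulVec, Cfsg.hermForm, Cfsg.hermForm]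
      exact Equiv.sum_comp e (fun k => a k * b k ^ q₀)
    have hdet : (e.permMatrix F₀).det = 1 := by
      rw [Matrix.det_permutation, Equiv.Perm.sign_swap (Ne.symm hj)]
      push_cast
      linear_combination -h2
    have h4 := hinv (suMk _ hdet hpres) _ hei
    rw [suMk_mulVec, Matrix.permMatrix_mulVec] at h4
    convert h4 using 1
    funext k
    simp only [Function.comp_apply, e]
    by_cases hk : k = j
    · subst hk; simp
    · by_cases hk' : k = i
      · subst hk'; simp [hk, Ne.symm hj, hj]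
      · simp [Equiv.swap_apply_of_ne_of_ne hk' hk, hk, hk']
  refine (Subgroup.eq_bot_iff_forall P).2 fun x hx => Subtype.ext (Subtype.ext ?_)
  refine Matrix.ext_of_mulVec_single fun j => ?_
  change mat x *ᵥ _ = (1 : Matrix (Fin n) (Fin n) F₀) *ᵥ _
  rw [hbasis j x hx, Matrix.one_mulVec]

theorem invariant_coprime_eq_bot (hn : 3 ≤ n) {p : ℕ} [Fact p.Prime] (hodd : Odd p)
    (hel : ∃ s, ψ (n := n) hF hF₀ hιq s ≠ 1 ∧ ψ hF hF₀ hιq s ^ p = 1)
    (N : Subgroup Aut) (hle : N ≤ (ψ (n := n) hF hF₀ hιq).range)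
    (hinv : ∀ s, ∀ x ∈ N, ψ hF hF₀ hιq s * x * (ψ hF hF₀ hιq s)⁻¹ ∈ N)
    (hcop : (Nat.card N).Coprime p) : N = ⊥ := by
  classical
  have hp : p.Prime := Fact.out
  set f := ψ (n := n) hF hF₀ hιq
  set N' := N.comap f
  have hN' : N'.Normal := ⟨fun x hx s => by
    rw [Subgroup.mem_comap, map_mul, map_mul, map_inv]
    exact hinv s _ hx⟩
  by_cases hc : N' ≤ Subgroup.center _
  · refine (Subgroup.eq_bot_iff_forall N).2 fun x hx => ?_
    obtain ⟨t, rfl⟩ := hle hx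
    exact (ψ_eq_one_iff hF hF₀ hιq hn t).2 (hc hx)
  exfalso
  obtain ⟨s, hs1, hsp⟩ := hel
  have hno : f s ∈ N → False := fun h => hs1 (orderOf_eq_one_iff.1 (Nat.eq_one_of_dvd_coprimes hcop
    (by rw [← Subgroup.orderOf_mk _ h]; exact orderOf_dvd_natCard _) (orderOf_dvd_of_pow_eq_one hsp)))
  by_cases h32 : n = 3 ∧ q₀ = 2
  swap
  · have : IsSimpleGroup (PSU n F₀ q₀) := Classical.Unitary.isSimpleGroup_PSU hF₀ hn h32
    set π := QuotientGroup.mk' (Subgroup.center SU₀)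
    rcases (hN'.map π (QuotientGroup.mk'_surjective _)).eq_bot_or_eq_top with h | h
    · rw [Subgroup.map_eq_bot_iff, QuotientGroup.ker_mk'] at h
      exact hc h
    · obtain ⟨x, hx, hxs⟩ := (h ▸ Subgroup.mem_top (π s) : π s ∈ N'.map π)
      have hz : f (x⁻¹ * s) = 1 := (ψ_eq_one_iff hF hF₀ hιq hn _).2 (QuotientGroup.eq.1 hxs)
      rw [map_mul, map_inv, inv_mul_eq_one] at hz
      exact hno (hz ▸ hx)
  obtain ⟨rfl, rfl⟩ := h32
  have hcard : Nat.card (Cfsg.SU 3 F₀ 2) = 2 ^ 3 * 3 ^ 3 := by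
    have h := natCard_SU_mul hF₀ (n := 3) (by norm_num)
    rw [natCard_GU hF₀] at h
    norm_num [Finset.prod_range_succ, -Nat.card_eq_fintype_card] at h ⊢
    omega
  have hp3 : p = 3 := by
    have h1 : p ∣ 2 ^ 3 * 3 ^ 3 := by
      rw [← hcard, ← orderOf_eq_prime hsp hs1]
      exact (orderOf_map_dvd f s).trans (orderOf_dvd_natCard s)
    rcases hp.dvd_mul.1 h1 with h | h
    · have := (Nat.prime_dvd_prime_iff_eq hp Nat.prime_two).1 (hp.dvd_of_dvd_pow h)
      subst this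
      exact absurd hodd (by decide)
    · exact (Nat.prime_dvd_prime_iff_eq hp Nat.prime_three).1 (hp.dvd_of_dvd_pow h)
  have hN2 : IsPGroup 2 N := by
    have h1 : Nat.card N ∣ 2 ^ 3 * 3 ^ 3 :=
      (Subgroup.card_dvd_of_le hle).trans (hcard ▸ Subgroup.card_range_dvd f)
    obtain ⟨j, -, hj⟩ := (Nat.dvd_prime_pow Nat.prime_two).1
      (Nat.Coprime.dvd_of_dvd_mul_right (Nat.Coprime.pow_right 3 (hp3 ▸ hcop)) h1)
    exact IsPGroup.of_card hj
  have : Fact (Nat.Prime 2) := ⟨Nat.prime_two⟩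
  let fN : N' →* N := (f.comp N'.subtype).codRestrict N fun x => x.2
  have : Group.IsNilpotent N := hN2.isNilpotent
  have : Group.IsNilpotent N' := isNilpotent_of_ker_le_center fN fun x hx => by
    rw [Subgroup.mem_center_iff]
    intro y
    exact Subtype.ext (Subgroup.mem_center_iff.1
      ((ψ_eq_one_iff hF hF₀ hιq hn (x : Cfsg.SU 3 F₀ 2)).1 (congrArg Subtype.val hx)) y)
  obtain ⟨P⟩ := (inferInstance : Nonempty (Sylow 2 N'))
  have hPn : (P : Subgroup N').Normal := ((Group.isNilpotent_of_finite_tfae (G := N')).out 0 3 (a := Group.IsNilpotent N')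
    (b := ∀ (p : ℕ) (_hp : Fact p.Prime) (P : Sylow p N'), (P : Subgroup N').Normal)
    rfl rfl).1 ‹_› 2 ⟨Nat.prime_two⟩ P
  have : (P : Subgroup N').Characteristic := P.characteristic_of_normal hPn
  have h2 : (2 : F₀) = 0 := by
    have h4 : ((Fintype.card F₀ : ℕ) : F₀) = 0 := FiniteField.cast_card_eq_zero F₀
    rw [hF₀] at h4
    push_cast at h4
    exact eq_zero_of_pow_eq_zero (n := 2) (by linear_combination h4)
  have hbot := normal_two_group hF₀ hn h2 ((P : Subgroup N').map N'.subtype) (P.isPGroup'.map _)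
  rw [Subgroup.map_eq_bot_iff_of_injective _ N'.subtype_injective] at hbot
  have hnd : ¬ 2 ∣ Nat.card N' := fun h => by
    have := Sylow.dvd_card_of_dvd_card P h
    rw [hbot, Subgroup.card_bot] at this
    omega
  refine hc fun x hx => (ψ_eq_one_iff hF hF₀ hιq hn x).1 ?_
  obtain ⟨j, hj⟩ := hN2 ⟨f x, hx⟩
  have h5 : orderOf (f x) ∣ 2 ^ j := orderOf_dvd_of_pow_eq_one (congrArg Subtype.val hj)
  have h6 : orderOf (f x) ∣ Nat.card N' := by
    refine (orderOf_map_dvd f x).trans ?_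
    rw [← Subgroup.orderOf_mk x (show x ∈ N' from hx)]
    exact orderOf_dvd_natCard _
  obtain ⟨i, -, hi⟩ := (Nat.dvd_prime_pow Nat.prime_two).1 h5
  refine orderOf_eq_one_iff.1 ?_
  rcases Nat.eq_zero_or_pos i with rfl | hpos
  · exact hi
  · exact absurd ((dvd_pow_self 2 hpos.ne').trans (hi ▸ h6)) hnd

theorem H_map (a b : Fin n → F₀) : H (fun i => ι (a i)) (fun i => ι (b i)) = ι (H₀ a b) := by
  simp only [Cfsg.hermForm, map_sum, map_mul, hιq]

theorem mapSU_tvu {v : Fin n → F₀} (hv : H₀ v v = 0) {c : F₀} (hc : c + c ^ q₀ = 0)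
    (hv' : H (fun i => ι (v i)) (fun i => ι (v i)) = 0) (hc' : ι c + ι c ^ q = 0) :
    mapSU hF hF₀ hιq (tvu hF₀ hv hc) = tvu hF hv' hc' := by
  refine Subtype.ext (Subtype.ext (Matrix.ext_of_mulVec_single fun j => ?_))
  change mat (mapSU hF hF₀ hιq (tvu hF₀ hv hc)) *ᵥ _ = mat (tvu hF hv' hc') *ᵥ _
  have hs : (Pi.single j 1 : Vec) = fun i => ι ((Pi.single j 1 : Fin n → F₀) i) := funext fun i => by
    by_cases hi : i = j <;> simp [hi]
  rw [mat_mapSU, hs, tvu_mulVec, H_map hF hF₀ hιq]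
  funext i
  refine (RingHom.map_mulVec ι (mat (tvu hF₀ hv hc)) (Pi.single j 1) i).symm.trans ?_
  rw [tvu_mulVec]
  simp

theorem fix_subfield (τ : F ≃+* F) (h : ∀ y : F₀, y ^ (q₀ + 1) = 1 → τ (ι y) = ι y) :
    ∀ y, τ (ι y) = ι y := by
  classical
  let S : Subfield F₀ := RingHom.eqLocusField (τ.toRingHom.comp ι) ι
  let e : Option (powMonoidHom (q₀ + 1) : F₀ˣ →* F₀ˣ).ker → S := fun o =>
    o.elim 0 fun z => ⟨((z : F₀ˣ) : F₀), h _ (by simpa using congrArg Units.val z.2)⟩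
  have he : Function.Injective e := by
    rintro (_ | a) (_ | b) hab
    · rfl
    · exact absurd (congrArg Subtype.val hab).symm (Units.ne_zero _)
    · exact absurd (congrArg Subtype.val hab) (Units.ne_zero _)
    · exact congrArg some (Subtype.ext (Units.ext (congrArg Subtype.val hab)))
  have h1 : q₀ + 2 ≤ Nat.card S := by
    refine le_trans (le_of_eq ?_) (Nat.card_le_card_of_injective e he)
    rw [Finite.card_option, natCard_normOne hF₀]
  have h2 := Module.natCard_eq_pow_finrank (K := S) (V := F₀)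
  rw [Nat.card_eq_fintype_card (α := F₀), hF₀] at h2
  have h3 : Module.finrank S F₀ = 1 := by
    rcases Nat.lt_or_ge (Module.finrank S F₀) 2 with hlt | hge
    · have := Module.finrank_pos (R := S) (M := F₀)
      omega
    · have h4 := Nat.pow_le_pow_right (show 0 < Nat.card S by omega) hge
      have h5 : (q₀ + 2) ^ 2 ≤ Nat.card S ^ 2 := Nat.pow_le_pow_left h1 2
      nlinarith
  rw [h3, pow_one, ← hF₀, ← Nat.card_eq_fintype_card] at h2
  intro y
  obtain ⟨⟨z, hz⟩, rfl⟩ := (Subtype.val_injective.bijective_of_nat_card_le (f := ((↑) : S → F₀))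
    h2.le).2 y
  exact hz

theorem exists_field_of_fix (r : ℕ) [Fact r.Prime] [CharP F r] (hn : 3 ≤ n)
    (h32 : ¬ (n = 3 ∧ q = 2)) (γ : Aut)
    (h : ∀ s : SU₀, γ (QuotientGroup.mk (mapSU hF hF₀ hιq s) : PSU n F q) =
      QuotientGroup.mk (mapSU hF hF₀ hιq s)) :
    ∃ τ : F ≃+* F, γ = fAut τ ∧ ∀ y, τ (ι y) = ι y := by
  classical
  obtain ⟨g, τ, rfl⟩ := exists_decomp hF r hn h32 γ
  obtain ⟨c, hc0, hc⟩ := exists_traceZero hF₀
  have hpar : ∀ v : Fin n → F₀, v ≠ 0 → H₀ v v = 0 →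
      ∃ a : F, gmat g *ᵥ (fun i => τ (ι (v i))) = a • fun i => ι (v i) := by
    intro v hv0 hv
    have hv' : H (fun i => ι (v i)) (fun i => ι (v i)) = 0 := by rw [H_map hF hF₀ hιq, hv, map_zero]
    have hc' : ι c + ι c ^ q = 0 := by rw [hιq, ← map_add, hc, map_zero]
    have h1 := h (tvu hF₀ hv hc)
    rw [mapSU_tvu hF hF₀ hιq hv hc hv' hc'] at h1
    obtain ⟨hv1, hc1, e1⟩ := tvu_fieldEl hF τ hv' hc'
    obtain ⟨hv2, e2⟩ := tvu_conjEl hF g hv1 hc1
    change QuotientGroup.mk (conjEl g (fieldEl τ (tvu hF hv' hc'))) = _ at h1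
    rw [e1, e2] at h1
    refine tvu_par hF hv2 hv' ?_ hc1 hc' ?_ (tvu_inj hF hn hv2 hv' hc1 hc' h1)
    · refine gmat_mulVec_ne_zero hF g (field_vec_ne_zero hF τ fun e => hv0 (funext fun i => ?_))
      exact ι.injective (by rw [congrFun e i, Pi.zero_apply, Pi.zero_apply, map_zero])
    · exact (map_ne_zero τ).2 ((map_ne_zero ι).2 hc0)
  obtain ⟨x₀, hx₀⟩ := UnitaryCount.exists_norm_eq hF₀ (μ := (-1 : F₀)) (by simp)
    (by rw [← HermStd.qHom_apply hF₀, map_neg, map_one])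
  have hx₀0 : x₀ ≠ 0 := fun h0 => by simp [h0] at hx₀
  have hiso : ∀ (i j : Fin n), i ≠ j → ∀ x : F₀, x ^ (q₀ + 1) = -1 →
      ∃ a : F, gmat g *ᵥ Pi.single i 1 + τ (ι x) • (gmat g *ᵥ Pi.single j 1) =
        a • (Pi.single i 1 + ι x • Pi.single j 1 : Vec) := by
    intro i j hij x hx
    obtain ⟨a, ha⟩ := hpar (Pi.single i 1 + x • Pi.single j 1)
      (fun e => by simpa [hij] using congrFun e i) (by
        simp only [H_add_left, H_add_right hF₀, H_smul_left, H_smul_right, H_single_single hF₀, if_true,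
          if_neg hij, if_neg (Ne.symm hij), if_pos rfl]
        rw [pow_succ, mul_comm] at hx
        linear_combination hx)
    refine ⟨a, ?_⟩
    have e1 : (fun k => ι ((Pi.single i 1 + x • Pi.single j 1 : Fin n → F₀) k)) =
        (Pi.single i 1 + ι x • Pi.single j 1 : Vec) := funext fun k => by
      by_cases h1 : k = i <;> by_cases h2 : k = j <;> simp_all
    have e2 : (fun k => τ (ι ((Pi.single i 1 + x • Pi.single j 1 : Fin n → F₀) k))) =
        (Pi.single i 1 + τ (ι x) • Pi.single j 1 : Vec) := funext fun k => by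
      by_cases h1 : k = i <;> by_cases h2 : k = j <;> simp_all
    rw [e1, e2, Matrix.mulVec_add, Matrix.mulVec_smul] at ha
    exact ha
  obtain ⟨ζ, hζ, hζ1, -⟩ := exists_normOne_ne hF₀
  have hoff : ∀ k i : Fin n, k ≠ i → gmat g k i = 0 := by
    intro k i hki
    obtain ⟨j, hji, hjk⟩ := Classical.Linear.exists_third (n := Fin n) (by rw [Fintype.card_fin]; exact hn) i k
    obtain ⟨a, ha⟩ := hiso i j hji.symm x₀ hx₀
    obtain ⟨b, hb⟩ := hiso i j hji.symm (x₀ * ζ) (by rw [mul_pow, hx₀, hζ, mul_one])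
    have h1 := congrFun ha k
    have h2 := congrFun hb k
    simp [hki, Ne.symm hjk] at h1 h2
    have h3 : (τ (ι x₀) - τ (ι x₀) * τ (ι ζ)) * gmat g k j = 0 := by linear_combination h1 - h2
    have hne : τ (ι x₀) - τ (ι x₀) * τ (ι ζ) ≠ 0 := by
      rw [← map_mul, ← map_mul, ← map_sub, ← map_sub, map_ne_zero, map_ne_zero, ← mul_one_sub]
      exact mul_ne_zero hx₀0 (sub_ne_zero.2 (Ne.symm hζ1))
    rw [(mul_eq_zero.1 h3).resolve_left hne, mul_zero, add_zero] at h1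
    exact h1
  set d : Fin n → F := fun i => gmat g i i
  have hcol : ∀ i, gmat g *ᵥ Pi.single i 1 = d i • (Pi.single i 1 : Vec) := fun i => by
    funext k
    by_cases hk : k = i
    · subst hk; simp [d]
    · simp [hk, hoff k i hk]
  have hd0 : ∀ i, d i ≠ 0 := fun i h0 =>
    gmat_mulVec_ne_zero hF g (show (Pi.single i 1 : Vec) ≠ 0 by simp) (by rw [hcol, h0, zero_smul])
  have hrel : ∀ i j, i ≠ j → ∀ x : F₀, x ^ (q₀ + 1) = -1 → τ (ι x) * d j = d i * ι x := by
    intro i j hij x hx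
    obtain ⟨a, ha⟩ := hiso i j hij x hx
    rw [hcol, hcol] at ha
    have h1 := congrFun ha i
    have h2 := congrFun ha j
    simp [hij, Ne.symm hij] at h1 h2
    rw [h1]
    exact h2
  set i₀ : Fin n := ⟨0, by omega⟩
  set i₁ : Fin n := ⟨1, by omega⟩
  have h01 : i₀ ≠ i₁ := by simp [i₀, i₁, Fin.ext_iff]
  have hτfix : ∀ y, τ (ι y) = ι y := fix_subfield hF hF₀ hιq τ fun y hy => by
    have h1 := hrel i₀ i₁ h01 (x₀ * y) (by rw [mul_pow, hx₀, hy, mul_one])
    have h2 := hrel i₀ i₁ h01 x₀ hx₀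
    rw [map_mul, map_mul] at h1
    refine mul_left_cancel₀ (mul_ne_zero (hd0 i₀) ((map_ne_zero ι).2 hx₀0)) ?_
    linear_combination h1 - τ (ι y) * h2
  refine ⟨τ, ?_, hτfix⟩
  rw [(gAut_eq_one_iff hF hn g).2 ⟨d i₀, fun v => ?_⟩, one_mul]
  have hd : ∀ i, d i = d i₀ := fun i => by
    by_cases hi : i = i₀
    · rw [hi]
    · have := hrel i i₀ hi x₀ hx₀
      rw [hτfix, mul_comm] at this
      exact (mul_right_cancel₀ ((map_ne_zero ι).2 hx₀0) this).symm
  have hg : gmat g = d i₀ • (1 : Mat) := Matrix.ext_of_mulVec_single fun i => by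
    rw [hcol, hd, Matrix.smul_mulVec, Matrix.one_mulVec]
  rw [hg, Matrix.smul_mulVec, Matrix.one_mulVec]

theorem core_ne_bot_iff (r : ℕ) [Fact r.Prime] [CharP F r] (hn : 3 ≤ n) (h32 : ¬ (n = 3 ∧ q = 2))
    {p : ℕ} [Fact p.Prime] (hodd : Odd p) (A : Subgroup Aut)
    (hinn : ∀ k : PSU n F q, MulAut.conj k ∈ A) (σ : F ≃+* F) (hσ : orderOf σ = p)
    (hfix : ∀ y, σ (ι y) = ι y) (hsur : ∀ x, σ x = x → ∃ y, ι y = x) :
    Cfsg.pPrimeCore p ↥(A ⊓ Subgroup.centralizer {(fAut σ : Aut)}) ≠ ⊥ ↔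
      Nat.Coprime p
        (Nat.card (MonoidHom.eqLocus (fAut σ : Aut).toMonoidHom (MonoidHom.id (PSU n F q)))) := by
  classical
  set x : Aut := fAut σ with hx
  have hp : p.Prime := Fact.out
  have hσo : Odd (orderOf σ) := hσ ▸ hodd
  have hinj := Count.conj_injective hF hn
  have hψmem : ∀ s, ψ (n := n) hF hF₀ hιq s ∈ A ⊓ Subgroup.centralizer {x} := fun s => by
    have h1 : ψ (n := n) hF hF₀ hιq s ∈ (subAct (n := n) hF hF₀ hιq).range := ⟨_, rfl⟩
    rw [subAct_range hF hF₀ hιq hn σ hσo hfix hsur] at h1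
    exact ⟨ψ_eq_conj hF hF₀ hιq s ▸ hinn _, h1.2⟩
  constructor
  · contrapose!
    intro hcop
    have hdvd : p ∣ Nat.card (MonoidHom.eqLocus x.toMonoidHom (MonoidHom.id (PSU n F q))) :=
      not_not.1 fun h => hcop (hp.coprime_iff_not_dvd.2 h)
    have hel := exists_rational_element hF hF₀ hιq hn σ hσo hfix hsur hdvd
    set 𝓗 := A ⊓ Subgroup.centralizer {x}
    set D : Subgroup 𝓗 := (Inn (PSU n F q)).subgroupOf 𝓗
    have : (Inn (PSU n F q)).Normal := inferInstance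
    let f : SU₀ →* 𝓗 := (ψ hF hF₀ hιq).codRestrict 𝓗 hψmem
    refine AutPSp.LocalBalance.core_eq_bot p D f.range ?_ ?_ ?_ ?_
    · rintro _ ⟨s, rfl⟩
      exact Subgroup.mem_subgroupOf.2 ⟨_, (ψ_eq_conj hF hF₀ hιq s).symm⟩
    · rintro d hd _ ⟨s, rfl⟩
      obtain ⟨g, hg⟩ : (d : Aut) ∈ (subAct (n := n) hF hF₀ hιq).range := by
        rw [subAct_range hF hF₀ hιq hn σ hσo hfix hsur]
        exact ⟨inn_le_range hF (Subgroup.mem_subgroupOf.1 hd), d.2.2⟩
      refine ⟨conjEl g s, Subtype.ext ?_⟩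
      change ψ hF hF₀ hιq (conjEl g s) = (d : Aut) * ψ hF hF₀ hιq s * (d : Aut)⁻¹
      rw [← hg, subAct_conj]
    · intro N hN hinv hcopN
      rw [← Subgroup.map_eq_bot_iff_of_injective N 𝓗.subtype_injective]
      refine invariant_coprime_eq_bot (p := p) hF hF₀ hιq hn hodd hel _ ?_ ?_
        (by rwa [Subgroup.card_map_of_injective 𝓗.subtype_injective])
      · rintro _ ⟨y, hy, rfl⟩
        obtain ⟨s, rfl⟩ := hN hy
        exact ⟨s, rfl⟩
      · rintro s _ ⟨y, hy, rfl⟩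
        exact ⟨f s * y * (f s)⁻¹, hinv (f s) ⟨s, rfl⟩ y hy, rfl⟩
    · intro γ hγ
      obtain ⟨τ, hτ, hτfix⟩ := exists_field_of_fix hF hF₀ hιq r hn h32 (γ : Aut) fun s => by
        have h1 := congrArg Subtype.val (hγ (f s) ⟨s, rfl⟩)
        change (γ : Aut) * ψ hF hF₀ hιq s = ψ hF hF₀ hιq s * (γ : Aut) at h1
        rw [ψ_eq_conj, AutPSp.LocalBalance.conj_mul_apply] at h1
        exact hinj (mul_right_cancel h1)
      have hτσ := AutPSp.LocalBalance.mem_zpowers_of_fix σ τ fun z hz => by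
        obtain ⟨y, rfl⟩ := hsur z hz
        exact hτfix y
      refine ⟨1, Subtype.ext ?_⟩
      obtain ⟨j, rfl⟩ := Subgroup.mem_zpowers_iff.1 hτσ
      rw [pow_one, SubmonoidClass.coe_pow, hτ, ← map_pow, ← zpow_natCast, ← _root_.zpow_mul, mul_comm,
        _root_.zpow_mul, zpow_natCast, ← hσ, pow_orderOf_eq_one, _root_.one_zpow, map_one,
        OneMemClass.coe_one]
  · intro hcop
    refine AutPSp.LocalBalance.core_ne_bot hinj A hinn x p ?_ hcop
    obtain ⟨ζ, hζ, hζ1, -⟩ := exists_normOne_ne hF₀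
    obtain ⟨s, hs, -⟩ := exists_diag (n := n) hF hF₀ hιq hn hζ hζ1
    refine ⟨QuotientGroup.mk (mapSU hF hF₀ hιq s), fun h => hs ?_, ?_⟩
    · rw [ψ_eq_conj, h, map_one]
    · have := (hψmem s).2
      rw [ψ_eq_conj] at this
      exact (AutPSp.LocalBalance.conj_mem_centralizer_iff hinj _ _).1 this

omit hF hF₀ hιq

/-- A criterion invariant under conjugation. -/
theorem transfer {G : Type u} [Group G] [Finite G] (p : ℕ) [Fact p.Prime] (A : Subgroup (MulAut G))
    (hinn : ∀ k : G, MulAut.conj k ∈ A) (b x : MulAut G)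
    (h : ∀ A' : Subgroup (MulAut G), (∀ k : G, MulAut.conj k ∈ A') →
      (Cfsg.pPrimeCore p ↥(A' ⊓ Subgroup.centralizer {x}) ≠ ⊥ ↔
        Nat.Coprime p (Nat.card (MonoidHom.eqLocus x.toMonoidHom (MonoidHom.id G))))) :
    Cfsg.pPrimeCore p ↥(A ⊓ Subgroup.centralizer {b * x * b⁻¹}) ≠ ⊥ ↔
      Nat.Coprime p (Nat.card (MonoidHom.eqLocus (b * x * b⁻¹).toMonoidHom (MonoidHom.id G))) := by
  set c := (MulAut.conj b : MulAut (MulAut G)).toMonoidHom
  have hc : Function.Injective c := (MulAut.conj b).injective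
  set A' := A.comap c
  have hinn' : ∀ k : G, MulAut.conj k ∈ A' := fun k => by
    change b * MulAut.conj k * b⁻¹ ∈ A
    rw [AutPSp.LocalBalance.conj_mul_apply, mul_inv_cancel_right]
    exact hinn _
  have hmap : (A' ⊓ Subgroup.centralizer {x}).map c = A ⊓ Subgroup.centralizer {b * x * b⁻¹} := by
    ext y
    simp only [Subgroup.mem_map, Subgroup.mem_inf, A', Subgroup.mem_comap,
      Subgroup.mem_centralizer_singleton_iff]
    constructor
    · rintro ⟨z, ⟨hz1, hz2⟩, rfl⟩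
      refine ⟨hz1, ?_⟩
      change b * z * b⁻¹ * _ = _ * (b * z * b⁻¹)
      calc _ = b * (z * x) * b⁻¹ := by group
        _ = _ := by rw [hz2]; group
    · rintro ⟨hy1, hy2⟩
      refine ⟨b⁻¹ * y * b, ⟨?_, ?_⟩, ?_⟩
      · change b * (b⁻¹ * y * b) * b⁻¹ ∈ A
        simpa [mul_assoc] using hy1
      · calc b⁻¹ * y * b * x = b⁻¹ * (y * (b * x * b⁻¹)) * b := by group
          _ = _ := by rw [hy2]; group
      · change b * (b⁻¹ * y * b) * b⁻¹ = y
        simp [mul_assoc]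
  have e := ((A' ⊓ Subgroup.centralizer {x}).equivMapOfInjective c hc).trans
    (MulEquiv.subgroupCongr hmap)
  have hcore := PLocal.Cores.map_pPrimeCore_equiv (p := p) e
  have hcard : Nat.card (MonoidHom.eqLocus (b * x * b⁻¹).toMonoidHom (MonoidHom.id G)) =
      Nat.card (MonoidHom.eqLocus x.toMonoidHom (MonoidHom.id G)) := by
    refine Nat.card_congr (Equiv.subtypeEquiv b.symm.toEquiv fun k => ?_)
    change b (x (b.symm k)) = k ↔ x (b.symm k) = b.symm k
    exact b.eq_symm_apply.symm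
  rw [hcard, ← hcore, Ne, Subgroup.map_eq_bot_iff_of_injective _ e.injective]
  exact h A' hinn'

include hF in
theorem not_commutative (hn : 3 ≤ n) [IsSimpleGroup (PSU n F q)]
    (h : ∀ a b : PSU n F q, a * b = b * a) : False := by
  obtain ⟨a, b, hab⟩ := exists_pair_ne (PSU n F q)
  refine hab (Count.conj_injective hF hn (MulEquiv.ext fun z => ?_))
  simp only [MulAut.conj_apply]
  rw [h a z, mul_inv_cancel_right, h b z, mul_inv_cancel_right]

include hF in
theorem main (r : ℕ) [Fact r.Prime] [CharP F r] (hn : 3 ≤ n) (hK : IsSimpleGroup (PSU n F q))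
    (𝒢 : Subgroup Aut) (hinn : ∀ k : PSU n F q, MulAut.conj k ∈ 𝒢) (p : ℕ) [Fact p.Prime] (hpr : p ≠ r)
    (β : Aut) (hord : orderOf β = p) (hnot : ¬ Cfsg.IsInnerDiagonalAutPSU β) :
    Cfsg.pPrimeCore p ↥(𝒢 ⊓ Subgroup.centralizer {β}) ≠ ⊥ ↔
      ((∃ γ φ : Aut, Cfsg.IsInnerDiagonalAutPSU γ ∧ (∃ σ : F ≃+* F, Cfsg.IsFieldAutPSUOf σ φ) ∧
          β = φ.trans γ) ∧
        Nat.Coprime p (Nat.card ↥(MonoidHom.eqLocus β.toMonoidHom (MonoidHom.id (PSU n F q))))) := by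
  classical
  have hp : p.Prime := Fact.out
  have h32 : ¬ (n = 3 ∧ q = 2) := by
    rintro ⟨rfl, rfl⟩
    exact not_commutative hF le_rfl (IsSimpleGroup.comm_iff_isSolvable.2 (S0282.result (by rw [hF]; norm_num)).2)
  obtain ⟨g, σ, rfl⟩ := exists_decomp hF r hn h32 β
  rw [and_iff_right ⟨gAut g, fAut σ, (isInnerDiagonalAutPSU_iff _).2 ⟨g, rfl⟩,
    ⟨σ, (isFieldAutPSUOf_iff σ (fAut σ : Aut)).2 rfl⟩, rfl⟩]
  have hβp : (gAut g * fAut σ : Aut) ^ p = 1 := hord ▸ pow_orderOf_eq_one _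
  have hσ : orderOf σ = p := by
    have h2 := hβp
    rw [pow_gAut_fAut] at h2
    exact orderOf_eq_prime (mul_field_eq_one hF hn h2).1 fun e =>
      hnot ((isInnerDiagonalAutPSU_iff _).2 ⟨g, by rw [e, map_one, mul_one]⟩)
  rcases hp.eq_two_or_odd' with rfl | hodd
  · have h2 : (2 : F) ≠ 0 := fun h => hpr ((Nat.prime_dvd_prime_iff_eq Fact.out Nat.prime_two).1
      ((CharP.cast_eq_zero_iff F r 2).1 (by exact_mod_cast h))).symm
    have hbot := GraphBalance.core_eq_bot hF r hn h32 h2 𝒢 hinn g σ hσ hβp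
    refine iff_of_false (not_not.2 hbot) fun hcop => ?_
    by_cases hne : ∃ k : PSU n F q, k ≠ 1 ∧ (gAut g * fAut σ : Aut) k = k
    · exact AutPSp.LocalBalance.core_ne_bot (Count.conj_injective hF hn) 𝒢 hinn _ 2 hne hcop hbot
    push Not at hne
    have hfpf : MonoidHom.FixedPointFree ⇑(gAut g * fAut σ : Aut) := fun k hk => by
      by_contra h
      exact hne k h hk
    have hinv : Function.Involutive ⇑(gAut g * fAut σ : Aut) := fun k => by
      rw [← MulAut.mul_apply, ← pow_two, hβp]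
      rfl
    exact not_commutative hF hn fun a b => hfpf.commute_all_of_involutive hinv a b
  obtain ⟨B, hB⟩ := exists_decomp_field hF hn σ hσ hodd g hβp
  rw [hB]
  refine transfer p 𝒢 hinn _ _ fun A' hinn' => ?_
  obtain ⟨f, hf, hf1⟩ := GraphBalance.exists_q_pow hF r
  have hcard : Fintype.card F = r ^ (2 * f) := by rw [hF, hf, ← pow_mul, mul_comm]
  have hpf : p ∣ f := Nat.Coprime.dvd_of_dvd_mul_left
    (Nat.Coprime.symm (Nat.coprime_two_left.2 hodd)) (hσ ▸ AutPSL.FieldCent.dvd_degree hcard σ)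
  have hm : f / p ≠ 0 := (Nat.div_pos (Nat.le_of_dvd (by omega) hpf) hp.pos).ne'
  let F₀ := GaloisField r (2 * (f / p))
  have : Fintype F₀ := Fintype.ofFinite _
  have hc₀ : Fintype.card F₀ = r ^ (2 * (f / p)) := by
    rw [← Nat.card_eq_fintype_card]
    exact GaloisField.card r _ (by omega)
  obtain ⟨ι, hfix, hsur⟩ := AutPSL.FieldCent.exists_emb (F₀ := F₀) hcard σ hσ (by
    rw [hc₀, Nat.mul_div_assoc 2 hpf])
  set q₀ := r ^ (f / p) with hq₀
  have hF₀' : Fintype.card F₀ = q₀ ^ 2 := by rw [hc₀, hq₀, ← pow_mul, mul_comm]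
  have hqq : q = q₀ ^ p := by rw [hf, hq₀, ← pow_mul, Nat.div_mul_cancel hpf]
  have hodd' := hodd
  obtain ⟨k, hk⟩ := hodd'
  have hpow : ∀ (k : ℕ) (y : F₀), y ^ q₀ ^ (2 * k + 1) = y ^ q₀ := fun k y => by
    induction k with
    | zero => simp
    | succ k ih =>
      have h1 : y ^ q₀ ^ 2 = y := by rw [← hF₀']; exact FiniteField.pow_card y
      rw [show q₀ ^ (2 * (k + 1) + 1) = q₀ ^ 2 * q₀ ^ (2 * k + 1) by rw [← pow_add]; ring_nf,
        pow_mul, h1, ih]
  have hιq : ∀ y : F₀, ι y ^ q = ι (y ^ q₀) := fun y => (map_pow ι y q).symm.trans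
    (congrArg ι ((congrArg (y ^ ·) (hqq.trans (congrArg (q₀ ^ ·) hk))).trans (hpow k y)))
  exact core_ne_bot_iff hF hF₀' (ι := ι) hιq r hn h32 hodd A'
    hinn' σ hσ hfix hsur

end Cfsg.Agent.AutPSU.LocalBalance
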