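import Cfsg.Agent.Lib.AutPSU.Semilinear

/-!
# The automorphism group of `PSU_n(q)`

For `n ≥ 3` and `(n, q) ≠ (3, 2)` every automorphism is `gAut g * fAut σ`, uniquely up to scalars.
-/

set_option autoImplicit false
set_option linter.unusedSectionVars false

namespace Cfsg.Agent.AutPSU.Main

open Matrix Cfsg.Agent.Classical Cfsg.Agent.Classical.Unitary Cfsg.Agent.Forms
  Cfsg.Agent.AutPSU.Basic Cfsg.Agent.AutPSU.Centre Cfsg.Agent.AutPSU.Radical
  Cfsg.Agent.AutPSU.Semilinear

universe u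

variable {F : Type u} [Field F] [Fintype F] {q n : ℕ} (hF : Fintype.card F = q ^ 2)

local notation "Vec" => (Fin n → F)
local notation "Mat" => Matrix (Fin n) (Fin n) F
local notation "SUn" => Cfsg.SU n F q
local notation "GUn" => Cfsg.GU n F q
local notation "H" => Cfsg.hermForm n F q

include hF

theorem exists_hyperbolic (hn : 3 ≤ n) :
    ∃ e f : Vec, e ≠ 0 ∧ H e e = 0 ∧ H f f = 0 ∧ H e f = 1 := by
  obtain ⟨e, he, he1, -, -⟩ := exists_isotropic_pair hF (n := n) ⟨0, by omega⟩ ⟨1, by omega⟩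
    (by simp [Fin.ext_iff])
  have he0 : e ≠ 0 := fun h => by simp [h] at he1
  obtain ⟨f, hf, hef⟩ := exists_partner hF he0 he
  exact ⟨e, f, he0, he, hf, hef⟩

/-- A semilinear isometry fixing all isotropic points is scalar. -/
theorem semilinear_eigen (hn : 3 ≤ n) (g : GUn) (σ : F ≃+* F)
    (hfix : ∀ p : Vec, p ≠ 0 → H p p = 0 → ∃ c : F, gmat g *ᵥ (fun i => σ (p i)) = c • p) :
    σ = 1 ∧ ∃ a : F, ∀ v : Vec, gmat g *ᵥ v = a • v := by
  obtain ⟨e, f, he0, he, hf, hef⟩ := exists_hyperbolic hF hn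
  have hfe := hfe_of hF hef
  have hf0 : f ≠ 0 := fun h0 => by rw [h0, H_zero_right hF] at hef; exact zero_ne_one hef
  let L : Vec → Vec := fun x => gmat g *ᵥ (fun i => σ (x i))
  have hLadd : ∀ x y, L (x + y) = L x + L y := fun x y => by
    simp only [L, ← Matrix.mulVec_add]
    congr 1
    funext i
    simp
  have hLsmul : ∀ (c : F) (x : Vec), L (c • x) = σ c • L x := fun c x => by
    simp only [L, ← Matrix.mulVec_smul]
    congr 1
    funext i
    simp
  have hLH : ∀ x y, H (L x) (L y) = σ (H x y) := fun x y => by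
    simp only [L]
    rw [GU_H, hermForm_map]
  obtain ⟨α, hα : L e = α • e⟩ := hfix e he0 he
  obtain ⟨γ, hγ : L f = γ • f⟩ := hfix f hf0 hf
  have hα0 : α ≠ 0 := fun h0 => by
    have h1 := hLH e f
    rw [hα, h0, zero_smul, H_zero_left, hef, map_one] at h1
    exact zero_ne_one h1
  have hγ0 : γ ≠ 0 := fun h0 => by
    have h1 := hLH e f
    rw [hγ, h0, zero_smul, H_zero_right hF, hef, map_one] at h1
    exact zero_ne_one h1
  have key : ∀ w, InW q e f w → L w = γ • w ∧ ∀ d : F, d + d ^ q = 0 → σ d * α = γ * d := by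
    intro w hw
    obtain ⟨a, hok⟩ := exists_ok hF hw.1
    have hpiso : ∀ d : F, d + d ^ q = 0 →
        f + w + (a + d) • e ≠ 0 ∧ H (f + w + (a + d) • e) (f + w + (a + d) • e) = 0 := by
      intro d hd
      refine ⟨fun h0 => ?_, ?_⟩
      · have h1 := congrArg (fun z => H z e) h0
        simp [H_add_left, H_smul_left, H_zero_left, hfe, hw.1, he] at h1
      · simp only [H_add_left, H_add_right hF, H_smul_left, H_smul_right, hf, hfe, hef, he, hw.1, hw.2,
          (H_eq_zero_comm hF).1 hw.1, (H_eq_zero_comm hF).1 hw.2, HermStd.add_pow_q hF]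
        linear_combination hok.2 + hd
    have hexp : ∀ d : F, L (f + w + (a + d) • e) = γ • f + L w + (σ (a + d) * α) • e := fun d => by
      rw [hLadd, hLadd, hLsmul, hγ, hα, smul_smul]
    have hθ : ∀ d : F, d + d ^ q = 0 → L (f + w + (a + d) • e) = γ • (f + w + (a + d) • e) := by
      intro d hd
      obtain ⟨hne, hiso⟩ := hpiso d hd
      obtain ⟨θ, hθ : L _ = θ • _⟩ := hfix _ hne hiso
      have h1 := hLH (f + w + (a + d) • e) e
      rw [hθ, hα, H_smul_left, H_smul_right] at h1
      simp only [H_add_left, H_smul_left, hfe, hw.1, he, mul_zero, add_zero, map_one, mul_one] at h1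
      have h2 := hLH f e
      rw [hγ, hα, H_smul_left, H_smul_right, hfe, map_one, mul_one] at h2
      have hθγ : θ = γ := mul_right_cancel₀ (pow_ne_zero q hα0) (h1.trans h2.symm)
      rw [hθ, hθγ]
    have h0 : (0 : F) + 0 ^ q = 0 := by rw [zero_pow (q_ne_zero hF), add_zero]
    have e0 := hθ 0 h0
    rw [hexp, add_zero] at e0
    have hLwe : H (L w) e = 0 := by
      have h1 := hLH w e
      rw [hα, H_smul_right, hw.1, map_zero] at h1
      exact (mul_eq_zero.1 h1).resolve_left (pow_ne_zero _ hα0)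
    have hLwf : H (L w) f = 0 := by
      have h1 := hLH w f
      rw [hγ, H_smul_right, hw.2, map_zero] at h1
      exact (mul_eq_zero.1 h1).resolve_left (pow_ne_zero _ hγ0)
    have hcoef : σ a * α = γ * a := by
      have h1 := congrArg (fun z => H z f) e0
      simpa [H_add_left, H_smul_left, hf, hef, hLwf, hw.2] using h1
    refine ⟨?_, fun d hd => ?_⟩
    · rw [hcoef] at e0
      linear_combination (norm := module) e0
    · have e1 := hθ d hd
      rw [hexp] at e1
      have h1 := congrArg (fun z => H z f) e1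
      simp [H_add_left, H_smul_left, hf, hef, hLwf, hw.2] at h1
      linear_combination h1 - hcoef
  obtain ⟨w₀, hwe, hwf, hww⟩ := (exists_perp_pair hF hn he hf hef).1
  have hw0 : w₀ ≠ 0 := fun h0 => by rw [h0, H_zero_left] at hww; exact zero_ne_one hww
  have hw₀ : InW q e f w₀ := ⟨hwe, hwf⟩
  have hσ : σ = 1 := RingEquiv.ext fun x => by
    have h1 := (key _ (hw₀.smul x)).1
    rw [hLsmul, (key _ hw₀).1, smul_smul, smul_smul] at h1
    have h2 := smul_left_injective F hw0 h1
    exact mul_right_cancel₀ hγ0 (h2.trans (mul_comm _ _))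
  refine ⟨hσ, γ, fun v => ?_⟩
  obtain ⟨d, hd0, hd⟩ := exists_traceZero hF
  have hαγ : α = γ := by
    have h1 := (key _ hw₀).2 d hd
    rw [hσ, mul_comm γ] at h1
    exact mul_left_cancel₀ hd0 h1
  have hv : v = H v f • e + H v e • f + prW q e f v := by rw [prW]; module
  have hL : L v = gmat g *ᵥ v := by simp [L, hσ]
  rw [← hL]
  conv_lhs => rw [hv]
  rw [hLadd, hLadd, hLsmul, hLsmul, hα, hγ, (key _ (prW_inW hF he hf hef v)).1, hαγ, hσ]
  conv_rhs => rw [hv]
  change H v f • γ • e + H v e • γ • f + γ • prW q e f v = _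
  module

/-- Equality of classes from the action on isotropic points. -/
theorem mk_eq_of_fixes (hn : 3 ≤ n) (A B : SUn)
    (h : ∀ p : Vec, p ≠ 0 → H p p = 0 → ∃ c : F, mat B *ᵥ p = c • (mat A *ᵥ p)) :
    (QuotientGroup.mk A : PSU n F q) = QuotientGroup.mk B := by
  obtain ⟨-, a, ha⟩ := semilinear_eigen hF hn (suToGU (A⁻¹ * B)) 1 fun p hp hpp => by
    obtain ⟨c, hc⟩ := h p hp hpp
    refine ⟨c, ?_⟩
    rw [gmat_suToGU, mul_mulVec]
    change mat A⁻¹ *ᵥ (mat B *ᵥ p) = _
    rw [hc, Matrix.mulVec_smul, inv_mulVec A rfl]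
  refine (mk_eq_mk_iff hF (by omega) A B).2 ⟨a, fun v => ?_⟩
  have h1 := ha v
  rw [gmat_suToGU] at h1
  rw [← Matrix.mulVec_smul, ← h1, ← mul_mulVec, mul_inv_cancel_left]

theorem field_vec_ne_zero (σ : F ≃+* F) {v : Vec} (hv : v ≠ 0) : (fun i => σ (v i)) ≠ (0 : Vec) :=
  fun h => hv (funext fun i => by simpa using congrFun h i)

theorem gmat_mulVec_ne_zero (g : GUn) {v : Vec} (hv : v ≠ 0) : gmat g *ᵥ v ≠ 0 := fun h0 => hv (by
  rw [← ginv_mulVec g h0, Matrix.mulVec_zero])

theorem map_rootX_decomp (g : GUn) (σ : F ≃+* F) {v : Vec} (hv : H v v = 0) :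
    (rootX v).map (gAut g * fAut σ : MulAut (PSU n F q)).toMonoidHom =
      rootX (q := q) (gmat g *ᵥ fun i => σ (v i)) := by
  rw [← map_rootX_gAut hF g (by rw [hermForm_map, hv, map_zero]), ← map_rootX_fAut hF σ hv,
    Subgroup.map_map]
  rfl

/-- The only `gAut g * fAut σ` equal to one have `σ = 1` and `g` scalar. -/
theorem mul_field_eq_one (hn : 3 ≤ n) {g : GUn} {σ : F ≃+* F}
    (h : (gAut g * fAut σ : MulAut (PSU n F q)) = 1) :
    σ = 1 ∧ ∃ a : F, ∀ v : Vec, gmat g *ᵥ v = a • v := by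
  refine semilinear_eigen hF hn g σ fun p hp hpp => ?_
  have h1 := map_rootX_decomp hF g σ hpp
  rw [h] at h1
  have h2 : rootX (q := q) p = rootX (gmat g *ᵥ fun i => σ (p i)) := by
    rw [← h1]
    exact (Subgroup.map_id _).symm
  obtain ⟨a, -, ha⟩ := (rootX_eq_iff hF hn hp (gmat_mulVec_ne_zero hF g (field_vec_ne_zero hF σ hp)) hpp
    (by rw [GU_H, hermForm_map, hpp, map_zero])).1 h2
  exact ⟨a, ha⟩

theorem gAut_eq_one_iff (hn : 3 ≤ n) (g : GUn) :
    (gAut g : MulAut (PSU n F q)) = 1 ↔ ∃ a : F, ∀ v : Vec, gmat g *ᵥ v = a • v := by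
  constructor
  · intro h
    exact (mul_field_eq_one hF hn (σ := 1) (by rw [map_one, mul_one, h])).2
  · rintro ⟨a, ha⟩
    refine MulEquiv.ext fun x => ?_
    refine QuotientGroup.induction_on x fun s => ?_
    refine congrArg QuotientGroup.mk (SU_ext fun v => ?_)
    change (gmat g * mat s * gmat g⁻¹) *ᵥ v = mat s *ᵥ v
    rw [← Matrix.mulVec_mulVec, ← Matrix.mulVec_mulVec, ha, ← Matrix.mulVec_smul, ← ha,
      Matrix.mulVec_mulVec _ (gmat g), gmat_mul_inv, Matrix.one_mulVec]

theorem fAut_injective (hn : 3 ≤ n) : Function.Injective (fAut (n := n) (F := F) (q := q)) :=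
  (injective_iff_map_eq_one _).2 fun σ h =>
    (mul_field_eq_one hF hn (g := 1) (σ := σ) (by rw [map_one, one_mul, h])).1

variable (p : ℕ) [Fact p.Prime] [CharP F p]

include p in
theorem heis_fixed (hn : 3 ≤ n) (h32 : ¬ (n = 3 ∧ q = 2)) {γ : MulAut (PSU n F q)} {e f : Vec}
    {T : Vec → Vec} (hS : Setup γ e f T) (hT : ∀ w, InW q e f w → T w = w) :
    ∀ s ∈ heisGroup hF hS.he, γ (QuotientGroup.mk s : PSU n F q) = QuotientGroup.mk s := by
  have hq := HermStd.one_lt_q hF
  have he := hS.he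
  have he0 := hS.he0 hF
  obtain ⟨τ, hτ⟩ := exists_tau hF hS
  obtain ⟨w₀, hwe, hwf, hww⟩ := (exists_perp_pair hF hn hS.he hS.hf hS.hef).1
  have hw₀ : InW q e f w₀ := ⟨hwe, hwf⟩
  -- the centre is fixed
  have htau : ∀ (c : F) (hc : c + c ^ q = 0),
      γ (QuotientGroup.mk (tvu hF he hc)) = QuotientGroup.mk (tvu hF he hc) := by
    intro c hc
    obtain ⟨a₁, ha₁⟩ := exists_trace_eq hF (c := (1 : F)) (one_pow q)
    have h1 := pairing hF p hn hS hτ (hw₀.smul (c * a₁)) hw₀
    rw [hT _ (hw₀.smul _), hT _ hw₀, H_smul_left, H_smul_right, hww, mul_one, mul_one] at h1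
    have hcc : c * a₁ - (c * a₁) ^ q = c := by
      rw [mul_pow]
      linear_combination c * ha₁ - a₁ ^ q * hc
    rw [hcc] at h1
    obtain ⟨hc', h2⟩ := hτ c hc
    rw [h2]
    exact congrArg QuotientGroup.mk (SU_ext fun x => by rw [tvu_mulVec, tvu_mulVec, h1])
  -- the defect
  have hex : ∀ w : Vec, ∃ d : F, InW q e f w → ∀ (a : F) (s : SUn), Ok q e w a → IsHeis e s w a →
      ∃ s' : SUn, Ok q e w (a + d) ∧ IsHeis e s' w (a + d) ∧
        γ (QuotientGroup.mk s) = QuotientGroup.mk s' := by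
    intro w
    by_cases hw : InW q e f w
    swap
    · exact ⟨0, fun h => absurd h hw⟩
    obtain ⟨a₀, hok₀⟩ := exists_ok hF hw.1
    obtain ⟨s₀, b₀, hb₀, hs₀, h₀⟩ := (hS.rel w hw).2 a₀ _ hok₀ (isHeis_heisEl hF he hok₀)
    rw [hT w hw] at hb₀ hs₀
    refine ⟨b₀ - a₀, fun _ a s hok hs => ?_⟩
    have hc : a - a₀ + (a - a₀) ^ q = 0 := by
      rw [← HermStd.qHom_apply hF, map_sub, HermStd.qHom_apply, HermStd.qHom_apply]
      linear_combination hok.2 - hok₀.2
    have hew : H e w = 0 := (H_eq_zero_comm hF).1 hw.1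
    have hsplit : s = heisEl hF he hok₀ * tvu hF he hc := SU_ext fun x => by
      rw [hs x, mul_mulVec, tvu_mulVec, isHeis_heisEl hF he hok₀ _]
      simp only [H_add_left, H_smul_left, he, hew, mul_zero, add_zero]
      module
    refine ⟨s₀ * tvu hF he hc, ⟨hw.1, ?_⟩, fun x => ?_, ?_⟩
    · rw [show a + (b₀ - a₀) = b₀ + (a - a₀) by ring, HermStd.add_pow_q hF]
      linear_combination hb₀.2 + hc
    · rw [mul_mulVec, tvu_mulVec, hs₀ _]
      simp only [H_add_left, H_smul_left, he, hew, mul_zero, add_zero]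
      module
    · rw [hsplit, QuotientGroup.mk_mul, map_mul, h₀, htau, QuotientGroup.mk_mul]
  choose d hd using hex
  have heq : ∀ {w : Vec} {s t : SUn} {a b : F}, InW q e f w → Ok q e w a → Ok q e w b →
      IsHeis e s w a → IsHeis e t w b → (QuotientGroup.mk s : PSU n F q) = QuotientGroup.mk t → a = b :=
    fun {w s t a b} hw ha hb hs ht h => by
      have hst := mk_eq_heis hF p hn he ⟨_, _, ha, hs⟩ ⟨_, _, hb, ht⟩ h
      subst hst
      exact (heis_eq_of hF he hS.hef he0 hw hw hs ht).2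
  have hadd : ∀ w w', InW q e f w → InW q e f w' → d (w + w') = d w + d w' := by
    intro w w' hw hw'
    obtain ⟨a, hok⟩ := exists_ok hF hw.1
    obtain ⟨a', hok'⟩ := exists_ok hF hw'.1
    obtain ⟨s₁, h1, h2, h3⟩ := hd w hw a _ hok (isHeis_heisEl hF he hok)
    obtain ⟨t₁, k1, k2, k3⟩ := hd w' hw' a' _ hok' (isHeis_heisEl hF he hok')
    obtain ⟨u, m1, m2, m3⟩ := hd _ (hw.add hw') _ _ (Ok.add hF hok hok')
      ((isHeis_heisEl hF he hok).mul hF he hok.1 hok'.1 (isHeis_heisEl hF he hok'))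
    have h := heq (hw.add hw') m1 (Ok.add hF h1 k1) m2 (h2.mul hF he h1.1 k1.1 k2)
      (by rw [← m3, QuotientGroup.mk_mul, map_mul, h3, k3, QuotientGroup.mk_mul])
    linear_combination h
  suffices hall : ∀ w, InW q e f w → d w = 0 by
    intro s hs
    obtain ⟨w, a, hw, hok, hs⟩ := normal_heis hF he hS.hef hs
    obtain ⟨s', h1, h2, h3⟩ := hd w hw a s hok hs
    rw [hall w hw, add_zero] at h2
    rw [h3]
    exact congrArg QuotientGroup.mk (SU_ext fun x => by rw [hs x, h2 x])
  by_cases h3 : n = 3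
  · have hscale : ∀ (w : Vec) (l : F), InW q e f w → l ≠ 0 →
        d ((l ^ q * (l ^ q / l)) • w) = l ^ (q + 1) * d w := by
      intro w l hw hl
      obtain ⟨y, μ, hye, hyf, hyw⟩ := exists_torus_three hF hS hw₀ hww hl
      have hwdec : w = H w w₀ • w₀ := by
        refine sub_eq_zero.1 (eq_zero_three hF h3 he hS.hf hS.hef hwe hwf hww ?_ ?_ ?_) <;>
          simp [H_sub_left, H_smul_left, hw.1, hw.2, hwe, hwf, hww]
      have hyw' : l ^ q • (mat y *ᵥ w) = (l ^ q * (l ^ q / l)) • w := by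
        rw [hwdec, Matrix.mulVec_smul, smul_comm, hyw, smul_comm]
      obtain ⟨y', l', hy', hye', hl', hTy⟩ := intertwine hF p hn hS hye hyf
      have hmw : InW q e f (l ^ q • (mat y *ᵥ w)) := by rw [hyw']; exact hw.smul _
      have hw' : l' ^ q • (mat y' *ᵥ w) = l ^ q • (mat y *ᵥ w) := by
        have h1 := hTy w hw
        rw [hT _ hmw, hT w hw] at h1
        exact h1.symm
      have hN : l' ^ (q + 1) = l ^ (q + 1) := by
        obtain ⟨c, hc0, hc⟩ := exists_traceZero hF
        have hok : Ok q e (0 : Vec) c := ⟨H_zero_left e, by rw [H_zero_left, neg_zero, hc]⟩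
        have hst : IsHeis e (tvu hF he hc) (0 : Vec) c := fun x => by
          rw [tvu_mulVec, H_zero_right hF, zero_smul, sub_zero, zero_add, smul_smul, mul_comm]
        have a1 := conj_heis hF hye hl hst
        have a2 := conj_heis hF hye' hl' hst
        have b1 := ok_conj hF hye hok hl
        have b2 := ok_conj hF hye' hok hl'
        rw [Matrix.mulVec_zero, smul_zero] at a1 a2 b1 b2
        have h0 : InW q e f (0 : Vec) := ⟨H_zero_left e, H_zero_left f⟩
        have hc' : l ^ (q + 1) * c + (l ^ (q + 1) * c) ^ q = 0 := by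
          rw [b1.2, H_zero_left, neg_zero]
        have hcz : y * tvu hF he hc * y⁻¹ = tvu hF he hc' := SU_ext fun x => by
          rw [a1 x, tvu_mulVec, H_zero_right hF]; module
        have h := heq h0 b1 b2 a1 a2 (by
          have h5 : γ (QuotientGroup.mk (y * tvu hF he hc * y⁻¹)) =
              QuotientGroup.mk (y' * tvu hF he hc * y'⁻¹) := by
            simp only [QuotientGroup.mk_mul, QuotientGroup.mk_inv, map_mul, map_inv, hy', htau]
          rw [← h5, hcz, htau])
        exact (mul_right_cancel₀ hc0 h).symm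
      obtain ⟨a, hok⟩ := exists_ok hF hw.1
      obtain ⟨s₁, h1, h2, h3⟩ := hd w hw a _ hok (isHeis_heisEl hF he hok)
      obtain ⟨u, m1, m2, m3⟩ := hd _ hmw _ _ (ok_conj hF hye hok hl)
        (conj_heis hF hye hl (isHeis_heisEl hF he hok))
      have b1 := ok_conj hF hye' h1 hl'
      have a1 := conj_heis hF hye' hl' h2
      rw [hw'] at a1 b1
      have h := heq hmw m1 b1 m2 a1 (by
        rw [← m3]
        simp only [QuotientGroup.mk_mul, QuotientGroup.mk_inv, map_mul, map_inv, hy', h3])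
      rw [hN] at h
      rw [← hyw']
      linear_combination h
    have hzero : d 0 = 0 := by
      have h0 : InW q e f (0 : Vec) := ⟨H_zero_left e, H_zero_left f⟩
      have := hadd 0 0 h0 h0
      rw [add_zero] at this
      exact left_eq_add.1 this
    intro w hw
    have hκ : ∀ κ : F, κ ≠ 0 → κ ^ q = κ → ∀ w, InW q e f w → d (κ • w) = κ * κ * d w := by
      intro κ hκ0 hκ w hw
      have := hscale w κ hw hκ0
      rwa [hκ, div_self hκ0, mul_one, pow_succ, hκ] at this
    by_cases h2 : (2 : F) = 0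
    · obtain ⟨g, hg⟩ := IsCyclic.exists_generator (α := Fˣ)
      set l : F := (g : F) ^ (q - 1) with hl
      have hord : orderOf g = (q - 1) * (q + 1) := by
        rw [orderOf_eq_card_of_forall_mem_zpowers hg, natCard_units_F hF]
      have hl0 : l ≠ 0 := pow_ne_zero _ g.ne_zero
      have hlN : l ^ (q + 1) = 1 := by
        rw [hl, ← pow_mul, ← hord, ← Units.val_pow_eq_pow_val, pow_orderOf_eq_one, Units.val_one]
      set ζ := l ^ q * (l ^ q / l) with hζ
      have hlq : l ^ q = l⁻¹ := eq_inv_of_mul_eq_one_left (by rw [← pow_succ, hlN])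
      have hζ3 : ζ = (l ^ 3)⁻¹ := by rw [hζ, hlq]; field_simp
      have hζ1 : ζ ≠ 1 := fun h => by
        rw [hζ3, inv_eq_one, hl, ← pow_mul, ← Units.val_pow_eq_pow_val, Units.val_eq_one] at h
        have h4 := orderOf_dvd_of_pow_eq_one h
        rw [hord] at h4
        have h5 := Nat.le_of_dvd (by omega) (Nat.dvd_of_mul_dvd_mul_left (by omega) h4)
        exact h32 ⟨h3, by omega⟩
      have hζ0 : ζ ≠ 0 := by rw [hζ3]; exact inv_ne_zero (pow_ne_zero _ hl0)
      have hζq : ζ ^ q = ζ⁻¹ := by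
        rw [hζ3, inv_pow, ← pow_mul, mul_comm, pow_mul, hlq, inv_pow]
      have hs : ∀ w, InW q e f w → d (ζ • w) = d w ∧ d (ζ⁻¹ • w) = d w := fun w hw => by
        have h1 := hscale w l hw hl0
        rw [hlN, one_mul] at h1
        refine ⟨h1, ?_⟩
        have h4 := hscale (ζ⁻¹ • w) l (hw.smul _) hl0
        rw [hlN, one_mul, smul_smul, mul_inv_cancel₀ hζ0, one_smul] at h4
        exact h4.symm
      have hsum : d ((ζ + ζ⁻¹) • w) = 0 := by
        rw [add_smul, hadd _ _ (hw.smul _) (hw.smul _), (hs w hw).1, (hs w hw).2]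
        linear_combination (d w) * h2
      have hsfix : (ζ + ζ⁻¹) ^ q = ζ + ζ⁻¹ := by
        rw [HermStd.add_pow_q hF, inv_pow, hζq, inv_inv, add_comm]
      have hs0 : ζ + ζ⁻¹ ≠ 0 := fun h => by
        have h4 : (ζ + 1) * (ζ + 1) = 0 := by
          have h5 : ζ * ζ + 1 = 0 := by
            calc ζ * ζ + 1 = ζ * (ζ + ζ⁻¹) := by rw [mul_add, mul_inv_cancel₀ hζ0]
              _ = 0 := by rw [h, mul_zero]
          linear_combination h5 + ζ * h2
        exact hζ1 (by linear_combination mul_self_eq_zero.1 h4 - h2)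
      rw [hκ _ hs0 hsfix w hw] at hsum
      exact (mul_eq_zero.1 hsum).resolve_left (mul_ne_zero hs0 hs0)
    · have hfix2 : (2 : F) ^ q = 2 := by
        rw [← one_add_one_eq_two, HermStd.add_pow_q hF, one_pow]
      have h4 := hκ 2 h2 hfix2 w hw
      rw [two_smul, hadd w w hw hw] at h4
      have h5 : (2 : F) * d w = 0 := by linear_combination -h4
      exact (mul_eq_zero.1 h5).resolve_left h2
  have hiso : ∀ u, InW q e f u → H u u = 0 → d u = 0 := by
    intro u hu huu
    obtain ⟨-, s, s', hs, hs', h⟩ := iso_image hF hn hS hu huu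
    rw [hT u hu] at hs'
    have hok : Ok q e u 0 := ⟨hu.1, by rw [zero_pow (q_ne_zero hF), huu]; simp⟩
    obtain ⟨t, t1, t2, t3⟩ := hd u hu 0 s hok hs
    have := heq hu t1 hok t2 hs' (t3.symm.trans h)
    rwa [zero_add] at this
  let S : Submodule F Vec :=
    { carrier := {w | H w e = 0 ∧ ∀ x : F, d (x • prW q e f w) = 0}
      zero_mem' := ⟨H_zero_left e, fun x => by
        have h0 : InW q e f (0 : Vec) := ⟨H_zero_left e, H_zero_left f⟩
        have h1 := hiso 0 h0 (H_zero_left 0)
        simpa [prW, H_zero_left] using h1⟩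
      add_mem' := fun {a b} ⟨ha, ha'⟩ ⟨hb, hb'⟩ => ⟨by rw [H_add_left, ha, hb, add_zero], fun x => by
        have : prW q e f (a + b) = prW q e f a + prW q e f b := by
          simp only [prW, H_add_left]; module
        rw [this, smul_add, hadd _ _ ((prW_inW hF he hS.hf hS.hef a).smul x)
          ((prW_inW hF he hS.hf hS.hef b).smul x), ha', hb', add_zero]⟩
      smul_mem' := fun t a ⟨ha, ha'⟩ => ⟨by rw [H_smul_left, ha, mul_zero], fun x => by
        have : prW q e f (t • a) = t • prW q e f a := by simp only [prW, H_smul_left]; module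
        rw [this, smul_smul, ha']⟩ }
  intro w hw
  have hmem : w ∈ S := by
    refine exists_span hF hn he he0 S ⟨he, fun x => ?_⟩
      (fun s hs hse => ⟨hse, fun x => hiso _ ((prW_inW hF he hS.hf hS.hef s).smul x) ?_⟩)
      (fun h => absurd h h3) w hw.1
    · have h0 : InW q e f (0 : Vec) := ⟨H_zero_left e, H_zero_left f⟩
      have h1 := hiso 0 h0 (H_zero_left 0)
      simpa [prW, he, hS.hef] using h1
    · refine iso_smul hF ?_ x
      simp [prW, hse, H_sub_left, H_sub_right hF, H_smul_left, H_smul_right, hs, he,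
        (H_eq_zero_comm hF).1 hse]
  have := hmem.2 1
  rwa [one_smul, show prW q e f w = w by simp [prW, hw.1, hw.2]] at this

include p in
theorem eq_one_of_heis_fixed (hn : 3 ≤ n) {γ : MulAut (PSU n F q)} {e f : Vec} {T : Vec → Vec}
    (hS : Setup γ e f T)
    (hfix : ∀ s ∈ heisGroup hF hS.he, γ (QuotientGroup.mk s : PSU n F q) = QuotientGroup.mk s) :
    γ = 1 := by
  have hfe := hfe_of hF hS.hef
  have hoff : ∀ r : Vec, H r r = 0 → H r e ≠ 0 →
      (rootX r).map γ.toMonoidHom = rootX (q := q) r := by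
    intro r hr hre
    set c := H r e
    set r' := c⁻¹ • r
    have hr'e : H r' e = 1 := by rw [H_smul_left, inv_mul_cancel₀ hre]
    have her' : H e r' = 1 := hfe_of hF hr'e
    have hr'r : H r' r' = 0 := iso_smul hF hr _
    set w := prW q e f r'
    set a := H r' f
    have hw : InW q e f w := prW_inW hF hS.he hS.hf hS.hef r'
    have hdec : r' = f + w + a • e := by simp only [w, prW, hr'e, a]; module
    have hok : Ok q e w a := ⟨hw.1, by
      rw [hdec] at hr'r
      simp only [H_add_left, H_add_right hF, H_smul_left, H_smul_right, hS.hf, hfe, hS.hef, hS.he,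
        hw.1, hw.2, (H_eq_zero_comm hF).1 hw.1, (H_eq_zero_comm hF).1 hw.2] at hr'r
      linear_combination hr'r⟩
    have h1 := conj_rootX_image hF hS
      (hfix (heisEl hF hS.he hok) ⟨w, a, hok, isHeis_heisEl hF hS.he hok⟩)
    rw [heis_apply_f hF hS hw (isHeis_heisEl hF hS.he hok), ← hdec,
      rootX_smul hF (inv_ne_zero hre)] at h1
    exact h1
  have hpts : ∀ r : Vec, r ≠ 0 → H r r = 0 → (rootX r).map γ.toMonoidHom = rootX (q := q) r := by
    intro r hr0 hr
    by_cases hre : H r e = 0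
    swap
    · exact hoff r hr hre
    by_cases hpar : ∃ c : F, r = c • e
    · obtain ⟨c, rfl⟩ := hpar
      have hc : c ≠ 0 := fun h0 => hr0 (by rw [h0, zero_smul])
      rw [rootX_smul hF hc]
      exact hS.hβe
    push Not at hpar
    have her : H e r = 0 := (H_eq_zero_comm hF).1 hre
    obtain ⟨f', hf', hef', hrf'⟩ := exists_partner_perp hF (hS.he0 hF) hS.he her (fun c hc => by
      have hc0 : c ≠ 0 := fun h0 => hS.he0 hF (by rw [hc, h0, zero_smul])
      exact hpar c⁻¹ (by rw [hc, smul_smul, inv_mul_cancel₀ hc0, one_smul]))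
    have hf'e := hfe_of hF hef'
    have hf'r : H f' r = 0 := (H_eq_zero_comm hF).1 hrf'
    obtain ⟨r₁, hr₁0, hr₁, hr₁'⟩ := Centre.map_rootX hF p hn γ hr0 hr
    have hperp : ∀ z : Vec, H z z = 0 → H z e ≠ 0 → H z r = 0 → H z r₁ = 0 := fun z hz hze hzr =>
      image_perp hF hn (fun h0 => hze (by rw [h0, H_zero_left])) hr0 hz hr
        (fun h0 => hze (by rw [h0, H_zero_left])) hr₁0 hz hr₁ γ (hoff z hz hze) hr₁' hzr
    have hf'1 : H f' r₁ = 0 := hperp f' hf' (by rw [hf'e]; exact one_ne_zero) hf'r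
    have hline : ∀ w : Vec, InW q e f' w → H w r = 0 → H w r₁ = 0 ∧ H e r₁ = 0 := by
      intro w hw hwr
      obtain ⟨a, hok⟩ := exists_ok hF hw.1
      obtain ⟨d, hd0, hd⟩ := exists_traceZero hF
      have key : ∀ c : F, c + c ^ q = -H w w → H w r₁ + c * H e r₁ = 0 := fun c hc => by
        have := hperp (f' + w + c • e)
          (by simp only [H_add_left, H_add_right hF, H_smul_left, H_smul_right, hf', hf'e, hef', hS.he,
                hw.1, hw.2, (H_eq_zero_comm hF).1 hw.1, (H_eq_zero_comm hF).1 hw.2]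
              linear_combination hc)
          (by simp [H_add_left, H_smul_left, hf'e, hw.1, hS.he])
          (by simp [H_add_left, H_smul_left, hf'r, hwr, her])
        simpa [H_add_left, H_smul_left, hf'1] using this
      have k1 := key a hok.2
      have k2 := key (a + d) (by rw [HermStd.add_pow_q hF]; linear_combination hok.2 + hd)
      have he1 : H e r₁ = 0 := (mul_eq_zero.1 (show d * H e r₁ = 0 by linear_combination k2 - k1)).resolve_left hd0
      exact ⟨by rw [he1, mul_zero, add_zero] at k1; exact k1, he1⟩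
    obtain ⟨c, hc⟩ := eq_smul_of_perp hF hr hr0 (u := r₁) fun z hz => by
      have hw : InW q e f' (prW q e f' z) := prW_inW hF hS.he hf' hef' z
      have hwr : H (prW q e f' z) r = 0 := by
        simp [prW, H_sub_left, H_smul_left, her, hf'r, hz]
      obtain ⟨h1, h2⟩ := hline _ hw hwr
      rw [H_eq_zero_comm hF, show z = prW q e f' z + H z f' • e + H z e • f' by rw [prW]; module,
        H_add_left, H_add_left, H_smul_left, H_smul_left, h1, h2, hf'1]
      ring
    rw [hr₁', hc, rootX_smul hF (fun h0 => hr₁0 (by rw [hc, h0, zero_smul]))]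
  refine MulEquiv.ext fun x => ?_
  refine QuotientGroup.induction_on x fun s => ?_
  obtain ⟨s', hs'⟩ := QuotientGroup.mk_surjective (γ (QuotientGroup.mk s : PSU n F q))
  rw [← hs']
  change (QuotientGroup.mk s' : PSU n F q) = QuotientGroup.mk s
  refine (mk_eq_of_fixes hF hn s s' fun r hr0 hr => ?_).symm
  have h1 : (rootX (mat s *ᵥ r)).map γ.toMonoidHom = rootX (q := q) (mat s' *ᵥ r) := by
    rw [← map_rootX_conj hF s hr, ← map_rootX_conj hF s' hr, Subgroup.map_map]
    conv_rhs => rw [← hpts r hr0 hr, Subgroup.map_map]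
    congr 1
    refine MonoidHom.ext fun y => ?_
    change γ (QuotientGroup.mk s * y * (QuotientGroup.mk s)⁻¹) =
      (QuotientGroup.mk s' : PSU n F q) * γ y * (QuotientGroup.mk s')⁻¹
    rw [map_mul, map_mul, map_inv, hs']
  rw [hpts _ (mat_mulVec_ne_zero s hr0) (by rw [SU_H, hr]),
    rootX_eq_iff hF hn (mat_mulVec_ne_zero s hr0) (mat_mulVec_ne_zero s' hr0) (by rw [SU_H, hr])
      (by rw [SU_H, hr])] at h1
  obtain ⟨a, -, ha⟩ := h1
  exact ⟨a, ha⟩

include p in
theorem exists_normalise (hn : 3 ≤ n) (β : MulAut (PSU n F q)) {e f : Vec} (he : H e e = 0)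
    (hf : H f f = 0) (hef : H e f = 1) :
    ∃ k : SUn, (rootX e).map (MulAut.conj (QuotientGroup.mk k : PSU n F q) * β).toMonoidHom = rootX (q := q) e ∧
      (rootX f).map (MulAut.conj (QuotientGroup.mk k : PSU n F q) * β).toMonoidHom = rootX (q := q) f := by
  have he0 : e ≠ 0 := fun h0 => by rw [h0, H_zero_left] at hef; exact zero_ne_one hef
  have hf0 : f ≠ 0 := fun h0 => by rw [h0, H_zero_right hF] at hef; exact zero_ne_one hef
  obtain ⟨u, hu0, hu, hu'⟩ := Centre.map_rootX hF p hn β he0 he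
  obtain ⟨v, hv0, hv, hv'⟩ := Centre.map_rootX hF p hn β hf0 hf
  have huv : H u v ≠ 0 := fun h0 => by
    have hb : ∀ (x y : Vec), (rootX x).map β.toMonoidHom = rootX (q := q) y →
        (rootX y).map β⁻¹.toMonoidHom = rootX (q := q) x := fun x y h => by
      rw [← h, Subgroup.map_map]
      exact (congrArg (fun φ => (rootX x).map φ) (MonoidHom.ext fun z =>
        MulAut.inv_apply_self (PSU n F q) β z)).trans (Subgroup.map_id _)
    have := image_perp hF hn hu0 hv0 hu hv he0 hf0 he hf β⁻¹ (hb e u hu') (hb f v hv') h0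
    rw [hef] at this
    exact one_ne_zero this
  have hli : ∀ a b : Vec, H a a = 0 → H a b ≠ 0 → LinearIndependent F ![a, b] := fun a b ha hab => by
    have ha0 : a ≠ 0 := fun h0 => hab (by rw [h0, H_zero_left])
    rw [LinearIndependent.pair_iff' ha0]
    intro c hc
    exact hab (by rw [← hc, H_smul_right, ha, mul_zero])
  obtain ⟨k, a, b, hk, hk'⟩ := exists_su_pair hF hu hv he hf (hli u v hu huv)
    (hli e f he (by rw [hef]; exact one_ne_zero)) (by simp [huv, hef])
  refine ⟨k, ?_, ?_⟩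
  · rw [show (MulAut.conj (QuotientGroup.mk k : PSU n F q) * β).toMonoidHom =
      (MulAut.conj (QuotientGroup.mk k : PSU n F q)).toMonoidHom.comp β.toMonoidHom from rfl,
      ← Subgroup.map_map, hu', map_rootX_conj hF k hu, hk,
      rootX_smul hF (fun h0 => mat_mulVec_ne_zero k hu0 (by rw [hk, h0, zero_smul]))]
  · rw [show (MulAut.conj (QuotientGroup.mk k : PSU n F q) * β).toMonoidHom =
      (MulAut.conj (QuotientGroup.mk k : PSU n F q)).toMonoidHom.comp β.toMonoidHom from rfl,
      ← Subgroup.map_map, hv', map_rootX_conj hF k hv, hk',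
      rootX_smul hF (fun h0 => mat_mulVec_ne_zero k hv0 (by rw [hk', h0, zero_smul]))]

/-- The semilinear similitude matching `T`, scaled to an isometry. -/
theorem exists_model {β : MulAut (PSU n F q)} {e f : Vec} {T : Vec → Vec} (hS : Setup β e f T)
    {σ : F ≃+* F} {B : F} (hB0 : B ≠ 0) (hBq : B ^ q = B)
    (hadd : ∀ w w', InW q e f w → InW q e f w' → T (w + w') = T w + T w')
    (hT : ∀ (x : F) (w : Vec), InW q e f w → T (x • w) = σ x • T w)
    (hform : ∀ w w' : Vec, InW q e f w → InW q e f w' → H (T w) (T w') = B * σ (H w w')) :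
    ∃ (g : GUn) (κ : F), κ ≠ 0 ∧ ∀ z : Vec, gmat g *ᵥ (fun i => σ (z i)) =
      κ • ((B * σ (H z f)) • e + σ (H z e) • f + T (prW q e f z)) := by
  have hW := prW_inW hF hS.he hS.hf hS.hef
  have hfe := hfe_of hF hS.hef
  obtain ⟨κ, hκ⟩ := UnitaryCount.exists_norm_eq hF (μ := B⁻¹) (inv_ne_zero hB0) (by rw [inv_pow, hBq])
  have hκ0 : κ ≠ 0 := fun h0 => inv_ne_zero hB0 (by rw [← hκ, h0, zero_pow (by omega)])
  let G : Vec → Vec := fun z => κ • ((B * σ (H z f)) • e + σ (H z e) • f + T (prW q e f z))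
  have hGadd : ∀ x y, G (x + y) = G x + G y := fun x y => by
    have : prW q e f (x + y) = prW q e f x + prW q e f y := by simp only [prW, H_add_left]; module
    simp only [G, H_add_left, map_add, this, hadd _ _ (hW x) (hW y)]
    module
  have hGsmul : ∀ (c : F) (x : Vec), G (c • x) = σ c • G x := fun c x => by
    have : prW q e f (c • x) = c • prW q e f x := by simp only [prW, H_smul_left]; module
    simp only [G, H_smul_left, map_mul, this, hT c _ (hW x)]
    module
  have hGH : ∀ x y, H (G x) (G y) = σ (H x y) := fun x y => by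
    have hxy : H x y = H x f * H y e ^ q + H x e * H y f ^ q + H (prW q e f x) (prW q e f y) := by
      conv_lhs => rw [show x = prW q e f x + H x f • e + H x e • f by rw [prW]; module,
        show y = prW q e f y + H y f • e + H y e • f by rw [prW]; module]
      simp only [H_add_left, H_add_right hF, H_smul_left, H_smul_right, hS.he, hS.hf, hS.hef, hfe,
        (hW x).1, (hW x).2, (H_eq_zero_comm hF).1 (hW y).1, (H_eq_zero_comm hF).1 (hW y).2]
      ring
    have hx' := (hS.rel _ (hW x)).1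
    have hy' := (hS.rel _ (hW y)).1
    simp only [G, H_smul_left, H_smul_right, H_add_left, H_add_right hF, hS.he, hS.hf, hS.hef, hfe,
      hx'.1, hx'.2, (H_eq_zero_comm hF).1 hy'.1, (H_eq_zero_comm hF).1 hy'.2, hform _ _ (hW x) (hW y),
      mul_pow, hBq, hxy, map_add, map_mul, map_pow]
    have hκB : κ ^ q * κ * B = 1 := by rw [← pow_succ, hκ, inv_mul_cancel₀ hB0]
    linear_combination (σ (H x f) * σ (H y e) ^ q + σ (H x e) * σ (H y f) ^ q +
      σ (H (prW q e f x) (prW q e f y))) * hκB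
  let L : Vec →ₗ[F] Vec :=
    { toFun := fun z => G fun i => σ.symm (z i)
      map_add' := fun x y => by
        rw [← hGadd]
        congr 1
        funext i
        simp
      map_smul' := fun c x => by
        rw [RingHom.id_apply, show c = σ (σ.symm c) from (σ.apply_symm_apply c).symm, ← hGsmul]
        congr 1
        funext i
        simp }
  have hM : ∀ z, LinearMap.toMatrix' L *ᵥ z = L z := fun z => by
    rw [← Matrix.toLin'_apply, Matrix.toLin'_toMatrix']
  refine ⟨guMk hF (LinearMap.toMatrix' L) fun x y => ?_, κ, hκ0, fun z => ?_⟩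
  · rw [hM, hM]
    change H (G _) (G _) = _
    rw [hGH, ← hermForm_map]
    congr 1 <;> funext i <;> simp
  · change LinearMap.toMatrix' L *ᵥ _ = G z
    rw [hM]
    change G _ = G z
    congr 1
    funext i
    simp

include p in
theorem exists_decomp (hn : 3 ≤ n) (h32 : ¬ (n = 3 ∧ q = 2)) (β : MulAut (PSU n F q)) :
    ∃ (g : GUn) (σ : F ≃+* F), β = gAut g * fAut σ := by
  obtain ⟨e, f, he0, he, hf, hef⟩ := exists_hyperbolic hF hn
  have hfe := hfe_of hF hef
  obtain ⟨k, hke, hkf⟩ := exists_normalise hF p hn β he hf hef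
  set β₁ := MulAut.conj (QuotientGroup.mk k : PSU n F q) * β with hβ₁
  suffices h : ∃ (g : GUn) (σ : F ≃+* F), β₁ = gAut g * fAut σ by
    obtain ⟨g, σ, h⟩ := h
    refine ⟨(suToGU k)⁻¹ * g, σ, ?_⟩
    rw [map_mul, map_inv, ← conj_mk_eq_gAut, mul_assoc, ← h, hβ₁, inv_mul_cancel_left]
  obtain ⟨T, hT⟩ := exists_rel hF p hn he hef he0 β₁ hke
  have hS : Setup β₁ e f T := ⟨he, hf, hef, hke, hkf, hT⟩
  obtain ⟨σ, B, hB0, hBq, hTs, hform⟩ := exists_similitude hF p hn h32 hS
  obtain ⟨g, κ, hκ0, hg⟩ := exists_model hF hS hB0 hBq (fun w w' => T_add hF p hn hS) hTs hform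
  refine ⟨g, σ, ?_⟩
  set δ : MulAut (PSU n F q) := gAut g * fAut σ with hδ
  have hprW : ∀ v, InW q e f v → prW q e f v = v := fun v hv => by simp [prW, hv.1, hv.2]
  have hpre : prW q e f e = 0 := by simp [prW, he, hef]
  have hprf : prW q e f f = 0 := by simp [prW, hf, hfe]
  have hge : gmat g *ᵥ (fun i => σ (e i)) = (κ * B) • e := by
    rw [hg, hpre, T_zero hF p hn hS, hef, he, map_one, map_zero]; module
  have hgf : gmat g *ᵥ (fun i => σ (f i)) = κ • f := by
    rw [hg, hprf, T_zero hF p hn hS, hf, hfe, map_one, map_zero]; module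
  have hδe : (rootX e).map δ.toMonoidHom = rootX (q := q) e := by
    rw [hδ, map_rootX_decomp hF g σ he, hge, rootX_smul hF (mul_ne_zero hκ0 hB0)]
  have hδf : (rootX f).map δ.toMonoidHom = rootX (q := q) f := by
    rw [hδ, map_rootX_decomp hF g σ hf, hgf, rootX_smul hF hκ0]
  have hδQ : ∀ (w : Vec) (a : F), InW q e f w → ∀ s : SUn, IsHeis e s w a →
      ∃ s' : SUn, IsHeis e s' (T w) (B * σ a) ∧ δ (QuotientGroup.mk s) = QuotientGroup.mk s' := by
    intro w a hw s hs
    refine ⟨conjEl g (fieldEl σ s), fun y => ?_, rfl⟩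
    obtain ⟨z, rfl⟩ : ∃ z : Vec, gmat g *ᵥ (fun i => σ (z i)) = y := by
      refine ⟨fun i => σ.symm ((gmat g⁻¹ *ᵥ y) i), ?_⟩
      simp only [RingEquiv.apply_symm_apply]
      rw [Matrix.mulVec_mulVec, gmat_mul_inv, Matrix.one_mulVec]
    rw [mat_conjEl, mat_fieldEl, ← Matrix.mulVec_mulVec, ginv_mulVec g rfl, ← Matrix.mulVec_mulVec,
      map_mulVec_field, hs z, hg, hg]
    have hW := prW_inW hF he hf hef
    have e1 : prW q e f (z + H z e • (w + a • e) - H z w • e) = prW q e f z + H z e • w := by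
      simp only [prW, H_add_left, H_sub_left, H_smul_left, hw.1, hw.2, he, hef]
      module
    have e2 : H (z + H z e • (w + a • e) - H z w • e) f = H z f + H z e * a - H z w := by
      simp only [H_add_left, H_sub_left, H_smul_left, hw.2, hef]; ring
    have e3 : H (z + H z e • (w + a • e) - H z w • e) e = H z e := by
      simp only [H_add_left, H_sub_left, H_smul_left, hw.1, he]; ring
    have hTw := (hS.rel w hw).1
    have hTz := (hS.rel _ (hW z)).1
    rw [e1, e2, e3, T_add hF p hn hS (hW z) (hw.smul _), hTs _ w hw]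
    simp only [H_smul_left, H_add_left, he, hfe, hTz.1, (H_eq_zero_comm hF).1 hTw.1,
      (H_eq_zero_comm hF).1 hTw.2, hform _ _ (hW z) hw, H_prW hF hw z, map_add, map_sub, map_mul]
    module
  have hδe' : (rootX e).map (δ⁻¹ * β₁).toMonoidHom = rootX (q := q) e := by
    rw [show (δ⁻¹ * β₁).toMonoidHom = δ⁻¹.toMonoidHom.comp β₁.toMonoidHom from rfl, ← Subgroup.map_map,
      hke]
    conv_lhs => rw [← hδe, Subgroup.map_map]
    exact (congrArg (fun φ => (rootX e).map φ) (MonoidHom.ext fun y =>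
      MulAut.inv_apply_self (PSU n F q) δ y)).trans (Subgroup.map_id _)
  have hδf' : (rootX f).map (δ⁻¹ * β₁).toMonoidHom = rootX (q := q) f := by
    rw [show (δ⁻¹ * β₁).toMonoidHom = δ⁻¹.toMonoidHom.comp β₁.toMonoidHom from rfl, ← Subgroup.map_map,
      hkf]
    conv_lhs => rw [← hδf, Subgroup.map_map]
    exact (congrArg (fun φ => (rootX f).map φ) (MonoidHom.ext fun y =>
      MulAut.inv_apply_self (PSU n F q) δ y)).trans (Subgroup.map_id _)
  have hrel : Rel (δ⁻¹ * β₁) e f (fun w => w) := by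
    intro w hw
    refine ⟨hw, fun a s hok hs => ?_⟩
    obtain ⟨s', a', hok', hs', h⟩ := (hS.rel w hw).2 a s hok hs
    have hok'' : Ok q e w (σ.symm (a' / B)) := ⟨hw.1, σ.injective (by
      rw [map_add, map_pow, σ.apply_symm_apply, map_neg, div_pow, hBq, ← add_div, hok'.2,
        hform w w hw hw, neg_div, mul_div_cancel_left₀ _ hB0])⟩
    refine ⟨heisEl hF he hok'', _, hok'', isHeis_heisEl hF he hok'', ?_⟩
    obtain ⟨t, ht, htδ⟩ := hδQ w _ hw _ (isHeis_heisEl hF he hok'')
    rw [σ.apply_symm_apply, mul_div_cancel₀ _ hB0] at ht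
    have hts : t = s' := SU_ext fun x => by rw [ht x, hs' x]
    rw [hts] at htδ
    rw [MulAut.mul_apply, h, ← htδ, MulAut.inv_apply_self]
  have hS' : Setup (δ⁻¹ * β₁) e f (fun w => w) := ⟨he, hf, hef, hδe', hδf', hrel⟩
  exact (inv_mul_eq_one.1 (eq_one_of_heis_fixed hF p hn hS'
    (heis_fixed hF p hn h32 hS' fun _ _ => rfl))).symm

include p in
theorem range_normal (hn : 3 ≤ n) (h32 : ¬ (n = 3 ∧ q = 2)) :
    (gAut (n := n) (F := F) (q := q)).range.Normal := by
  refine ⟨fun x hx β => ?_⟩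
  obtain ⟨h, rfl⟩ := hx
  obtain ⟨g, σ, rfl⟩ := exists_decomp hF p hn h32 β
  refine ⟨g * fieldGU σ h * g⁻¹, ?_⟩
  have key : (fAut σ : MulAut (PSU n F q)) * gAut h * (fAut σ)⁻¹ = gAut (fieldGU σ h) := by
    rw [fAut_mul_gAut, mul_inv_cancel_right]
  rw [map_mul, map_mul, map_inv, ← key]
  group

end Cfsg.Agent.AutPSU.Main
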