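import Cfsg.Agent.Lib.AutPSU.Radical

/-!
# The action of a normalised automorphism on a Heisenberg group is a semilinear similitude
-/

set_option autoImplicit false
set_option linter.unusedSectionVars false

namespace Cfsg.Agent.AutPSU.Semilinear

open Matrix Cfsg.Agent.Classical Cfsg.Agent.Classical.Unitary Cfsg.Agent.Forms
  Cfsg.Agent.AutPSU.Basic Cfsg.Agent.AutPSU.Centre Cfsg.Agent.AutPSU.Radical

universe u

variable {F : Type u} [Field F] [Fintype F] {q n : ℕ} (hF : Fintype.card F = q ^ 2)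

local notation "Vec" => (Fin n → F)
local notation "Mat" => Matrix (Fin n) (Fin n) F
local notation "SUn" => Cfsg.SU n F q
local notation "H" => Cfsg.hermForm n F q

/-- The vectors orthogonal to both `e` and `f`. -/
def InW (q : ℕ) (e f w : Fin n → F) : Prop :=
  Cfsg.hermForm n F q w e = 0 ∧ Cfsg.hermForm n F q w f = 0

/-- The projection to `InW`. -/
def prW (q : ℕ) (e f x : Fin n → F) : Fin n → F :=
  x - Cfsg.hermForm n F q x f • e - Cfsg.hermForm n F q x e • f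

/-- `T` describes the action of `β` on the Heisenberg group. -/
def Rel (β : MulAut (PSU n F q)) (e f : Vec) (T : Vec → Vec) : Prop :=
  ∀ w : Vec, InW q e f w → InW q e f (T w) ∧ ∀ (a : F) (s : SUn), Ok q e w a → IsHeis e s w a →
    ∃ (s' : SUn) (a' : F), Ok q e (T w) a' ∧ IsHeis e s' (T w) a' ∧
      β (QuotientGroup.mk s) = QuotientGroup.mk s'

/-- A normalised automorphism together with its map on the Heisenberg group. -/
structure Setup (β : MulAut (PSU n F q)) (e f : Vec) (T : Vec → Vec) : Prop where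
  he : H e e = 0
  hf : H f f = 0
  hef : H e f = 1
  hβe : (rootX e).map β.toMonoidHom = rootX (q := q) e
  hβf : (rootX f).map β.toMonoidHom = rootX (q := q) f
  rel : Rel β e f T

theorem InW.add {e f w w' : Vec} (h : InW q e f w) (h' : InW q e f w') : InW q e f (w + w') :=
  ⟨by rw [H_add_left, h.1, h'.1, add_zero], by rw [H_add_left, h.2, h'.2, add_zero]⟩

theorem InW.smul {e f w : Vec} (h : InW q e f w) (a : F) : InW q e f (a • w) :=
  ⟨by rw [H_smul_left, h.1, mul_zero], by rw [H_smul_left, h.2, mul_zero]⟩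

include hF

theorem Setup.he0 {β : MulAut (PSU n F q)} {e f : Vec} {T : Vec → Vec} (hS : Setup β e f T) : e ≠ 0 :=
  fun h0 => by
    have := hS.hef
    rw [h0, H_zero_left] at this
    exact zero_ne_one this

theorem hfe_of {e f : Vec} (hef : H e f = 1) : H f e = 1 := by rw [← H_conj hF, hef, one_pow]

theorem prW_inW {e f : Vec} (he : H e e = 0) (hf : H f f = 0) (hef : H e f = 1) (x : Vec) :
    InW q e f (prW q e f x) := by
  have hfe := hfe_of hF hef
  constructor <;> simp [prW, H_sub_left, H_smul_left, he, hf, hef, hfe]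

theorem H_prW {e f w : Vec} (hw : InW q e f w) (x : Vec) : H (prW q e f x) w = H x w := by
  simp [prW, H_sub_left, H_smul_left, (H_eq_zero_comm hF).1 hw.1, (H_eq_zero_comm hF).1 hw.2]

theorem normal_heis {e f : Vec} (he : H e e = 0) (hef : H e f = 1) {s : SUn}
    (hs : s ∈ heisGroup hF he) : ∃ w a, InW q e f w ∧ Ok q e w a ∧ IsHeis e s w a := by
  obtain ⟨w, a, hok, hs⟩ := hs
  set c := H w f
  have hew : H e w = 0 := (H_eq_zero_comm hF).1 hok.1
  refine ⟨w - c • e, a + c - c ^ q, ⟨?_, ?_⟩, ⟨?_, ?_⟩, fun x => ?_⟩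
  · simp [H_sub_left, H_smul_left, hok.1, he]
  · simp [H_sub_left, H_smul_left, hef, c]
  · simp [H_sub_left, H_smul_left, hok.1, he]
  · rw [← HermStd.qHom_apply hF (a + c - c ^ q), map_sub, map_add, HermStd.qHom_apply, HermStd.qHom_apply,
      HermStd.qHom_apply, pow_qq hF]
    simp only [H_sub_left, H_sub_right hF, H_smul_left, H_smul_right, hok.1, hew, he]
    linear_combination hok.2
  · rw [hs x, H_sub_right hF, H_smul_right]
    module

theorem heis_eq_of {e f : Vec} (he : H e e = 0) (hef : H e f = 1) (he0 : e ≠ 0) {s : SUn}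
    {w w' : Vec} {a a' : F} (hw : InW q e f w) (hw' : InW q e f w') (hs : IsHeis e s w a)
    (hs' : IsHeis e s w' a') : w = w' ∧ a = a' := by
  obtain ⟨⟨c, hc⟩, h2⟩ := hs.unique hF he he0 hs'
  have h1 := hw'.2
  rw [hc, H_add_left, H_smul_left, hw.2, hef, zero_add, mul_one] at h1
  have hww : w = w' := by rw [hc, h1, zero_smul, add_zero]
  exact ⟨hww, h2 hww⟩

theorem tvu_coef {e : Vec} (he : H e e = 0) (he0 : e ≠ 0) {c d : F} (hc : c + c ^ q = 0)
    (hd : d + d ^ q = 0) (h : tvu hF he hc = tvu hF he hd) : c = d := by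
  obtain ⟨y, -, hy⟩ := exists_partner hF he0 he
  have hye := hfe_of hF hy
  have h1 := congrArg (fun t : SUn => mat t *ᵥ y) h
  simp only [tvu_mulVec, hye, mul_one] at h1
  have h2 := add_left_cancel h1
  exact smul_left_injective F he0 h2

theorem tau_unique (hn : 3 ≤ n) {e : Vec} (he : H e e = 0) (he0 : e ≠ 0) {c d : F}
    (hc : c + c ^ q = 0) (hd : d + d ^ q = 0)
    (h : (QuotientGroup.mk (tvu hF he hc) : PSU n F q) = QuotientGroup.mk (tvu hF he hd)) : c = d :=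
  tvu_coef hF he he0 hc hd (tvu_inj hF hn he he hc hd h)

theorem commutator_heis {e w w' : Vec} (he : H e e = 0) {a a' : F} {s t : SUn}
    (hok : Ok q e w a) (hok' : Ok q e w' a') (hs : IsHeis e s w a) (ht : IsHeis e t w' a') :
    ∃ hc : (H w w' - H w' w) + (H w w' - H w' w) ^ q = 0, s * t = t * s * tvu hF he hc := by
  have hc : (H w w' - H w' w) + (H w w' - H w' w) ^ q = 0 := by
    rw [← HermStd.qHom_apply hF, map_sub, HermStd.qHom_apply, HermStd.qHom_apply, H_conj hF, H_conj hF]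
    ring
  refine ⟨hc, SU_ext fun x => ?_⟩
  rw [hs.mul hF he hok.1 hok'.1 ht x, mul_mulVec, tvu_mulVec,
    ht.mul hF he hok'.1 hok.1 hs (x + _)]
  have hew : H e w = 0 := (H_eq_zero_comm hF).1 hok.1
  have hew' : H e w' = 0 := (H_eq_zero_comm hF).1 hok'.1
  simp only [H_add_left, H_smul_left, he, H_add_right hF, hew, hew', mul_zero, add_zero]
  module

variable (p : ℕ) [Fact p.Prime] [CharP F p]

include p in
theorem mk_eq_heis (hn : 3 ≤ n) {e : Vec} (he : H e e = 0) {s t : SUn} (hs : s ∈ heisGroup hF he)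
    (ht : t ∈ heisGroup hF he) (h : (QuotientGroup.mk s : PSU n F q) = QuotientGroup.mk t) : s = t :=
  mk_inj_pow hF p (by omega) (heis_pow hF p he hs) (heis_pow hF p he ht) h

include p in
theorem exists_rel (hn : 3 ≤ n) {e f : Vec} (he : H e e = 0) (hef : H e f = 1) (he0 : e ≠ 0)
    (β : MulAut (PSU n F q)) (hβ : (rootX e).map β.toMonoidHom = rootX (q := q) e) :
    ∃ T : Vec → Vec, Rel β e f T := by
  have hex : ∀ w : Vec, ∃ w' : Vec, InW q e f w → InW q e f w' ∧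
      ∀ (a : F) (s : SUn), Ok q e w a → IsHeis e s w a →
        ∃ (s' : SUn) (a' : F), Ok q e w' a' ∧ IsHeis e s' w' a' ∧
          β (QuotientGroup.mk s) = QuotientGroup.mk s' := by
    intro w
    by_cases hw : InW q e f w
    swap
    · exact ⟨0, fun h => absurd h hw⟩
    obtain ⟨a₀, hok₀⟩ := exists_ok hF hw.1
    obtain ⟨h', hh', hβh⟩ := map_heis hF p hn he he0 β hβ
      (h := heisEl hF he hok₀) ⟨w, a₀, hok₀, isHeis_heisEl hF he hok₀⟩
    obtain ⟨w', a', hw', hok', hh''⟩ := normal_heis hF he hef hh'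
    refine ⟨w', fun _ => ⟨hw', fun a s hok hs => ?_⟩⟩
    have hc : a - a₀ + (a - a₀) ^ q = 0 := by
      rw [← HermStd.qHom_apply hF, map_sub, HermStd.qHom_apply, HermStd.qHom_apply]
      linear_combination hok.2 - hok₀.2
    have hsplit : s = heisEl hF he hok₀ * tvu hF he hc := SU_ext fun x => by
      have hew : H e w = 0 := (H_eq_zero_comm hF).1 hw.1
      rw [hs x, mul_mulVec, tvu_mulVec, isHeis_heisEl hF he hok₀ _]
      simp only [H_add_left, H_smul_left, he, hew, mul_zero, add_zero]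
      module
    have hmem : β (QuotientGroup.mk (tvu hF he hc)) ∈ rootX (q := q) e := by
      rw [← hβ]
      exact ⟨_, (mem_rootX hF he).2 ⟨_, hc, rfl⟩, rfl⟩
    obtain ⟨d, hd, hd'⟩ := (mem_rootX hF he).1 hmem
    refine ⟨h' * tvu hF he hd, a' + d, ⟨hw'.1, ?_⟩, fun x => ?_, ?_⟩
    · rw [HermStd.add_pow_q hF]
      linear_combination hok'.2 + hd
    · have hew' : H e w' = 0 := (H_eq_zero_comm hF).1 hw'.1
      rw [mul_mulVec, tvu_mulVec, hh'' _]
      simp only [H_add_left, H_smul_left, he, hew', mul_zero, add_zero]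
      module
    · rw [hsplit, QuotientGroup.mk_mul, map_mul, hβh, ← hd', QuotientGroup.mk_mul]
  choose T hT using hex
  exact ⟨T, fun w hw => hT w hw⟩

variable {β : MulAut (PSU n F q)} {e f : Fin n → F} {T : (Fin n → F) → Fin n → F}

include p in
theorem image_eq (hn : 3 ≤ n) (hS : Setup β e f T) {s s' : SUn} {w w' : Vec} {a a' : F}
    (hw : InW q e f w) (hok : Ok q e w a) (hs : IsHeis e s w a) (hw' : InW q e f w')
    (hok' : Ok q e w' a') (hs' : IsHeis e s' w' a')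
    (h : β (QuotientGroup.mk s) = QuotientGroup.mk s') : T w = w' := by
  obtain ⟨hTw, hT⟩ := hS.rel w hw
  obtain ⟨t, b, hb, ht, hβt⟩ := hT a s hok hs
  have := mk_eq_heis hF p hn hS.he ⟨_, _, hb, ht⟩ ⟨_, _, hok', hs'⟩ (hβt.symm.trans h)
  subst this
  exact (heis_eq_of hF hS.he hS.hef (hS.he0 hF) hTw hw' ht hs').1

include p in
theorem T_add (hn : 3 ≤ n) (hS : Setup β e f T) {w w' : Vec} (hw : InW q e f w) (hw' : InW q e f w') :
    T (w + w') = T w + T w' := by
  obtain ⟨a, hok⟩ := exists_ok hF hw.1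
  obtain ⟨a', hok'⟩ := exists_ok hF hw'.1
  have hs := isHeis_heisEl hF hS.he hok
  have ht := isHeis_heisEl hF hS.he hok'
  obtain ⟨hTw, hT⟩ := hS.rel w hw
  obtain ⟨hTw', hT'⟩ := hS.rel w' hw'
  obtain ⟨s₁, b, hb, hs₁, e₁⟩ := hT a _ hok hs
  obtain ⟨t₁, b', hb', ht₁, e₂⟩ := hT' a' _ hok' ht
  exact image_eq hF p hn hS (hw.add hw') (Ok.add hF hok hok') (hs.mul hF hS.he hok.1 hok'.1 ht)
    (hTw.add hTw') (Ok.add hF hb hb') (hs₁.mul hF hS.he hb.1 hb'.1 ht₁)
    (by rw [QuotientGroup.mk_mul, map_mul, e₁, e₂, QuotientGroup.mk_mul])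

include p in
theorem T_zero (hn : 3 ≤ n) (hS : Setup β e f T) : T 0 = 0 := by
  have h0 : InW q e f (0 : Vec) := ⟨H_zero_left e, H_zero_left f⟩
  have := T_add hF p hn hS h0 h0
  rw [add_zero] at this
  exact left_eq_add.1 this

include p in
theorem exists_inverse (hn : 3 ≤ n) (hS : Setup β e f T) :
    ∃ T' : Vec → Vec, Setup β⁻¹ e f T' ∧ ∀ w, InW q e f w → T' (T w) = w ∧ T (T' w) = w := by
  have hback : ∀ v : Vec, (rootX v).map β.toMonoidHom = rootX (q := q) v →
      (rootX v).map β⁻¹.toMonoidHom = rootX (q := q) v := fun v hv => by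
    conv_lhs => rw [← hv]
    rw [Subgroup.map_map]
    exact (congrArg (fun φ => (rootX v).map φ) (MonoidHom.ext fun x =>
      MulAut.inv_apply_self (PSU n F q) β x)).trans (Subgroup.map_id _)
  obtain ⟨T', hT'⟩ := exists_rel hF p hn hS.he hS.hef (hS.he0 hF) β⁻¹ (hback _ hS.hβe)
  have hS' : Setup β⁻¹ e f T' := ⟨hS.he, hS.hf, hS.hef, hback _ hS.hβe, hback _ hS.hβf, hT'⟩
  refine ⟨T', hS', fun w hw => ?_⟩
  obtain ⟨a, hok⟩ := exists_ok hF hw.1
  have hs := isHeis_heisEl hF hS.he hok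
  constructor
  · obtain ⟨hTw, hT⟩ := hS.rel w hw
    obtain ⟨s', a', hok', hs', h⟩ := hT a _ hok hs
    exact image_eq hF p hn hS' hTw hok' hs' hw hok hs (by rw [← h, MulAut.inv_apply_self])
  · obtain ⟨hTw, hT⟩ := hT' w hw
    obtain ⟨s', a', hok', hs', h⟩ := hT a _ hok hs
    exact image_eq hF p hn hS hTw hok' hs' hw hok hs (by rw [← h, MulAut.apply_inv_self])

theorem exists_tau (hS : Setup β e f T) :
    ∃ τ : F → F, ∀ (c : F) (hc : c + c ^ q = 0), ∃ hc' : τ c + τ c ^ q = 0,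
      β (QuotientGroup.mk (tvu hF hS.he hc)) = QuotientGroup.mk (tvu hF hS.he hc') := by
  have hex : ∀ c : F, ∃ d : F, ∀ hc : c + c ^ q = 0, ∃ hd : d + d ^ q = 0,
      β (QuotientGroup.mk (tvu hF hS.he hc)) = QuotientGroup.mk (tvu hF hS.he hd) := by
    intro c
    by_cases hc : c + c ^ q = 0
    · have hmem : β (QuotientGroup.mk (tvu hF hS.he hc)) ∈ rootX (q := q) e := by
        rw [← hS.hβe]
        exact ⟨_, (mem_rootX hF hS.he).2 ⟨c, hc, rfl⟩, rfl⟩
      obtain ⟨d, hd, h⟩ := (mem_rootX hF hS.he).1 hmem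
      exact ⟨d, fun _ => ⟨hd, h.symm⟩⟩
    · exact ⟨0, fun h => absurd h hc⟩
  choose τ hτ using hex
  exact ⟨τ, hτ⟩

include p in
theorem pairing (hn : 3 ≤ n) (hS : Setup β e f T) {τ : F → F}
    (hτ : ∀ (c : F) (hc : c + c ^ q = 0), ∃ hc' : τ c + τ c ^ q = 0,
      β (QuotientGroup.mk (tvu hF hS.he hc)) = QuotientGroup.mk (tvu hF hS.he hc'))
    {w w' : Vec} (hw : InW q e f w) (hw' : InW q e f w') :
    τ (H w w' - H w' w) = H (T w) (T w') - H (T w') (T w) := by
  obtain ⟨a, hok⟩ := exists_ok hF hw.1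
  obtain ⟨a', hok'⟩ := exists_ok hF hw'.1
  obtain ⟨hc, h1⟩ := commutator_heis hF hS.he hok hok' (isHeis_heisEl hF hS.he hok)
    (isHeis_heisEl hF hS.he hok')
  obtain ⟨s₁, b, hb, hs₁, e₁⟩ := (hS.rel w hw).2 a _ hok (isHeis_heisEl hF hS.he hok)
  obtain ⟨t₁, b', hb', ht₁, e₂⟩ := (hS.rel w' hw').2 a' _ hok' (isHeis_heisEl hF hS.he hok')
  obtain ⟨hc₁, h2⟩ := commutator_heis hF hS.he hb hb' hs₁ ht₁
  obtain ⟨hd, h3⟩ := hτ _ hc
  refine tau_unique hF hn hS.he (hS.he0 hF) hd hc₁ ?_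
  have h4 := congrArg (fun s : SUn => β (QuotientGroup.mk s : PSU n F q)) h1
  simp only [QuotientGroup.mk_mul, map_mul, e₁, e₂, h3] at h4
  rw [← QuotientGroup.mk_mul _ s₁ t₁, h2] at h4
  simp only [QuotientGroup.mk_mul] at h4
  exact (mul_left_cancel h4).symm

theorem heis_apply_f (hS : Setup β e f T) {s : SUn} {w : Vec} {a : F} (hw : InW q e f w)
    (hs : IsHeis e s w a) : mat s *ᵥ f = f + w + a • e := by
  rw [hs f, hfe_of hF hS.hef, one_smul, (H_eq_zero_comm hF).1 hw.2, zero_smul, sub_zero, add_assoc]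

theorem conj_rootX_image (hS : Setup β e f T) {s s' : SUn}
    (h : β (QuotientGroup.mk s : PSU n F q) = QuotientGroup.mk s') :
    (rootX (mat s *ᵥ f)).map β.toMonoidHom = rootX (q := q) (mat s' *ᵥ f) := by
  rw [← map_rootX_conj hF s hS.hf, ← map_rootX_conj hF s' hS.hf, Subgroup.map_map]
  conv_rhs => rw [← hS.hβf, Subgroup.map_map]
  congr 1
  refine MonoidHom.ext fun x => ?_
  change β (QuotientGroup.mk s * x * (QuotientGroup.mk s)⁻¹) =
    (QuotientGroup.mk s' : PSU n F q) * β x * (QuotientGroup.mk s')⁻¹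
  rw [map_mul, map_mul, map_inv, h]

theorem image_perp (hn : 3 ≤ n) {u v u' v' : Vec} (hu0 : u ≠ 0) (hv0 : v ≠ 0) (hu : H u u = 0)
    (hv : H v v = 0) (hu0' : u' ≠ 0) (hv0' : v' ≠ 0) (hu' : H u' u' = 0) (hv' : H v' v' = 0)
    (β : MulAut (PSU n F q))
    (he1 : (rootX u).map β.toMonoidHom = rootX (q := q) u')
    (he2 : (rootX v).map β.toMonoidHom = rootX (q := q) v') (h : H u v = 0) : H u' v' = 0 := by
  refine (commute_rootX_iff hF hn hu0' hv0' hu' hv').1 fun x hx y hy => ?_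
  obtain ⟨x', hx', rfl⟩ := he1.symm ▸ hx
  obtain ⟨y', hy', rfl⟩ := he2.symm ▸ hy
  change β x' * β y' = β y' * β x'
  rw [← map_mul, ← map_mul, (commute_rootX_iff hF hn hu0 hv0 hu hv).2 h _ hx' _ hy']

theorem f_ne_zero (hS : Setup β e f T) : f ≠ 0 := fun h0 => by
  have := hS.hef
  rw [h0, H_zero_right hF] at this
  exact zero_ne_one this

theorem iso_image (hn : 3 ≤ n) (hS : Setup β e f T) {w : Vec} (hw : InW q e f w) (hww : H w w = 0) :
    H (T w) (T w) = 0 ∧ ∃ s s' : SUn, IsHeis e s w 0 ∧ IsHeis e s' (T w) 0 ∧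
      β (QuotientGroup.mk s) = QuotientGroup.mk s' := by
  have hok : Ok q e w 0 := ⟨hw.1, by rw [zero_pow (q_ne_zero hF), hww]; simp⟩
  obtain ⟨hTw, hT⟩ := hS.rel w hw
  obtain ⟨s', a', hok', hs', h⟩ := hT 0 _ hok (isHeis_heisEl hF hS.he hok)
  have ha : a' = 0 := by
    have h1 := image_perp hF hn (mat_mulVec_ne_zero _ (f_ne_zero hF hS)) (f_ne_zero hF hS)
      (by rw [SU_H, hS.hf]) hS.hf (mat_mulVec_ne_zero _ (f_ne_zero hF hS)) (f_ne_zero hF hS)
      (by rw [SU_H, hS.hf]) hS.hf β (conj_rootX_image hF hS h) hS.hβf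
      (by rw [heis_apply_f hF hS hw (isHeis_heisEl hF hS.he hok)]
          simp [H_add_left, hS.hf, hw.2])
    rw [heis_apply_f hF hS hTw hs'] at h1
    simpa [H_add_left, H_smul_left, hS.hf, hTw.2, hS.hef] using h1
  subst ha
  refine ⟨?_, _, s', isHeis_heisEl hF hS.he hok, hs', h⟩
  have h1 := hok'.2
  rw [zero_pow (q_ne_zero hF), add_zero, zero_eq_neg] at h1
  exact h1

theorem orth_image (hn : 3 ≤ n) (hS : Setup β e f T) {w w' : Vec} (hw : InW q e f w)
    (hw' : InW q e f w') (hww : H w w = 0) (hww' : H w' w' = 0) (h : H w w' = 0) :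
    H (T w) (T w') = 0 := by
  obtain ⟨-, s, s₁, hs, hs₁, e₁⟩ := iso_image hF hn hS hw hww
  obtain ⟨-, t, t₁, ht, ht₁, e₂⟩ := iso_image hF hn hS hw' hww'
  have h1 := image_perp hF hn (mat_mulVec_ne_zero _ (f_ne_zero hF hS))
    (mat_mulVec_ne_zero _ (f_ne_zero hF hS)) (by rw [SU_H, hS.hf]) (by rw [SU_H, hS.hf])
    (mat_mulVec_ne_zero _ (f_ne_zero hF hS)) (mat_mulVec_ne_zero _ (f_ne_zero hF hS))
    (by rw [SU_H, hS.hf]) (by rw [SU_H, hS.hf]) β (conj_rootX_image hF hS e₁) (conj_rootX_image hF hS e₂)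
    (by rw [heis_apply_f hF hS hw hs, heis_apply_f hF hS hw' ht]
        simp [H_add_left, H_add_right hF, hS.hf, hw.2, (H_eq_zero_comm hF).1 hw'.2, h])
  rw [heis_apply_f hF hS (hS.rel w hw).1 hs₁, heis_apply_f hF hS (hS.rel w' hw').1 ht₁] at h1
  simpa [H_add_left, H_add_right hF, hS.hf, (hS.rel w hw).1.2,
    (H_eq_zero_comm hF).1 (hS.rel w' hw').1.2] using h1

include p in
theorem line_image (hn : 3 ≤ n) (hS : Setup β e f T) {u : Vec} (hu : InW q e f u) (huu : H u u = 0)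
    (x : F) : ∃ c : F, T (x • u) = c • T u := by
  obtain ⟨T', hS', hinv⟩ := exists_inverse hF p hn hS
  have hux : InW q e f (x • u) := hu.smul x
  have hxx : H (x • u) (x • u) = 0 := iso_smul hF huu x
  have hTu := (hS.rel u hu).1
  have hTx := (hS.rel _ hux).1
  obtain ⟨a, b, hab⟩ := mem_span_of_perp hF hS.he (hS.he0 hF) (iso_image hF hn hS hu huu).1 hTu.1
    (iso_image hF hn hS hux hxx).1 hTx.1
    (orth_image hF hn hS hux hu hxx huu (by rw [H_smul_left, huu, mul_zero]))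
    fun s hs hse hsu => by
      set s' := s - H s f • e
      have hes : H e s = 0 := (H_eq_zero_comm hF).1 hse
      have hs'W : InW q e f s' :=
        ⟨by simp [s', H_sub_left, H_smul_left, hse, hS.he],
          by simp [s', H_sub_left, H_smul_left, hS.hef]⟩
      have hs's : H s' s' = 0 := by
        simp [s', H_sub_left, H_sub_right hF, H_smul_left, H_smul_right, hs, hse, hes, hS.he]
      have hs'u : H s' (T u) = 0 := by
        simp [s', H_sub_left, H_smul_left, hsu, (H_eq_zero_comm hF).1 hTu.1]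
      have hT's := (hS'.rel s' hs'W).1
      have hiso := (iso_image hF hn hS' hs'W hs's).1
      have hperp : H (T' s') u = 0 := by
        have := orth_image hF hn hS' hs'W hTu hs's (iso_image hF hn hS hu huu).1 hs'u
        rwa [(hinv u hu).1] at this
      have h2 := orth_image hF hn hS hux hT's hxx hiso
        (by rw [H_smul_left, (H_eq_zero_comm hF).1 hperp, mul_zero])
      rw [(hinv s' hs'W).2] at h2
      rw [show s = s' + H s f • e by simp [s'], H_add_right hF, H_smul_right, h2, hTx.1]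
      simp
  refine ⟨a, ?_⟩
  have h1 := hTx.2
  rw [hab, H_add_left, H_smul_left, H_smul_left, hTu.2, hS.hef, mul_zero, zero_add, mul_one] at h1
  rw [hab, h1, zero_smul, add_zero]

theorem conj_heis {y : SUn} {l : F} (he : mat y *ᵥ e = l • e) (hl : l ≠ 0) {s : SUn} {w : Vec}
    {a : F} (hs : IsHeis e s w a) :
    IsHeis e (y * s * y⁻¹) (l ^ q • (mat y *ᵥ w)) (l ^ (q + 1) * a) := fun x => by
  obtain ⟨z, rfl⟩ : ∃ z, mat y *ᵥ z = x :=
    ⟨mat y⁻¹ *ᵥ x, by rw [← mul_mulVec, mul_inv_cancel, mat_one, Matrix.one_mulVec]⟩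
  rw [mul_mulVec, inv_mulVec y rfl, mul_mulVec, hs z]
  have h1 : H (mat y *ᵥ z) e * l ^ q = H z e := by
    rw [mul_comm, ← H_smul_right, ← he, SU_H]
  simp only [Matrix.mulVec_sub, Matrix.mulVec_add, Matrix.mulVec_smul, he, H_smul_right, SU_H,
    pow_qq hF, ← h1]
  module

theorem ok_conj {y : SUn} {l : F} (he : mat y *ᵥ e = l • e) {w : Vec} {a : F} (hok : Ok q e w a)
    (hl : l ≠ 0) : Ok q e (l ^ q • (mat y *ᵥ w)) (l ^ (q + 1) * a) := by
  have h1 : H (mat y *ᵥ w) e * l ^ q = 0 := by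
    rw [mul_comm, ← H_smul_right, ← he, SU_H, hok.1]
  refine ⟨by rw [H_smul_left, (mul_eq_zero.1 h1).resolve_right (pow_ne_zero _ hl), mul_zero], ?_⟩
  have hN : (l ^ (q + 1)) ^ q = l ^ (q + 1) := by rw [pow_succ, mul_pow, pow_qq hF, mul_comm]
  rw [mul_pow, hN, H_smul_left, H_smul_right, pow_qq hF, SU_H, pow_succ]
  linear_combination (l ^ q * l) * hok.2

/-- An element stabilising both points. -/
theorem exists_conj_image (hn : 3 ≤ n) (hS : Setup β e f T) {y : SUn} {l μ : F}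
    (hye : mat y *ᵥ e = l • e) (hyf : mat y *ᵥ f = μ • f) :
    ∃ (y' : SUn) (l' μ' : F), β (QuotientGroup.mk y) = QuotientGroup.mk y' ∧
      mat y' *ᵥ e = l' • e ∧ mat y' *ᵥ f = μ' • f := by
  obtain ⟨y', hy'⟩ := QuotientGroup.mk_surjective (β (QuotientGroup.mk y : PSU n F q))
  have key : ∀ (v : Vec) (c : F), v ≠ 0 → H v v = 0 → (rootX v).map β.toMonoidHom = rootX (q := q) v →
      mat y *ᵥ v = c • v → ∃ c' : F, mat y' *ᵥ v = c' • v := by
    intro v c hv0 hv hβv hc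
    have hc0 : c ≠ 0 := fun h0 => mat_mulVec_ne_zero y hv0 (by rw [hc, h0, zero_smul])
    have h1 : (rootX v).map (MulAut.conj (QuotientGroup.mk y' : PSU n F q)).toMonoidHom =
        rootX (q := q) v := by
      have h2 := congrArg (fun S : Subgroup (PSU n F q) => S.map β.toMonoidHom)
        (show (rootX v).map (MulAut.conj (QuotientGroup.mk y : PSU n F q)).toMonoidHom = rootX v by
          rw [map_rootX_conj hF y hv, hc, rootX_smul hF hc0])
      simp only [hβv] at h2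
      conv_lhs => rw [← hβv, Subgroup.map_map]
      refine Eq.trans ?_ h2
      rw [Subgroup.map_map]
      congr 1
      refine MonoidHom.ext fun x => ?_
      change (QuotientGroup.mk y' : PSU n F q) * β x * (QuotientGroup.mk y')⁻¹ =
        β (QuotientGroup.mk y * x * (QuotientGroup.mk y)⁻¹)
      rw [map_mul, map_mul, map_inv, hy']
    rw [map_rootX_conj hF y' hv,
      rootX_eq_iff hF hn (mat_mulVec_ne_zero y' hv0) hv0 (by rw [SU_H, hv]) hv] at h1
    obtain ⟨a, ha, h1⟩ := h1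
    exact ⟨a⁻¹, (eq_inv_smul_iff₀ ha).2 h1.symm⟩
  obtain ⟨l', hl'⟩ := key e l (hS.he0 hF) hS.he hS.hβe hye
  obtain ⟨μ', hμ'⟩ := key f μ (f_ne_zero hF hS) hS.hf hS.hβf hyf
  exact ⟨y', l', μ', hy'.symm, hl', hμ'⟩

theorem inW_mulVec (hS : Setup β e f T) {y : SUn} {l μ : F} (hye : mat y *ᵥ e = l • e)
    (hyf : mat y *ᵥ f = μ • f) {w : Vec} (hw : InW q e f w) : InW q e f (mat y *ᵥ w) := by
  have hl : l ≠ 0 := fun h0 => mat_mulVec_ne_zero y (hS.he0 hF) (by rw [hye, h0, zero_smul])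
  have hμ : μ ≠ 0 := fun h0 => mat_mulVec_ne_zero y (f_ne_zero hF hS) (by rw [hyf, h0, zero_smul])
  constructor
  · have h1 := SU_H y w e
    rw [hye, H_smul_right, hw.1] at h1
    exact (mul_eq_zero.1 h1).resolve_left (pow_ne_zero _ hl)
  · have h1 := SU_H y w f
    rw [hyf, H_smul_right, hw.2] at h1
    exact (mul_eq_zero.1 h1).resolve_left (pow_ne_zero _ hμ)

include p in
theorem intertwine (hn : 3 ≤ n) (hS : Setup β e f T) {y : SUn} {l μ : F}
    (hye : mat y *ᵥ e = l • e) (hyf : mat y *ᵥ f = μ • f) :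
    ∃ (y' : SUn) (l' : F), β (QuotientGroup.mk y) = QuotientGroup.mk y' ∧ mat y' *ᵥ e = l' • e ∧
      l' ≠ 0 ∧ ∀ w : Vec, InW q e f w → T (l ^ q • (mat y *ᵥ w)) = l' ^ q • (mat y' *ᵥ T w) := by
  obtain ⟨y', l', μ', hy', hye', hyf'⟩ := exists_conj_image hF hn hS hye hyf
  have hl : l ≠ 0 := fun h0 => mat_mulVec_ne_zero y (hS.he0 hF) (by rw [hye, h0, zero_smul])
  have hl' : l' ≠ 0 := fun h0 => mat_mulVec_ne_zero y' (hS.he0 hF) (by rw [hye', h0, zero_smul])
  refine ⟨y', l', hy', hye', hl', fun w hw => ?_⟩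
  obtain ⟨a, hok⟩ := exists_ok hF hw.1
  obtain ⟨s', a', hok', hs', h⟩ := (hS.rel w hw).2 a _ hok (isHeis_heisEl hF hS.he hok)
  exact image_eq hF p hn hS ((inW_mulVec hF hS hye hyf hw).smul _) (ok_conj hF hye hok hl)
    (conj_heis hF hye hl (isHeis_heisEl hF hS.he hok))
    ((inW_mulVec hF hS hye' hyf' (hS.rel w hw).1).smul _) (ok_conj hF hye' hok' hl')
    (conj_heis hF hye' hl' hs')
    (by simp only [QuotientGroup.mk_mul, QuotientGroup.mk_inv, map_mul, map_inv, hy', h])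

/-- A unitary matrix scaling a hyperbolic pair. -/
theorem exists_pair_scale {u s : Vec} (hu : H u u = 0) (hs : H s s = 0) (hus : H u s = 1) {l : F}
    (hl0 : l ≠ 0) :
    ∃ g : Cfsg.GU n F q, (gmat g).det = l / l ^ q ∧ gmat g *ᵥ u = l • u ∧
      gmat g *ᵥ s = (l ^ q)⁻¹ • s ∧ ∀ x : Vec, H x u = 0 → H x s = 0 → gmat g *ᵥ x = x := by
  have hsu := hfe_of hF hus
  have hlq : l ^ q ≠ 0 := pow_ne_zero _ hl0
  have hm1 : (l - 1) ^ q = l ^ q - 1 := by
    rw [← HermStd.qHom_apply hF, map_sub, map_one, HermStd.qHom_apply]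
  have hm2 : ((l ^ q)⁻¹ - 1) ^ q = l⁻¹ - 1 := by
    rw [← HermStd.qHom_apply hF, map_sub, map_one, HermStd.qHom_apply, inv_pow, pow_qq hF]
  have hpres : ∀ x y, H (two q ((l - 1) • u) s (((l ^ q)⁻¹ - 1) • s) u *ᵥ x)
      (two q ((l - 1) • u) s (((l ^ q)⁻¹ - 1) • s) u *ᵥ y) = H x y := by
    intro x y
    simp only [two_mulVec, H_add_left, H_add_right hF, H_smul_left, H_smul_right, hu, hs, hus, hsu,
      H_conj hF, mul_pow, hm1, hm2]
    field_simp
    ring
  refine ⟨guMk hF _ hpres, ?_, ?_, ?_, fun x hxu hxs => ?_⟩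
  · change (two q ((l - 1) • u) s (((l ^ q)⁻¹ - 1) • s) u).det = _
    rw [det_two]
    simp only [H_smul_left, hu, hs, hus, hsu]
    ring
  · change two q ((l - 1) • u) s (((l ^ q)⁻¹ - 1) • s) u *ᵥ u = _
    rw [two_mulVec, hu, hus]; module
  · change two q ((l - 1) • u) s (((l ^ q)⁻¹ - 1) • s) u *ᵥ s = _
    rw [two_mulVec, hs, hsu]; module
  · change two q ((l - 1) • u) s (((l ^ q)⁻¹ - 1) • s) u *ᵥ x = _
    rw [two_mulVec, hxu, hxs]; simp

/-- A unitary matrix scaling a unit vector. -/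
theorem exists_unit_scale {w₀ : Vec} (hww : H w₀ w₀ = 1) {ν : F} (hν : ν ^ (q + 1) = 1) :
    ∃ g : Cfsg.GU n F q, (gmat g).det = ν ∧ gmat g *ᵥ w₀ = ν • w₀ ∧
      ∀ x : Vec, H x w₀ = 0 → gmat g *ᵥ x = x := by
  have hνν : ν ^ q * ν = 1 := by rw [← pow_succ, hν]
  have hm1 : (ν - 1) ^ q = ν ^ q - 1 := by
    rw [← HermStd.qHom_apply hF, map_sub, map_one, HermStd.qHom_apply]
  have hpres : ∀ x y, H (two q ((ν - 1) • w₀) w₀ 0 w₀ *ᵥ x) (two q ((ν - 1) • w₀) w₀ 0 w₀ *ᵥ y) =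
      H x y := by
    intro x y
    simp only [two_mulVec, smul_zero, add_zero, H_add_left, H_add_right hF, H_smul_left, H_smul_right,
      hww, H_conj hF, mul_pow, hm1]
    linear_combination (H x w₀ * H w₀ y) * hνν
  refine ⟨guMk hF _ hpres, ?_, ?_, fun x hx => ?_⟩
  · change (two q ((ν - 1) • w₀) w₀ 0 w₀).det = _
    rw [det_two, H_smul_left, hww, H_zero_left]
    ring
  · change two q ((ν - 1) • w₀) w₀ 0 w₀ *ᵥ w₀ = _
    rw [two_mulVec, hww]; module
  · change two q ((ν - 1) • w₀) w₀ 0 w₀ *ᵥ x = _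
    rw [two_mulVec, hx]; simp

/-- An element scaling `e`, `f` and the isotropic `u`. -/
theorem exists_torus (hS : Setup β e f T) {u : Vec} (hu : InW q e f u) (hu0 : u ≠ 0) (huu : H u u = 0)
    {l κ : F} (hl : l ≠ 0) (hκ : κ ^ q = κ) (hκ0 : κ ≠ 0) :
    ∃ (y : SUn) (l' μ : F), mat y *ᵥ e = l' • e ∧ mat y *ᵥ f = μ • f ∧
      l' ^ q • (mat y *ᵥ u) = (κ * (l / l ^ q)) • u := by
  obtain ⟨v, hv, huv, hve, hvf⟩ := exists_partner_in hF hS.he hS.hf hS.hef hu0 huu hu.1 hu.2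
  set l₁ := κ / l with hl₁
  have hl₁0 : l₁ ≠ 0 := div_ne_zero hκ0 hl
  obtain ⟨g₁, hd₁, he₁, hf₁, hfix₁⟩ := exists_pair_scale hF hS.he hS.hf hS.hef hl₁0
  obtain ⟨g₂, hd₂, hu₂, -, hfix₂⟩ := exists_pair_scale hF huu hv huv hl
  have hlq : l ^ q ≠ 0 := pow_ne_zero _ hl
  have hdet : (gmat (g₁ * g₂)).det = 1 := by
    rw [gmat_mul, Matrix.det_mul, hd₁, hd₂, hl₁, div_pow, hκ]
    field_simp
  refine ⟨suOfGU (g₁ * g₂) hdet, l₁, (l₁ ^ q)⁻¹, ?_, ?_, ?_⟩
  · change gmat (g₁ * g₂) *ᵥ e = _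
    rw [gmul_mulVec, hfix₂ e ((H_eq_zero_comm hF).1 hu.1) ((H_eq_zero_comm hF).1 hve), he₁]
  · change gmat (g₁ * g₂) *ᵥ f = _
    rw [gmul_mulVec, hfix₂ f ((H_eq_zero_comm hF).1 hu.2) ((H_eq_zero_comm hF).1 hvf), hf₁]
  · change l₁ ^ q • (gmat (g₁ * g₂) *ᵥ u) = _
    rw [gmul_mulVec, hu₂, Matrix.mulVec_smul, hfix₁ u hu.1 hu.2, smul_smul, hl₁, div_pow, hκ]
    congr 1
    field_simp

/-- An element scaling `e`, `f` and the unit vector `w₀` in dimension three. -/
theorem exists_torus_three (hS : Setup β e f T) {w₀ : Vec} (hw : InW q e f w₀) (hww : H w₀ w₀ = 1)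
    {l : F} (hl : l ≠ 0) :
    ∃ (y : SUn) (μ : F), mat y *ᵥ e = l • e ∧ mat y *ᵥ f = μ • f ∧
      l ^ q • (mat y *ᵥ w₀) = (l ^ q * (l ^ q / l)) • w₀ := by
  have hlq : l ^ q ≠ 0 := pow_ne_zero _ hl
  obtain ⟨g₁, hd₁, he₁, hf₁, hfix₁⟩ := exists_pair_scale hF hS.he hS.hf hS.hef hl
  obtain ⟨g₂, hd₂, hw₂, hfix₂⟩ := exists_unit_scale hF hww (ν := l ^ q / l) (by
    rw [pow_succ, div_pow, pow_qq hF]; field_simp)
  have hdet : (gmat (g₁ * g₂)).det = 1 := by
    rw [gmat_mul, Matrix.det_mul, hd₁, hd₂]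
    field_simp
  refine ⟨suOfGU (g₁ * g₂) hdet, (l ^ q)⁻¹, ?_, ?_, ?_⟩
  · change gmat (g₁ * g₂) *ᵥ e = _
    rw [gmul_mulVec, hfix₂ e ((H_eq_zero_comm hF).1 hw.1), he₁]
  · change gmat (g₁ * g₂) *ᵥ f = _
    rw [gmul_mulVec, hfix₂ f ((H_eq_zero_comm hF).1 hw.2), hf₁]
  · change l ^ q • (gmat (g₁ * g₂) *ᵥ w₀) = _
    rw [gmul_mulVec, hw₂, Matrix.mulVec_smul, hfix₁ w₀ hw.1 hw.2, smul_smul]

theorem exists_pow_not_fixed {k : ℕ} (hk : ¬ (q + 1) ∣ k) : ∃ l : F, l ≠ 0 ∧ (l ^ k) ^ q ≠ l ^ k := by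
  have hq := HermStd.one_lt_q hF
  obtain ⟨g, hg⟩ := IsCyclic.exists_generator (α := Fˣ)
  have hord : orderOf g = (q - 1) * (q + 1) := by
    rw [orderOf_eq_card_of_forall_mem_zpowers hg, natCard_units_F hF]
  refine ⟨g, g.ne_zero, fun h => hk ?_⟩
  have h1 : g ^ (k * (q - 1)) = 1 := by
    refine Units.ext (mul_right_cancel₀ (pow_ne_zero k g.ne_zero) ?_)
    rw [Units.val_one, one_mul, Units.val_pow_eq_pow_val, ← pow_add]
    conv_rhs => rw [← h, ← pow_mul]
    congr 1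
    rw [mul_tsub, mul_one, Nat.sub_add_cancel (Nat.le_mul_of_pos_right k (by omega))]
  have h2 := orderOf_dvd_of_pow_eq_one h1
  rw [hord, mul_comm k] at h2
  exact Nat.dvd_of_mul_dvd_mul_left (by omega) h2

theorem exists_ringEquiv (φ : F → F) (hadd : ∀ x y, φ (x + y) = φ x + φ y) (h1 : φ 1 = 1)
    (hinj : Function.Injective φ) (m₀ : F) (hm₀ : m₀ ^ q ≠ m₀)
    (hmul₀ : ∀ x, φ (m₀ * x) = φ m₀ * φ x)
    (hfix : ∀ m, m ^ q = m → ∀ x, φ (m * x) = φ m * φ x) : ∃ σ : F ≃+* F, ∀ x, σ x = φ x := by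
  have hzero : φ 0 = 0 := by
    have := hadd 0 0
    rw [add_zero] at this
    exact left_eq_add.1 this
  have hd : m₀ - m₀ ^ q ≠ 0 := sub_ne_zero.2 (Ne.symm hm₀)
  have hall : ∀ m x, φ (m * x) = φ m * φ x := by
    intro m x
    set b := (m - m ^ q) / (m₀ - m₀ ^ q) with hb
    have hbq : b ^ q = b := by
      rw [hb, div_pow, ← HermStd.qHom_apply hF, ← HermStd.qHom_apply hF (m₀ - m₀ ^ q), map_sub,
        map_sub]
      simp only [HermStd.qHom_apply, pow_qq hF]
      rw [← neg_div_neg_eq, neg_sub, neg_sub]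
    set a := m - b * m₀ with ha
    have hb2 : b * (m₀ - m₀ ^ q) = m - m ^ q := div_mul_cancel₀ _ hd
    have haq : a ^ q = a := by
      rw [ha, ← HermStd.qHom_apply hF, map_sub, map_mul]
      simp only [HermStd.qHom_apply, hbq]
      linear_combination hb2
    have key : ∀ y, φ (m * y) = φ a * φ y + φ b * (φ m₀ * φ y) := fun y => by
      rw [show m * y = a * y + b * (m₀ * y) by rw [ha]; ring, hadd, hfix a haq, hfix b hbq, hmul₀]
    have hm : φ m = φ a + φ b * φ m₀ := by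
      rw [← hfix b hbq, ← hadd, ha, sub_add_cancel]
    rw [key, hm]
    ring
  let ψ : F →+* F :=
    { toFun := φ, map_one' := h1, map_mul' := hall, map_zero' := hzero, map_add' := hadd }
  exact ⟨RingEquiv.ofBijective ψ ⟨hinj, Finite.injective_iff_surjective.1 hinj⟩, fun _ => rfl⟩

include p in
theorem T_injective (hn : 3 ≤ n) (hS : Setup β e f T) {w w' : Vec} (hw : InW q e f w)
    (hw' : InW q e f w') (h : T w = T w') : w = w' := by
  obtain ⟨T', -, hinv⟩ := exists_inverse hF p hn hS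
  rw [← (hinv w hw).1, h, (hinv w' hw').1]

include p in
theorem exists_sigma_at (hn : 3 ≤ n) (hS : Setup β e f T) {u : Vec} (hu : InW q e f u) (hu0 : u ≠ 0)
    (hline : ∀ x : F, ∃ c : F, T (x • u) = c • T u) (m₀ : F) (hm₀ : m₀ ^ q ≠ m₀)
    (htor : ∀ m, m ≠ 0 → (m ^ q = m ∨ m = m₀) → ∃ (y : SUn) (l μ : F),
      mat y *ᵥ e = l • e ∧ mat y *ᵥ f = μ • f ∧ l ^ q • (mat y *ᵥ u) = m • u) :
    ∃ σ : F ≃+* F, ∀ x : F, T (x • u) = σ x • T u := by
  choose φ hφ using hline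
  have hTu : T u ≠ 0 := fun h0 => hu0 (T_injective hF p hn hS hu ⟨H_zero_left e, H_zero_left f⟩
    (by rw [h0, T_zero hF p hn hS]))
  have hsi := smul_left_injective F hTu
  have h1 : φ 1 = 1 := hsi (by simp only [← hφ, one_smul])
  have hadd : ∀ x y, φ (x + y) = φ x + φ y := fun x y => hsi (by
    simp only [add_smul, ← hφ]
    rw [T_add hF p hn hS (hu.smul x) (hu.smul y)])
  have hzero : φ 0 = 0 := hsi (by simp only [zero_smul, ← hφ, T_zero hF p hn hS])
  have hinj : Function.Injective φ := fun x y h =>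
    smul_left_injective F hu0 (T_injective hF p hn hS (hu.smul x) (hu.smul y) (by rw [hφ, hφ, h]))
  have hmul : ∀ m, (m ^ q = m ∨ m = m₀) → ∀ x, φ (m * x) = φ m * φ x := by
    intro m hm x
    by_cases hm0 : m = 0
    · rw [hm0, zero_mul, hzero, zero_mul]
    obtain ⟨y, l, μ, hye, hyf, hyu⟩ := htor m hm0 hm
    obtain ⟨y', l', -, -, -, hT⟩ := intertwine hF p hn hS hye hyf
    have key : ∀ z, φ (m * z) • T u = φ z • (l' ^ q • (mat y' *ᵥ T u)) := fun z => by
      rw [← hφ, mul_comm, ← smul_smul, ← hyu, smul_comm, ← Matrix.mulVec_smul, hT _ (hu.smul z), hφ,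
        Matrix.mulVec_smul, smul_comm]
    have h2 := key 1
    rw [mul_one, h1, one_smul] at h2
    have h3 := key x
    rw [← h2, smul_smul, mul_comm (φ x)] at h3
    exact hsi h3
  obtain ⟨σ, hσ⟩ := exists_ringEquiv hF φ hadd h1 hinj m₀ hm₀ (hmul m₀ (Or.inr rfl))
    fun m hm => hmul m (Or.inl hm)
  exact ⟨σ, fun x => by rw [hσ, hφ]⟩

include p in
theorem sigma_iso (hn : 3 ≤ n) (hS : Setup β e f T) {u : Vec} (hu : InW q e f u) (hu0 : u ≠ 0)
    (huu : H u u = 0) : ∃ σ : F ≃+* F, ∀ x : F, T (x • u) = σ x • T u := by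
  have hq := HermStd.one_lt_q hF
  obtain ⟨l, hl, hl'⟩ := exists_pow_not_fixed hF (k := q - 1) (fun h => by
    have := Nat.le_of_dvd (by omega) h; omega)
  have hlq : l ^ q = l ^ (q - 1) * l := by rw [← pow_succ, Nat.sub_add_cancel hq.le]
  have hm₀ : (l / l ^ q) ^ q ≠ l / l ^ q := fun h => hl' (by
    have h1 : l / l ^ q = (l ^ (q - 1))⁻¹ := by rw [hlq]; field_simp
    rw [h1, inv_pow, _root_.inv_inj] at h
    exact h)
  refine exists_sigma_at hF p hn hS hu hu0 (line_image hF p hn hS hu huu) _ hm₀ fun m hm0 hm => ?_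
  rcases hm with hm | rfl
  · obtain ⟨y, l', μ, h1, h2, h3⟩ := exists_torus hF hS hu hu0 huu one_ne_zero hm hm0
    exact ⟨y, l', μ, h1, h2, by rw [h3, one_pow, div_one, mul_one]⟩
  · obtain ⟨y, l', μ, h1, h2, h3⟩ := exists_torus hF hS hu hu0 huu hl (one_pow q) one_ne_zero
    exact ⟨y, l', μ, h1, h2, by rw [h3, one_mul]⟩

include p in
theorem exists_semilinear (hn : 3 ≤ n) (h32 : ¬ (n = 3 ∧ q = 2)) (hS : Setup β e f T) :
    ∃ σ : F ≃+* F, ∀ (x : F) (w : Vec), InW q e f w → T (x • w) = σ x • T w := by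
  have hq := HermStd.one_lt_q hF
  have hfe := hfe_of hF hS.hef
  by_cases h3 : n = 3
  · obtain ⟨w₀, hwe, hwf, hww⟩ := (exists_perp_pair hF hn hS.he hS.hf hS.hef).1
    have hw₀ : InW q e f w₀ := ⟨hwe, hwf⟩
    have hw0 : w₀ ≠ 0 := fun h0 => by rw [h0, H_zero_left] at hww; exact zero_ne_one hww
    have hall : ∀ w, InW q e f w → w = H w w₀ • w₀ := fun w hw => by
      refine sub_eq_zero.1 (eq_zero_three hF h3 hS.he hS.hf hS.hef hwe hwf hww ?_ ?_ ?_) <;>
        simp [H_sub_left, H_smul_left, hw.1, hw.2, hwe, hwf, hww]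
    have hTw : T w₀ ≠ 0 := fun h0 => hw0 (T_injective hF p hn hS hw₀ ⟨H_zero_left e, H_zero_left f⟩
      (by rw [h0, T_zero hF p hn hS]))
    have hline : ∀ x : F, ∃ c : F, T (x • w₀) = c • T w₀ := fun x => by
      have ha := hall _ (hS.rel _ (hw₀.smul x)).1
      have hb := hall _ (hS.rel _ hw₀).1
      have hne : H (T w₀) w₀ ≠ 0 := fun h0 => hTw (by rw [hb, h0, zero_smul])
      refine ⟨H (T (x • w₀)) w₀ / H (T w₀) w₀, ?_⟩
      calc T (x • w₀) = H (T (x • w₀)) w₀ • w₀ := ha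
        _ = (H (T (x • w₀)) w₀ / H (T w₀) w₀) • (H (T w₀) w₀ • w₀) := by
          rw [smul_smul, div_mul_cancel₀ _ hne]
        _ = _ := by rw [← hb]
    obtain ⟨l, hl, hl'⟩ := exists_pow_not_fixed hF (k := 2 * q - 1) (fun h => by
      have h1 : q + 1 ∣ 2 * (q + 1) - (2 * q - 1) := Nat.dvd_sub (dvd_mul_left _ _) h
      rw [show 2 * (q + 1) - (2 * q - 1) = 3 by omega] at h1
      exact h32 ⟨h3, by have := Nat.le_of_dvd (by omega) h1; omega⟩)
    have hm : ∀ z : F, z ≠ 0 → z ^ (2 * q - 1) = z ^ q * (z ^ q / z) := fun z hz => by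
      rw [← mul_div_assoc, ← pow_add, eq_div_iff hz, ← pow_succ, show 2 * q - 1 + 1 = q + q by omega]
    obtain ⟨σ, hσ⟩ := exists_sigma_at hF p hn hS hw₀ hw0 hline _ hl' fun m hm0 hmm => by
      rcases hmm with hmm | rfl
      · obtain ⟨y, μ, h1, h2, h4⟩ := exists_torus_three hF hS hw₀ hww hm0
        exact ⟨y, m, μ, h1, h2, by rw [h4, hmm, div_self hm0, mul_one]⟩
      · obtain ⟨y, μ, h1, h2, h4⟩ := exists_torus_three hF hS hw₀ hww hl
        exact ⟨y, l, μ, h1, h2, by rw [h4, hm l hl]⟩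
    refine ⟨σ, fun x w hw => ?_⟩
    rw [hall w hw, smul_smul, hσ, hσ, map_mul, smul_smul]
  obtain ⟨r, hr0, hrr, hre, hrf⟩ := (exists_perp_pair hF hn hS.he hS.hf hS.hef).2 (by omega)
  obtain ⟨σ, hσ⟩ := sigma_iso hF p hn hS ⟨hre, hrf⟩ hr0 hrr
  have hiso : ∀ u, InW q e f u → H u u = 0 → ∀ x : F, T (x • u) = σ x • T u := by
    intro u hu huu x
    by_cases hpar : ∃ c : F, u = c • r
    · obtain ⟨c, rfl⟩ := hpar
      rw [smul_smul, hσ, hσ, map_mul, smul_smul]
    push Not at hpar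
    have hu0 : u ≠ 0 := fun h0 => hpar 0 (by rw [h0, zero_smul])
    obtain ⟨σ', hσ'⟩ := sigma_iso hF p hn hS hu hu0 huu
    obtain ⟨c, hc0, hciso⟩ : ∃ c : F, c ≠ 0 ∧ H (r + c • u) (r + c • u) = 0 := by
      by_cases hk : H r u = 0
      · exact ⟨1, one_ne_zero, by
          simp [H_add_left, H_add_right hF, hrr, huu, hk, (H_eq_zero_comm hF).1 hk]⟩
      · obtain ⟨d, hd0, hd⟩ := exists_traceZero hF
        refine ⟨d / H r u ^ q, div_ne_zero hd0 (pow_ne_zero _ hk), ?_⟩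
        simp only [H_add_left, H_add_right hF, H_smul_left, H_smul_right, hrr, huu, ← H_conj hF r u,
          div_pow, pow_qq hF]
        field_simp
        linear_combination (H r u * H r u ^ q) * hd
    have hrW : InW q e f (r + c • u) := (show InW q e f r from ⟨hre, hrf⟩).add (hu.smul c)
    obtain ⟨σ'', hσ''⟩ := sigma_iso hF p hn hS hrW (fun h0 => hpar (-c⁻¹) (by
      rw [add_eq_zero_iff_eq_neg] at h0
      rw [h0, neg_smul, smul_neg, neg_neg, smul_smul, inv_mul_cancel₀ hc0, one_smul])) hciso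
    have hsum : ∀ z : F, T (z • (r + c • u)) = σ z • T r + (σ' z * σ' c) • T u := fun z => by
      rw [smul_add, T_add hF p hn hS ((show InW q e f r from ⟨hre, hrf⟩).smul z) ((hu.smul c).smul z),
        hσ, smul_smul, hσ', map_mul]
    have heq : σ' = σ := RingEquiv.ext fun z => by
      have h1 := hσ'' z
      rw [hsum] at h1
      have h0 := hsum 1
      rw [one_smul, map_one, map_one, one_smul, one_mul] at h0
      rw [h0, smul_add, smul_smul] at h1
      have h2 : (σ z - σ'' z) • T r = ((σ'' z - σ' z) * σ' c) • T u := by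
        linear_combination (norm := module) h1
      have hind : ∀ a b : F, a • T r = b • T u → a = 0 ∧ b = 0 := by
        intro a b hab
        have hTu : T u ≠ 0 := fun h0 => hu0 (T_injective hF p hn hS hu ⟨H_zero_left e, H_zero_left f⟩
          (by rw [h0, T_zero hF p hn hS]))
        by_cases hb : b = 0
        · rw [hb, zero_smul, smul_eq_zero] at hab
          refine ⟨hab.resolve_right fun h0 => hr0 (T_injective hF p hn hS ⟨hre, hrf⟩
            ⟨H_zero_left e, H_zero_left f⟩ (by rw [h0, T_zero hF p hn hS])), hb⟩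
        · exfalso
          have h4 : T u = T (σ.symm (b⁻¹ * a) • r) := by
            rw [hσ, σ.apply_symm_apply, ← smul_smul, hab, inv_smul_smul₀ hb]
          exact hpar _ (T_injective hF p hn hS hu ((show InW q e f r from ⟨hre, hrf⟩).smul _) h4)
      obtain ⟨h5, h6⟩ := hind _ _ h2
      have h7 := sub_eq_zero.1 ((mul_eq_zero.1 h6).resolve_right ((map_ne_zero σ').2 hc0))
      exact h7.symm.trans (sub_eq_zero.1 h5).symm
    rw [hσ', heq]
  let S : Submodule F Vec :=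
    { carrier := {w | H w e = 0 ∧ ∀ x : F, T (x • prW q e f w) = σ x • T (prW q e f w)}
      zero_mem' := ⟨H_zero_left e, fun x => by simp [prW, H_zero_left, T_zero hF p hn hS]⟩
      add_mem' := fun {a b} ⟨ha, ha'⟩ ⟨hb, hb'⟩ => ⟨by rw [H_add_left, ha, hb, add_zero], fun x => by
        have hA := prW_inW hF hS.he hS.hf hS.hef a
        have hB := prW_inW hF hS.he hS.hf hS.hef b
        have : prW q e f (a + b) = prW q e f a + prW q e f b := by
          simp only [prW, H_add_left]; module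
        rw [this, smul_add, T_add hF p hn hS (hA.smul x) (hB.smul x), ha', hb',
          T_add hF p hn hS hA hB, smul_add]⟩
      smul_mem' := fun t a ⟨ha, ha'⟩ => ⟨by rw [H_smul_left, ha, mul_zero], fun x => by
        have : prW q e f (t • a) = t • prW q e f a := by simp only [prW, H_smul_left]; module
        rw [this, smul_smul, ha', ha', map_mul, smul_smul]⟩ }
  have hprW : ∀ w, InW q e f w → prW q e f w = w := fun w hw => by simp [prW, hw.1, hw.2]
  refine ⟨σ, fun x w hw => ?_⟩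
  have hmem : w ∈ S := by
    refine exists_span hF hn hS.he (hS.he0 hF) S ⟨hS.he, fun x => by
      simp [prW, hS.he, hS.hef, T_zero hF p hn hS]⟩
      (fun s hs hse => ⟨hse, fun x => hiso _ (prW_inW hF hS.he hS.hf hS.hef s) ?_ x⟩)
      (fun h => absurd h h3) w hw.1
    simp [prW, hse, H_sub_left, H_sub_right hF, H_smul_left, H_smul_right, hs, hS.he,
      (H_eq_zero_comm hF).1 hse]
  have := hmem.2 x
  rwa [hprW w hw] at this

include p in
theorem exists_similitude (hn : 3 ≤ n) (h32 : ¬ (n = 3 ∧ q = 2)) (hS : Setup β e f T) :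
    ∃ (σ : F ≃+* F) (B : F), B ≠ 0 ∧ B ^ q = B ∧
      (∀ (x : F) (w : Vec), InW q e f w → T (x • w) = σ x • T w) ∧
      ∀ w w' : Vec, InW q e f w → InW q e f w' → H (T w) (T w') = B * σ (H w w') := by
  obtain ⟨σ, hσ⟩ := exists_semilinear hF p hn h32 hS
  obtain ⟨τ, hτ⟩ := exists_tau hF hS
  obtain ⟨w₀, hwe, hwf, hww⟩ := (exists_perp_pair hF hn hS.he hS.hf hS.hef).1
  have hw₀ : InW q e f w₀ := ⟨hwe, hwf⟩
  set B := H (T w₀) (T w₀)
  have hBq : B ^ q = B := H_conj hF _ _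
  have hform : ∀ w w', InW q e f w → InW q e f w' → H (T w) (T w') = B * σ (H w w') := by
    intro w w' hw hw'
    set A := H w w'
    set D := H (T w) (T w') - B * σ A
    have key : ∀ x : F, (σ x * D) ^ q = σ x * D := by
      intro x
      have h1 := pairing hF p hn hS hτ (hw.smul x) hw'
      have h2 := pairing hF p hn hS hτ (hw₀.smul (x * A)) hw₀
      rw [H_smul_left, H_smul_right, ← H_conj hF w w', hσ x w hw, H_smul_left, H_smul_right,
        ← H_conj hF (T w) (T w'), ← mul_pow, ← mul_pow] at h1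
      rw [H_smul_left, H_smul_right, hww, hσ (x * A) w₀ hw₀, H_smul_left, H_smul_right, mul_one,
        mul_one, map_mul] at h2
      rw [h1] at h2
      simp only [D]
      rw [← HermStd.qHom_apply hF, mul_sub, map_sub, HermStd.qHom_apply, HermStd.qHom_apply]
      simp only [mul_pow, hBq] at h2 ⊢
      linear_combination -h2
    obtain ⟨t, ht⟩ : ∃ t : F, t ^ q ≠ t := by
      by_contra h
      push Not at h
      exact HermStd.qHom_ne_id hF (RingHom.ext h)
    have hD : D ^ q = D := by simpa using key 1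
    have h2 := key (σ.symm t)
    rw [σ.apply_symm_apply, mul_pow, hD] at h2
    by_contra hne
    exact ht (mul_right_cancel₀ (sub_ne_zero.2 hne : D ≠ 0) h2)
  refine ⟨σ, B, fun hB => ?_, hBq, hσ, hform⟩
  obtain ⟨T', hS', hinv⟩ := exists_inverse hF p hn hS
  have hTw := (hS.rel w₀ hw₀).1
  have h0 : T w₀ = 0 := eq_zero_of_H hF fun z => by
    have hz := prW_inW hF hS.he hS.hf hS.hef z
    have h1 := hform w₀ (T' (prW q e f z)) hw₀ (hS'.rel _ hz).1
    rw [(hinv _ hz).2, hB, zero_mul] at h1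
    rw [← H_conj hF, ← H_prW hF hTw z, H_conj hF, h1]
  have : w₀ = 0 := T_injective hF p hn hS hw₀ ⟨H_zero_left e, H_zero_left f⟩ (by rw [h0, T_zero hF p hn hS])
  rw [this, H_zero_left] at hww
  exact zero_ne_one hww

end Cfsg.Agent.AutPSU.Semilinear
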